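import Cfsg.Agent.H2.IdM

/-! Simple groups of order 7920: Sylow 3-normalizer (`M11.am`, `M11.cardN3`), Sylow 5 (`M11.syl5`), character degrees
(`M11.degsum`). -/

set_option autoImplicit false
set_option linter.unusedSectionVars false
open Cfsg H5 H10 H18 H22 Subgroup
open scoped MatrixGroups

namespace H2
namespace M11

instance fact5 : Fact (Nat.Prime 5) := ⟨by norm_num⟩

theorem dvd_deg_iff {G : Type*} [Group G] [Fintype G] {p : ℕ} [hp : Fact p.Prime] {P : Sylow p G} {e t : ℕ}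
    (D : PB P e t) (S : SC P) (χ : IrrCharacter G) : p ∣ charDegree (χ : G → ℂ) ↔ χ ∉ D.X ∧ χ ∉ D.Y := by
  have := Fintype.ofFinite (P : Subgroup G)
  have u : ∀ {a : ℤ}, a = 1 ∨ a = -1 → ∀ {n m : ℕ}, (n : ℤ) ≡ a * m [ZMOD p] → p ∣ n → p ∣ m := fun ha n m h hd => by
    have := (Int.ModEq.dvd_iff h).1 (Int.natCast_dvd_natCast.2 hd)
    rcases ha with rfl | rfl <;> simpa [Int.natCast_dvd_natCast] using this
  refine ⟨fun h => ⟨fun hX => ?_, fun hY => ?_⟩, fun ⟨h1, h2⟩ => ?_⟩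
  · exact hp.out.one_lt.ne' (Nat.dvd_one.1 (u (D.δ_sign χ hX) (by simpa using D.degX χ hX) h))
  · have := Nat.le_of_dvd D.e_pos (u D.ε_sign D.f_mod (D.degY χ hY ▸ h))
    nlinarith [D.te, D.t_pos]
  · obtain ⟨m, hm⟩ := exists_avg_one (P : Subgroup G) χ.2.isCharacter
    exact ⟨m, (D.avg_out' S h1 h2 hm).symm⟩

theorem ord_mul {G : Type*} [Group G] [Finite G] {P : Subgroup G} {p r : ℕ} (hp : p.Prime) (hr : r.Prime) (ne : p ≠ r)
    (h1 : p ∣ Nat.card P) (h2 : r ∣ Nat.card 𝐂[P]) : ∃ g : G, orderOf g = p * r := by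
  have := Fact.mk hr
  have := Fact.mk hp
  obtain ⟨⟨g, hg⟩, e⟩ := exists_prime_orderOf_dvd_card' r h2
  obtain ⟨⟨x, hx⟩, f⟩ := exists_prime_orderOf_dvd_card' p h1
  rw [← orderOf_coe] at e f
  exact ⟨x * g, ((show Commute x g from mem_CC.1 hg x hx).orderOf_mul_eq_mul_orderOf_of_coprime (by
    rw [e, f]; exact (Nat.coprime_primes hp hr).2 ne)).trans (by rw [e, f])⟩

theorem idx_N {G : Type*} [Group G] [Finite G] {p : ℕ} [Fact p.Prime] (P : Sylow p G) :
    Nat.card (Sylow p G) * Nat.card 𝐍[(P : Subgroup G)] = Nat.card G := by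
  rw [P.card_eq_index_normalizer]; exact index_mul_card _

variable {G : Type*} [Group G] [Finite G] [IsSimpleGroup G] (hc : Nat.card G = 7920)
include hc

theorem am : ∃ (σ : H48 →* G) (n : G), Id.G48.Am σ n ∧ Id.G48.HZ σ := by
  obtain ⟨σ, h⟩ := emb hc
  obtain ⟨n, h1, h2⟩ := h.swap (by decide : NI D48.ζ Id.G48.T)
    (by decide : Id.G48.I * Id.G48.J * Id.G48.T * (Id.G48.I * Id.G48.J * Id.G48.T) = 1) (by decide)
  have h : Id.G48.Am σ n := ⟨h, h1, h2⟩
  by_contra! hn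
  have A2 := not_imp_comm.1 (fun A _ => h.czt A) (hn σ n h)
  have A1 := not_imp_comm.1 (fun A x hx e => h.ct' A (Id.G48.Am.aR (σ := σ) ▸ hx) e) (hn _ _ h.alt)
  have := (Id.G48.bdL _ (h.rel_app (l := [_, _]) (by
    simpa [Id.G48.g0, Id.G48.g1, Id.G48.g2, Id.G48.g3, Id.G48.g4, Id.G48.g5, Id.G48.g6, Id.G48.g7, Id.G48.ti, h.ni,
      mul_assoc] using And.intro (Id.G48.comm_rel A1) (Id.G48.comm_rel A2)))).2
  rw [h.top (by rw [hc]; norm_num), card_top] at this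
  omega

theorem cardN3 (P : Sylow 3 G) : Nat.card 𝐍[(P : Subgroup G)] = 144 := by
  obtain ⟨σ, n, h, hz⟩ := am hc
  have c9 := h.card9 hz (by rw [hc]; norm_num)
  let Q : Sylow 3 G := Sylow.ofCard _ (c9.trans (by
    rw [hc, show 7920 = 3 ^ 2 * 880 by norm_num, Nat.factorization_mul_apply_of_coprime (by norm_num),
      Nat.prime_three.factorization_pow, Nat.factorization_eq_zero_of_not_dvd (by norm_num)]; simp))
  have e1 := idx_N P
  have e2 := idx_N Q
  rw [hc, show Nat.card 𝐍[(Q : Subgroup G)] = 144 from (h.cardN hz (.inr hc)).2] at e2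
  rw [show Nat.card (Sylow 3 G) = 55 by omega] at e1
  omega

theorem syl5 (P : Sylow 5 G) : SC P ∧ 𝐂[(P : Subgroup G)].relIndex 𝐍[(P : Subgroup G)] = 4 := by
  have hP := card_sylow_eq_prime (m := 1584) hc (by norm_num) P
  have h := card_sylow_mul_eq P
  have e1 := relIndex_centralizer_ne_one (commutator_eq_top_of_simple (nc hc)) P (by rw [hc]; norm_num)
  have e2 := relIndex_centralizer_dvd hP
  have n2 := card_sylow_modEq_one 5 G
  obtain ⟨c, hc'⟩ := card_dvd_of_le (comm_of_card_prime hP)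
  have c2 : ¬ 2 ∣ c := fun d => by
    obtain ⟨g, e⟩ := ord_mul Nat.prime_five Nat.prime_two (by norm_num) hP.symm.dvd (hc' ▸ d.mul_left _)
    exact (invol hc).2 g (by rw [e]; norm_num) (by rw [e]; norm_num)
  have c11 : ¬ 11 ∣ c := fun d => by
    obtain ⟨g, e⟩ := ord_mul Nat.prime_five fact11.out (by norm_num) hP.symm.dvd (hc' ▸ d.mul_left _)
    exact no22 hc (g := g) (by rw [e]; norm_num) Nat.prime_five (by norm_num) (by rw [e]; norm_num)
  rw [hc', hP, hc] at h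
  have k := (by decide +kernel : ∀ c ∈ Nat.divisors 1584, ∀ e ∈ Nat.divisors 4, ¬ 2 ∣ c → ¬ 11 ∣ c → e ≠ 1 →
    1584 / (e * c) % 5 = 1 → c = 1 ∧ e = 4) c (Nat.mem_divisors.2 ⟨Dvd.intro_left (Nat.card (Sylow 5 G) * 𝐂[(P : Subgroup G)].relIndex 𝐍[(P : Subgroup G)]) (by linarith), by norm_num⟩) _
    (Nat.mem_divisors.2 ⟨e2, by norm_num⟩) c2 c11 e1 (by
      rw [Nat.div_eq_of_eq_mul_left (k := Nat.card (Sylow 5 G)) (Nat.pos_of_ne_zero fun j => by
        rw [mul_left_comm _ 5, j] at h; omega) (by linarith)]; exact n2)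
  exact ⟨⟨hP, (eq_of_card_eq (comm_of_card_prime hP) (by rw [hc', hP, k.1])).symm⟩, k.2⟩

theorem degsum [Fintype G] (F : ℕ → ℕ) : ∑ χ : IrrCharacter G, F (charDegree (χ : G → ℂ)) =
    F 1 + F 45 + 3 * F 10 + 2 * F 16 + (F 11 + F 44 + F 55) := by
  classical
  obtain ⟨P⟩ : Nonempty (Sylow 11 G) := inferInstance
  obtain ⟨Q⟩ : Nonempty (Sylow 5 G) := inferInstance
  obtain ⟨D, ψ, a, b, c, -, hf, dψ, da, db, dc, -, -, -, -, sm⟩ := blk hc P
  obtain ⟨S5, e5⟩ := syl5 hc Q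
  obtain ⟨E⟩ := exists_PB (by norm_num) Q S5.hP e5 (by norm_num)
  have base : ∀ F : ℕ → ℕ, ∑ χ : IrrCharacter G, F (charDegree (χ : G → ℂ)) =
      F 1 + F 45 + 3 * F 10 + 2 * F 16 + ∑ χ ∈ (D.X ∪ D.Y)ᶜ, F (charDegree (χ : G → ℂ)) := fun F => by
    rw [← Finset.sum_add_sum_compl (D.X ∪ D.Y), Finset.sum_union D.disj, sm, dψ, da, db, dc,
      Finset.sum_congr rfl fun θ h => congrArg F ((D.degY θ h).trans hf), charDegree_eq_of_apply_one (n := 1) (by simp),
      Finset.sum_const, D.cardY]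
    ring
  rw [base]
  congr 1
  have d11 : ∀ χ ∈ (D.X ∪ D.Y)ᶜ, 11 ∣ charDegree (χ : G → ℂ) := fun χ h =>
    (dvd_deg_iff D (syl11 hc P).1 χ).2 (by simpa using h)
  have s1 := base (· ^ 2)
  have s2 := base fun n => if 5 ∣ n then 0 else 1
  have h' : ∑ χ : IrrCharacter G, charDegree (χ : G → ℂ) ^ 2 = 7920 := by
    have h := sum_sq_degrees (G := G)
    rw [Finset.sum_congr rfl (g := fun χ : IrrCharacter G => (charDegree (χ : G → ℂ) : ℂ) ^ 2)
      fun χ _ => by rw [χ.2.coe_charDegree], hc] at h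
    exact_mod_cast h
  rw [← Finset.sum_add_sum_compl (E.X ∪ E.Y), Finset.sum_congr rfl (g := fun _ => 1) fun χ h => if_neg (by
    rw [dvd_deg_iff E S5]; rw [Finset.mem_union] at h; tauto), Finset.sum_eq_zero (s := (E.X ∪ E.Y)ᶜ) fun χ h => if_pos (by
    rw [dvd_deg_iff E S5]; simpa using h), Finset.sum_const, Finset.card_union_of_disjoint E.disj, E.cardX, E.cardY,
    Finset.sum_ite, Finset.sum_const_zero, Finset.sum_const] at s2
  generalize (D.X ∪ D.Y)ᶜ = R at *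
  obtain ⟨u, v, uv, e⟩ := Finset.card_eq_two.1
    (show (R.filter fun χ : IrrCharacter G => ¬ 5 ∣ charDegree (χ : G → ℂ)).card = 2 by simp at s2; omega)
  have h55 : ∀ χ ∈ R.filter fun χ : IrrCharacter G => 5 ∣ charDegree (χ : G → ℂ), charDegree (χ : G → ℂ) = 55 := fun χ h => by
    obtain ⟨h1, h2⟩ := Finset.mem_filter.1 h
    obtain ⟨k, hk⟩ := Nat.Coprime.mul_dvd_of_dvd_of_dvd (by norm_num) h2 (d11 χ h1)
    have := Finset.single_le_sum (f := fun χ : IrrCharacter G => charDegree (χ : G → ℂ) ^ 2) (fun _ _ => Nat.zero_le _) h1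
    have p := χ.2.charDegree_pos
    simp only [hk] at this p ⊢
    have : k < 2 := by by_contra j; nlinarith [Nat.mul_le_mul (not_lt.1 j) (not_lt.1 j)]
    omega
  have sp : ∀ F : ℕ → ℕ, ∑ χ ∈ R, F (charDegree (χ : G → ℂ)) = (R.filter fun χ : IrrCharacter G =>
      5 ∣ charDegree (χ : G → ℂ)).card * F 55 + (F (charDegree (u : G → ℂ)) + F (charDegree (v : G → ℂ))) := fun F => by
    rw [← Finset.sum_filter_add_sum_filter_not R fun χ : IrrCharacter G => 5 ∣ charDegree (χ : G → ℂ), e,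
      Finset.sum_pair uv, Finset.sum_congr rfl fun χ h => congrArg F (h55 χ h), Finset.sum_const, smul_eq_mul]
  obtain ⟨x, hx⟩ := d11 u (Finset.mem_filter.1 (e.ge (by simp))).1
  obtain ⟨y, hy⟩ := d11 v (Finset.mem_filter.1 (e.ge (by simp))).1
  rw [h', sp (· ^ 2), hx, hy] at s1
  rw [sp, hx, hy]
  generalize (R.filter fun χ : IrrCharacter G => 5 ∣ charDegree (χ : G → ℂ)).card = j at *
  have s : 25 * j + (x * x + y * y) = 42 := by simp only [mul_pow] at s1; nlinarith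
  have x7 : x < 7 := by nlinarith
  have y7 : y < 7 := by nlinarith
  have : j = 1 ∧ (x = 1 ∧ y = 4 ∨ x = 4 ∧ y = 1) := by
    clear * - s x7 y7
    interval_cases x <;> interval_cases y <;> omega
  obtain ⟨rfl, ⟨rfl, rfl⟩ | ⟨rfl, rfl⟩⟩ := this <;> ring

end M11
end H2
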