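import Cfsg.Agent.H2.Schmidt
import Cfsg.Agent.H17.Fact
import Cfsg.Agent.H4.CL
import Cfsg.Agent.H21.Kazarin
import Cfsg.Agent.H21.PLen
import Cfsg.Agent.H9.Dihedral
import Cfsg.Agent.S3011

/-! Factorized groups: Wielandt's theorem on nilpotent Hall subgroups (`nil_hall_le_cj`), products `H17.Mul2`
(`mul2_cj`, `mul2_sylow`, `perm2_of_hall`, `perm2_cj`), Kegel's lemma (`exists_kegel`, `kegel_proper`), triple
factorizations (`nil_of_triple`), the Kegel-Wielandt theorem `kegel_wielandt`, `exists_nml_ge_factor`, Itô's theorems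
(`ito`, `ito_nml`) and the derived length of a product of an abelian group and a group of class two (`dser_class_two`). -/

set_option autoImplicit false
set_option linter.unusedSectionVars false

namespace H2
open Cfsg Subgroup H18 H1
open H17 (Mul2)
open H21 (dser)
universe u
variable {G : Type u} [Group G] [Finite G] {A B C E H K L M P Q R U V W X : Subgroup G} {p q : ℕ} {π ρ : Set ℕ} {g x y : G}

theorem nil_hall_le_cj_aux (K : Subgroup G) : ∀ (π : Set ℕ) (H M : Subgroup G), Hall π H M → Nil H → K ≤ M → PiGrp π K →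
    ∃ g ∈ M, K ≤ cj g H := by
  induction K using H18.card_induction with
  | ih K ih =>
  intro π H M hH hn hK hπ
  by_cases h1 : K = ⊥
  · exact ⟨1, one_mem _, h1 ▸ bot_le⟩
  obtain ⟨q, Q, hq, hQ, nQ, Q1⟩ : ∃ q Q, q.Prime ∧ Hall {q} Q K ∧ Q ⊴ K ∧ Q ≠ ⊥ := by
    by_cases h2 : Nil K
    · obtain ⟨q, hq, hd⟩ := H18.exists_prime_dvd_card h1
      exact ⟨q, _, hq, h2.pcore_hall, pcore_nml, h2.pcore_hall.ne_bot_p hq hd⟩
    · obtain ⟨p, q, P, Q, -, hq, -, -, hQ, nQ, -, -, nc⟩ := schmidt_struct (K := K) (fun X hX => by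
        obtain ⟨g, -, h⟩ := ih X (card_lt hX) π H M hH hn (hX.le.trans hK) (hπ.of_le hX.le)
        exact (hn.cj g).of_le h) h2
      exact ⟨q, Q, hq, hQ, nQ, fun e => nc (by rw [e, C_bot]; exact le_top)⟩
  obtain ⟨L, hL⟩ := hQ.exists_compl nQ.norm
  have qπ : q ∈ π := hQ.pi.mem_of_ne_bot Q1 (hπ.of_le hQ.le)
  obtain ⟨g, hg, h2⟩ := sylow_le_cj' hq ((hn.pcore_hall (π := {q})).trans_p hH qπ) hQ.pi (hQ.le.trans hK)
  have h3 : Hall (π ∩ {q}ᶜ) (cj g O[π ∩ {q}ᶜ](H)) M := (hn.pcore_hall.trans hH fun _ _ h => h.1).cj_mem hg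
  have h4 : cj g O[π ∩ {q}ᶜ](H) ≤ N(Q) := by
    refine cent_norm (cent_mono (cj_cent_iff.2 (cent_symm pcore_cent_compl)) (cj_mono (pcore_sub Set.inter_subset_right)) h2)
  have hlt : L < K := lt_of_le_of_ne hL.le fun e => Q1 (hQ.pi.eq_bot (hL.pi.of_le (e ▸ hQ.le)))
  obtain ⟨z, hz, h5⟩ := ih L (card_lt hlt) _ _ (M ⊓ N(Q)) (h3.of_le (le_inf h3.le h4) inf_le_left)
    ((hn.of_le pcore_le).cj g) (le_inf (hL.le.trans hK) (hL.le.trans nQ.norm)) ((hπ.of_le hL.le).inter hL.pi)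
  refine ⟨z * g, mul_mem hz.1 hg, ?_⟩
  rw [← hQ.sup_compl hL, cj_mul]
  exact sup_le (cj_eq_self hz.2 ▸ cj_mono (h2.trans (cj_mono pcore_le))) (h5.trans (cj_mono (cj_mono pcore_le)))

theorem nil_hall_le_cj (hH : Hall π H M) (hn : Nil H) (hK : K ≤ M) (hπ : PiGrp π K) : ∃ g ∈ M, K ≤ cj g H :=
  nil_hall_le_cj_aux K π H M hH hn hK hπ

section
omit [Finite G]
theorem mul2_symm (h : Mul2 L A B) : Mul2 L B A := fun g hg => by
  obtain ⟨a, ha, b, hb, e⟩ := h _ (inv_mem hg)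
  exact ⟨b⁻¹, inv_mem hb, a⁻¹, inv_mem ha, by rw [← mul_inv_rev, ← e, inv_inv]⟩
theorem mul2_cj (h : Mul2 L A B) (hA : A ≤ L) (hx : x ∈ L) : Mul2 L A (cj x B) := fun g hg => by
  obtain ⟨a, ha, b, hb, rfl⟩ := h x hx
  obtain ⟨a', ha', b', hb', e⟩ := h _ (mul_mem hg (hA ha))
  refine ⟨a' * a⁻¹, mul_mem ha' (inv_mem ha), a * b' * a⁻¹, ?_, by rw [eq_mul_inv_of_mul_eq e]; group⟩
  rw [cj_mul, cj_eq_self_of_mem hb]; exact conj_mem_cj hb'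
theorem mul2_sub (h : Mul2 L A B) (h1 : A ≤ H) (h2 : H ≤ L) : Mul2 H A (H ⊓ B) := fun g hg => by
  obtain ⟨a, ha, b, hb, rfl⟩ := h g (h2 hg)
  exact ⟨a, ha, b, ⟨by simpa using mul_mem (inv_mem (h1 ha)) hg, hb⟩, rfl⟩
theorem mul2_mono (h : Mul2 L A B) (h1 : A ≤ H) (h2 : B ≤ K) : Mul2 L H K := fun g hg => by
  obtain ⟨a, ha, b, hb, rfl⟩ := h g hg
  exact ⟨a, h1 ha, b, h2 hb, rfl⟩
theorem mul2_mim {Q : Type*} [Group Q] {D : Subgroup G} {f : D →* Q} (h : Mul2 L A B) (hA : A ≤ D) (hB : B ≤ D) :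
    Mul2 (mim f L) (mim f A) (mim f B) := fun z hz => by
  obtain ⟨g, hg, -, rfl⟩ := mem_mim.1 hz
  obtain ⟨a, ha, b, hb, rfl⟩ := h g hg
  exact ⟨_, mfun_mem_mim ha, _, mfun_mem_mim hb, mfun_mul (hA ha) (hB hb)⟩
theorem mul2_le (h : Mul2 L A B) : L ≤ A ⊔ B := fun g hg => by
  obtain ⟨a, ha, b, hb, rfl⟩ := h g hg
  exact mul_mem_sup' ha hb
theorem perm2_of_mul2 (h : Mul2 L A B) (hA : A ≤ L) (hB : B ≤ L) : Perm2 A B := fun _ hb _ ha =>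
  h _ (mul_mem (hB hb) (hA ha))
theorem perm2_mul2 (h : Perm2 A B) : Mul2 (A ⊔ B) A B := fun _ hg => h.mem_sup.1 hg
theorem perm2_cj_iff : Perm2 (cj g A) (cj g B) ↔ Perm2 A B := by
  have key : ∀ (g : G) (A B : Subgroup G), Perm2 A B → Perm2 (cj g A) (cj g B) := fun g A B h b hb a ha => by
    obtain ⟨b, hb2, rfl⟩ := mem_cj'.1 hb
    obtain ⟨a, ha2, rfl⟩ := mem_cj'.1 ha
    obtain ⟨a', ha', b', hb', e⟩ := h b hb2 a ha2
    refine ⟨_, conj_mem_cj ha', _, conj_mem_cj hb', ?_⟩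
    calc _ = g * (b * a) * g⁻¹ := by group
      _ = _ := by rw [e]; group
  exact ⟨fun h => by simpa only [cj_inv_cj] using key g⁻¹ _ _ h, key g A B⟩
theorem perm2_sup (h1 : Perm2 A K) (h2 : Perm2 B K) : Perm2 (A ⊔ B) K := by
  intro b hb a ha
  rw [sup_eq_closure] at ha
  induction ha using closure_induction'' generalizing b with
  | one => exact ⟨1, one_mem _, b, hb, by simp⟩
  | mem a ha =>
    rcases ha with ha | ha
    · obtain ⟨a', ha', h⟩ := h1 b hb a ha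
      exact ⟨a', mem_sup_left ha', h⟩
    · obtain ⟨a', ha', h⟩ := h2 b hb a ha
      exact ⟨a', mem_sup_right ha', h⟩
  | inv_mem a ha =>
    rcases ha with ha | ha
    · obtain ⟨a', ha', h⟩ := h1 b hb _ (A.inv_mem ha)
      exact ⟨a', mem_sup_left ha', h⟩
    · obtain ⟨a', ha', h⟩ := h2 b hb _ (B.inv_mem ha)
      exact ⟨a', mem_sup_right ha', h⟩
  | mul a c _ _ i1 i2 =>
    obtain ⟨a', ha', b', hb', e⟩ := i1 b hb
    obtain ⟨c', hc', b'', hb'', e'⟩ := i2 b' hb'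
    exact ⟨a' * c', mul_mem ha' hc', b'', hb'', by rw [← mul_assoc, e, mul_assoc, e', mul_assoc]⟩
theorem perm2_cj (h : Mul2 L H K) (hA : H ≤ N(A)) (hB : K ≤ N(B)) (hp : Perm2 A B) (hx : x ∈ L) : Perm2 A (cj x B) := by
  obtain ⟨a, ha, b, hb, rfl⟩ := h x hx
  rw [cj_mul, cj_eq_self (hB hb), ← cj_eq_self (hA ha)]
  exact perm2_cj_iff.2 hp
theorem ncl_le_of_mul2 (h : Mul2 L A B) (hA : A ≤ H) (hX : X ≤ H) (hn : B ≤ N(X)) : ncl X L ≤ H := ncl_le_iff.2 fun g hg => by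
  obtain ⟨a, ha, b, hb, rfl⟩ := h g hg
  rw [cj_mul, cj_eq_self (hn hb)]
  exact cj_le_of_mem hX (hA ha)
theorem ito (h : Mul2 L A B) (h1 : A ≤ L) (h2 : B ≤ L) (hA : Abel A) (hB : Abel B) : Abel ⁅L, L⁆ := by
  obtain rfl := le_antisymm (mul2_le h) (sup_le h1 h2)
  refine abel_of_comm (H4.ito_comm hA.comm hB.comm (Set.ext fun g => ⟨fun hg => ?_, ?_⟩))
  · obtain ⟨a, ha, b, hb, rfl⟩ := h g hg
    exact Set.mul_mem_mul ha hb
  · rintro ⟨a, ha, b, hb, rfl⟩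
    exact mul_mem_sup' ha hb
end

theorem mul2_of_norm_sup (h : Mul2 ⊤ A B) (hA : A ≤ N(U)) (hB : B ≤ N(V)) :
    Mul2 N(U ⊔ V) (N(U ⊔ V) ⊓ A) (N(U ⊔ V) ⊓ B) := fun g hg => by
  obtain ⟨a, ha, b, hb, rfl⟩ := h g trivial
  have e := mem_N_iff_cj.1 hg
  rw [cj_mul, cj_eq_iff] at e
  have h1 : U ⊔ V ≤ cj b (U ⊔ V) := sup_le ((cj_eq_self (inv_mem (hA ha))).ge.trans ((cj_mono le_sup_left).trans e.ge))
    ((cj_eq_self (hB hb)).ge.trans (cj_mono le_sup_right))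
  have h2 : b ∈ N(U ⊔ V) := mem_N_iff_cj.2 (eq_of_card_eq h1 card_cj.symm).symm
  exact ⟨a, ⟨by simpa using mul_mem hg (inv_mem h2), ha⟩, b, ⟨h2, hb⟩, rfl⟩

theorem mul2_hall (h : Mul2 L A B) (h1 : A ≤ L) (hA : PiGrp π A) (hB : PiGrp πᶜ B) : Hall π A L :=
  ⟨h1, hA, by
    have h4 : Mul2 L A (L ⊓ B) := mul2_sub h h1 le_rfl
    have := h4.card h1 inf_le_left
    rw [hA.inf_eq_bot hB.inf_right, card_bot, mul_one] at this
    rw [relIndex_eq_of_mul h1 this]; exact hB.inf_right⟩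

theorem mul2_sylow (hp : p.Prime) (h : Mul2 L H K) (h1 : H ≤ L) (h2 : K ≤ L) :
    ∃ P Q R, Hall {p} P H ∧ Hall {p} Q K ∧ Hall {p} R L ∧ P ≤ R ∧ Q ≤ R ∧ Mul2 R P Q := by
  obtain ⟨P, hP⟩ := exists_sylow hp H
  obtain ⟨Q, hQ⟩ := exists_sylow hp K
  obtain ⟨R, hR, h3⟩ := exists_sylow_le hp hP.pi (hP.le.trans h1)
  obtain ⟨g, hg, h4⟩ := sylow_le_cj hp hR hQ.pi (hQ.le.trans h2)
  obtain ⟨a, ha, b, hb, rfl⟩ := h g hg
  rw [cj_mul, cj_le_iff] at h4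
  have a1 := hP.cj_mem (inv_mem ha)
  have a2 := hQ.cj_mem hb
  have a3 := hR.cj_mem (inv_mem (h1 ha))
  have e1 := a1.eq_of_le (le_inf (cj_mono h3) a1.le) inf_le_right a3.pi.inf_left
  have e2 := a2.eq_of_le (le_inf h4 a2.le) inf_le_right a3.pi.inf_left
  refine ⟨_, _, _, a1, a2, a3, cj_mono h3, h4, ?_⟩
  have := h.hall h1 h2 a3 (e1 ▸ a1) (e2 ▸ a2)
  rwa [e1, e2] at this

theorem mul2_sylow_nil (hp : p.Prime) (h : Mul2 L H K) (h1 : H ≤ L) (h2 : K ≤ L) (hH : Nil H) (hK : Nil K) :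
    Hall {p} (O[{p}](H) ⊔ O[{p}](K)) L ∧ Perm2 O[{p}](H) O[{p}](K) := by
  obtain ⟨P, Q, R, hP, hQ, hR, h3, h4, h5⟩ := mul2_sylow hp h h1 h2
  rw [← hH.hall_eq hP, ← hK.hall_eq hQ, le_antisymm (sup_le h3 h4) (mul2_le h5)]
  exact ⟨hR, perm2_of_mul2 h5 h3 h4⟩

theorem perm2_of_hall (hs : Solv L) (h : Mul2 L H K) (h1 : H ≤ L) (nA : H ≤ N(A)) (nB : K ≤ N(B))
    (hA : Hall π A L) (hB : Hall ρ B L) : Perm2 A B := by
  obtain ⟨R, hR, h3⟩ := hall_superset hs hA.le (hA.pi.sub (Set.subset_union_left (t := ρ)))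
  obtain ⟨g, hg, h4⟩ := hall_le_cj hs hR hB.le (hB.pi.sub Set.subset_union_right)
  obtain ⟨a, ha, b, hb, rfl⟩ := h g hg
  rw [cj_mul, cj_eq_self (nB hb), cj_le_iff] at h4
  have h5 : A ≤ cj a⁻¹ R := cj_eq_self (nA (inv_mem ha)) ▸ cj_mono h3
  have a3 := hR.cj_mem (inv_mem (h1 ha))
  refine perm2_of_mul2 (L := cj a⁻¹ R) (fun g hg => exists_mul_of_coprime_relIndex h4 h5 ?_ hg) h5 h4
  refine ((hB.of_le h4 a3.le).idx.inter a3.pi.relIndex).coprime_of_disj (hA.of_le h5 a3.le).idx fun r _ h6 h7 => ?_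
  exact h6.2.elim h7 h6.1

theorem exists_kegel (T : Subgroup G → Prop) (hp : ∀ x, Perm2 A (cj x B)) (h0 : ∀ x, T (A ⊔ cj x B))
    (hT : ∀ A' x, (∀ y, Perm2 A' (cj y B)) → T (A' ⊔ cj x B) → ∀ y, T (A' ⊔ cj y B)) :
    ∃ A', A ≤ A' ∧ T (A' ⊔ B) ∧ ncl B ⊤ ≤ N(A') := by
  obtain ⟨A', h1, ⟨h2, h3⟩, hmax⟩ := exists_maximal_sub (fun A' => (∀ x, Perm2 A' (cj x B)) ∧ ∀ x, T (A' ⊔ cj x B)) ⟨hp, h0⟩
  refine ⟨A', h1, by simpa using h3 1, ncl_le_iff.2 fun x _ b hb => mem_N_of_cj_le ?_⟩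
  have h4 : ∀ y, Perm2 (A' ⊔ cj b A') (cj y B) := fun y => perm2_sup (h2 y) (by
    have := (perm2_cj_iff (g := b)).2 (h2 (b⁻¹ * y))
    rwa [cj_cj, mul_inv_cancel_left] at this)
  have h5 : A' ⊔ cj b A' ⊔ cj x B = A' ⊔ cj x B := le_antisymm (sup_le (sup_le le_sup_left
    (cj_le_of_mem le_sup_left (mem_sup_right hb))) le_sup_right) (sup_le_sup_right le_sup_left _)
  exact le_sup_right.trans (hmax _ ⟨h4, hT _ x h4 (h5 ▸ h3 x)⟩ le_sup_left).le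

theorem sup_cj_ne_top (h : Perm2 A (cj y B)) (h1 : A ⊔ cj x B ≠ ⊤) : A ⊔ cj y B ≠ ⊤ := fun e => by
  have := mul2_cj (e ▸ perm2_mul2 h) le_top (mem_top (x * y⁻¹))
  rw [cj_cj, inv_mul_cancel_right] at this
  exact h1 (top_le_iff.1 (mul2_le this))

theorem kegel_proper (hp : ∀ x, Perm2 A (cj x B)) (h0 : A ⊔ B ≠ ⊤) : ∃ K, K ⊴ ⊤ ∧ K ≠ ⊤ ∧ (A ≤ K ∨ B ≤ K) := by
  obtain ⟨A', h1, h2, h3⟩ := exists_kegel (· ≠ ⊤) hp (fun x => sup_cj_ne_top (x := 1) (hp x) (by simpa using h0))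
    fun A' x h1 h2 y => sup_cj_ne_top (h1 y) h2
  by_cases e : ncl B ⊤ = ⊤
  · exact ⟨A', ⟨le_top, e ▸ h3⟩, fun e => h2 (by rw [e, top_sup_eq]), Or.inl h1⟩
  · exact ⟨_, ncl_nml le_top, e, Or.inr le_ncl⟩

theorem kegel_pi (hp : ∀ x, Perm2 A (cj x B)) (hA : PiGrp π A) (hB : PiGrp π B) :
    ∃ A', A ≤ A' ∧ PiGrp π A' ∧ ncl B ⊤ ≤ N(A') := by
  obtain ⟨A', h1, h2, h3⟩ := exists_kegel (PiGrp π) hp (fun x => (hp x).piGrp hA (hB.cj x))
    fun A' x h1 h2 y => (h1 y).piGrp (h2.of_le le_sup_left) (hB.cj y)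
  exact ⟨A', h1, h2.of_le le_sup_left, h3⟩

theorem nil_of_triple (h : Mul2 L A B) (h1 : A ≤ L) (h2 : B ≤ L) (hK : K ⊴ L) (e1 : L ≤ A ⊔ K) (e2 : L ≤ B ⊔ K)
    (hA : Nil A) (hB : Nil B) (hn : Nil K) : Nil L := by
  refine nil_of_sylow_norm fun p hp _ => ?_
  have hR := (mul2_sylow_nil hp h h1 h2 hA hB).1
  have key : ∀ X : Subgroup G, X ≤ L → L ≤ X ⊔ K → Nil X → O[{p}](X) ≤ O[{p}](A) ⊔ O[{p}](B) →
      X ≤ N(O[{p}](A) ⊔ O[{p}](B)) := fun X h3 h4 h5 h6 => by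
    have := (mul2_sylow_nil hp (L := L) (fun g hg => (hK.nrm2' h3).mem_sup.1 (h4 hg)) h3 hK.le h5 hn).1
    rw [← this.eq_of_le' hR (sup_le h6 (hR.nml_le hK.pcore pcore_pi))]
    exact norm_sup pcore_nml.norm (h3.trans hK.pcore.norm)
  exact ⟨_, hR, (mul2_le h).trans (sup_le (key A h1 e1 hA le_sup_left) (key B h2 e2 hB le_sup_right))⟩

/-- Wielandt's key lemma in a simple minimal counterexample -/
theorem kw_gen (hs : ∀ K : Subgroup G, K ⊴ ⊤ → K = ⊥ ∨ K = ⊤) (h : Mul2 ⊤ A B) (hA : Nil A) (hB : Nil B) (pA : PiGrp π A)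
    (pB : PiGrp πᶜ B) (h2 : ∀ p, p.Prime → O[{p}ᶜ](A) ≠ ⊥) (h3 : ∀ p, p.Prime → O[{p}ᶜ](B) ≠ ⊥)
    (ih : ∀ X A B : Subgroup G, X ≠ ⊤ → A ≤ X → B ≤ X → Mul2 X A B → Nil A → Nil B → Solv X)
    (hU : U ⊴ A) (hV : V ⊴ B) (U1 : U ≠ ⊥) (V1 : V ≠ ⊥) : U ⊔ V = ⊤ := by
  by_contra h4
  obtain ⟨H, -, ⟨H1, U, V, hU, hV, U1, V1, rfl⟩, hmax⟩ := exists_maximal_sub (fun H => H ≠ ⊤ ∧ ∃ U V, U ⊴ A ∧ V ⊴ B ∧
    U ≠ ⊥ ∧ V ≠ ⊥ ∧ H = U ⊔ V) ⟨h4, U, V, hU, hV, U1, V1, rfl⟩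
  have Nne : ∀ Y : Subgroup G, Y ≠ ⊥ → Y ≤ U ⊔ V → N(Y) ≠ ⊤ := fun Y Y1 hY e =>
    (hs Y ⟨le_top, e.ge⟩).elim Y1 fun e' => H1 (top_le_iff.1 (e' ▸ hY))
  have m := mul2_of_norm_sup h hU.norm hV.norm
  have sX := ih _ _ _ (Nne _ (fun e => U1 (eq_bot_iff.2 (e ▸ le_sup_left))) le_rfl) inf_le_left inf_le_left m
    (hA.of_le inf_le_right) (hB.of_le inf_le_right)
  have sH : Solv (U ⊔ V) := sX.of_le le_N
  have key : ∀ (π : Set ℕ) (A B U' V' : Subgroup G), Mul2 ⊤ A B → Nil A → PiGrp π A → PiGrp πᶜ B → V' ⊴ B → V' ≠ ⊥ → V' ≤ U ⊔ V →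
      Mul2 N(U ⊔ V) (N(U ⊔ V) ⊓ A) (N(U ⊔ V) ⊓ B) → (∀ Y, Y ⊴ A → Y ⊔ (U ⊔ V) ≠ ⊤ → Y ≤ U ⊔ V) →
      (∀ p ∈ π, O[{p}](U ⊔ V) ≠ ⊥ → O[{p}](U ⊔ V) ≤ A ∧ O[{p}ᶜ](A) ≤ U ⊔ V) ∧
        ∀ p ∈ π, ∀ r ∈ π, O[{p}](U ⊔ V) ≠ ⊥ → O[{r}](U ⊔ V) ≠ ⊥ → r = p := by
    intro π A B U' V' h hA pA pB hV' V1 hV2 m hm
    have a1 : ∀ p ∈ π, O[{p}](U ⊔ V) ≠ ⊥ → O[{p}](U ⊔ V) ≤ A ∧ O[{p}ᶜ](A) ≤ U ⊔ V := fun p hp h1 => by
      have a2 := ((mul2_hall m inf_le_left pA.inf_right pB.inf_right).nml_le nml_N.pcore (pcore_pi.of_p hp)).trans inf_le_right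
      exact ⟨a2, hm _ pcore_nml fun e => Nne _ h1 pcore_le (top_le_iff.1 (e ▸ sup_le
        (cent_norm (cent_symm (hA.cent_pi a2 pcore_le pcore_pi pcore_pi))) pcore_nml.norm))⟩
    refine ⟨a1, fun p hp r hr h1 h2 => by_contra fun ne => ?_⟩
    have a3 : A ≤ U ⊔ V := by
      rw [← hA.pcore_sup (π := {p})]
      exact sup_le ((pcore_sub (by simpa using ne)).trans (a1 r hr h2).2) (a1 p hp h1).2
    exact (hs _ (ncl_nml le_top)).elim (fun e => V1 (eq_bot_iff.2 (e ▸ le_ncl))) fun e =>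
      H1 (top_le_iff.1 (e ▸ ncl_le_of_mul2 h a3 hV2 hV'.norm))
  obtain ⟨k1, k2⟩ := key π A B U V h hA pA pB hV V1 le_sup_right m fun Y hY e => le_sup_left.trans
    (hmax _ ⟨e, _, _, hY.sup hU, hV, fun e => U1 (eq_bot_iff.2 (e ▸ le_sup_right)), V1, (sup_assoc ..).symm⟩ le_sup_right).le
  obtain ⟨k3, k4⟩ := key πᶜ B A V U (mul2_symm h) hB pB pA.compl_compl hU U1 le_sup_left (mul2_symm m) fun Y hY e => le_sup_left.trans
    (hmax _ ⟨e, _, _, hU, hY.sup hV, U1, fun e => V1 (eq_bot_iff.2 (e ▸ le_sup_right)), sup_left_comm ..⟩ le_sup_right).le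
  have k5 : ∀ (A : Subgroup G) (p : ℕ), Nil A → O[{p}ᶜ](A) ≠ ⊥ → O[{p}](U ⊔ V) ≤ A → O[{p}ᶜ](A) ≤ U ⊔ V →
      ∃ q, q.Prime ∧ q ≠ p ∧ O[{q}](U ⊔ V) ≠ ⊥ := by
    intro A p hA a1 a2 a3
    by_contra a4
    push Not at a4
    have a5 : F(U ⊔ V) ≤ O[{p}](U ⊔ V) := fit_le_of_pcores fun q hq _ => by
      by_cases e : q = p
      · rw [e]
      · rw [a4 q hq e]; exact bot_le
    exact a1 ((pcore_pi.of_le (((le_inf a3 ((cent_symm (hA.cent_pi a2 pcore_le pcore_pi pcore_pi)).trans (C_anti a5))).trans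
      (cent_sub_Fitting sH)).trans a5)).eq_bot pcore_pi)
  obtain ⟨p, q, hp, hq, p1, q1⟩ : ∃ p q, p ∈ π ∧ q ∈ πᶜ ∧ O[{p}](U ⊔ V) ≠ ⊥ ∧ O[{q}](U ⊔ V) ≠ ⊥ := by
    obtain ⟨p, hp, p1⟩ := sH.exists_pcore_ne_bot fun e => U1 (eq_bot_iff.2 (e ▸ le_sup_left))
    by_cases e : p ∈ π
    · obtain ⟨q, -, ne, q1⟩ := k5 A p hA (h2 p hp) (k1 p e p1).1 (k1 p e p1).2
      exact ⟨p, q, e, fun e' => ne (k2 p e q e' p1 q1), p1, q1⟩
    · obtain ⟨q, -, ne, q1⟩ := k5 B p hB (h3 p hp) (k3 p e p1).1 (k3 p e p1).2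
      exact ⟨q, p, by_contra fun e' => ne (k4 p e q e' p1 q1), e, q1, p1⟩
  have b1 := (k1 p hp p1).2
  have b2 := (k3 q hq q1).2
  have hl : ∀ (π : Set ℕ) (A : Subgroup G) (p : ℕ), Hall π A ⊤ → Nil A → O[{p}ᶜ](A) ≤ U ⊔ V →
      Hall (π ∩ {p}ᶜ) O[{p}ᶜ](A) N(U ⊔ V) := fun π A p h1 h2 h3 =>
    ((h2.pcore_hall.congr (ρ := π ∩ {p}ᶜ) fun r hr hd => ⟨fun e => ⟨h1.pi r hr hd, e⟩, fun e => e.2⟩).trans h1
      fun _ _ e => e.1).of_le (h3.trans le_N) le_top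
  have b3 := perm2_of_hall sX m inf_le_left (inf_le_right.trans pcore_nml.norm) (inf_le_right.trans pcore_nml.norm)
    (hl π A p (mul2_hall h le_top pA pB) hA b1) (hl πᶜ B q (mul2_hall (mul2_symm h) le_top pB pA.compl_compl) hB b2)
  obtain ⟨K, nK, K1, hK⟩ := kegel_proper (fun x => perm2_cj h pcore_nml.norm pcore_nml.norm b3 (mem_top x))
    fun e => H1 (top_le_iff.1 (e ▸ sup_le b1 b2))
  obtain rfl := (hs K nK).resolve_right K1
  exact hK.elim (fun e => h2 p (pcore_pi.prime p1) (le_bot_iff.1 e)) fun e => h3 q (pcore_pi.prime q1) (le_bot_iff.1 e)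

theorem kw_simple (hs : ∀ K : Subgroup G, K ⊴ ⊤ → K = ⊥ ∨ K = ⊤) (h : Mul2 ⊤ A B) (hA : Nil A) (hB : Nil B) (pA : PiGrp π A)
    (pB : PiGrp πᶜ B) (h2 : 2 ∈ π)
    (ih : ∀ X A B : Subgroup G, X ≠ ⊤ → A ≤ X → B ≤ X → Mul2 X A B → Nil A → Nil B → Solv X) : Solv (⊤ : Subgroup G) := by
  by_contra hn
  have aux : ∀ A B : Subgroup G, Mul2 ⊤ A B → Nil A → Nil B → ∀ p, p.Prime → O[{p}ᶜ](A) ≠ ⊥ := by
    intro A B h hA hB p hp e
    have pA : PiGrp {p} A := by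
      have := hA.pcore_sup (π := {p})
      rw [e, sup_bot_eq] at this
      exact this ▸ pcore_pi
    have B1 : B ≠ ⊥ := fun e => hn (hA.solv.of_le ((mul2_le h).trans (by rw [e, sup_bot_eq])))
    obtain ⟨z, hz, z1⟩ := exists_mem_ne_one' (hB.Z_ne_bot B1)
    have m := mul2_mono (mul2_symm h) (le_C1_iff.2 hz.2) le_rfl
    have := H21.kazarin (x := z) hp (by
      have h1 := m.card le_top le_top
      have h2 := card_mul_relIndex' (A := C1(z)) (B := A)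
      rw [← h2, card_top, ← C1(z).card_mul_index, mul_assoc, mul_comm C1(z).index] at h1
      rw [Nat.eq_of_mul_eq_mul_left H18.card_pos' (Nat.eq_of_mul_eq_mul_left H18.card_pos' h1)]
      exact pA.relIndex)
    exact (hs (normalClosure {z}) nml_top).elim (fun e => z1 (eq_one_of_eq_bot e (subset_normalClosure rfl))) fun e => hn (e ▸ this)
  have hH := mul2_hall h le_top pA pB
  have hH' := mul2_hall (mul2_symm h) le_top pB pA.compl_compl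
  obtain ⟨a, ha, a2⟩ := cauchy Nat.prime_two (pcore_pi.inf_left.dvd_card (hA.meet_Z (pcore_nml (π := {2}))
    (hA.pcore_hall.ne_bot_p Nat.prime_two (hH.dvd_card Nat.prime_two h2 (two_dvd_of_not_solv hn)))))
  have aa : a * a = 1 := by rw [← pow_two, ← a2, pow_orderOf_eq_one]
  have a1 : a ≠ 1 := by rintro rfl; simp at a2
  obtain ⟨c, c1, co, ci⟩ := Cfsg.Agent.S3011.exists_inverted aa fun e => by
    rw [pCore_eq Nat.prime_two] at e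
    exact (hs _ pcore_nml).elim (fun e' => a1 (eq_one_of_eq_bot e' e)) fun e' => hn (e' ▸ pcore_pi.solv)
  obtain ⟨y, hy, hr⟩ := exists_prime_pow_elt c1
  have yi : a * y * a⁻¹ = y⁻¹ := by
    obtain ⟨k, rfl⟩ := hy
    exact H9.conj_zpow_of_inverts ci k
  have y2 : orderOf y ≠ 2 := fun e => (Nat.not_even_iff_odd.2 co) (even_iff_two_dvd.2 (e ▸ orderOf_dvd_of_mem_zpowers hy))
  have y1 : y ≠ 1 := by rintro rfl; exact Nat.not_prime_one (orderOf_one (G := G) ▸ hr)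
  have n : zpowers a ≤ N(zpowers y) := zpowers_le.2 (mem_N_iff_cj.2 (by rw [cj_zpowers, yi, zpowers_inv]))
  have pa : PiGrp {2} (zpowers a) := piGrp_zpowers.2 (piElt_of_pow_eq_one Nat.prime_two (by rw [pow_two, aa]))
  by_cases e : orderOf y ∈ π
  · obtain ⟨g, -, hg⟩ := nil_hall_le_cj hH hA le_top (PiGrp.sup_norm (pa.of_p h2) (piGrp_zpowers.2 ((piNat_prime hr).2 e)) n)
    have := comm_of_cent ((hA.cj g).cent_pi (le_sup_left.trans hg) (le_sup_right.trans hg) pa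
      (piGrp_zpowers.2 ((piNat_prime hr).2 y2))) (mem_zpowers a) (mem_zpowers y)
    rw [this, mul_inv_cancel_right] at yi
    exact y2 ((Nat.prime_dvd_prime_iff_eq hr Nat.prime_two).1 (orderOf_dvd_of_pow_eq_one (by
      rw [pow_two]; nth_rewrite 1 [yi]; exact inv_mul_cancel y)))
  · obtain ⟨g, -, hg⟩ := nil_hall_le_cj hH' hB le_top (piGrp_zpowers.2 ((piNat_prime hr).2 e))
    have m := mul2_cj h le_top (mem_top g)
    have := kw_gen hs m hA (hB.cj g) pA (pB.cj g) (aux _ _ m hA (hB.cj g)) (aux _ _ (mul2_symm m) (hB.cj g) hA) ih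
      (nml_of_le_Z (zpowers_le.2 ha.2)) nml_Z (by simpa using a1) ((hB.cj g).Z_ne_bot (ne_bot_of_mem (hg (mem_zpowers y)) y1))
    exact (hs (zpowers y) ⟨le_top, this ▸ sup_le n (cent_norm (inf_le_right.trans (C_anti hg)))⟩).elim (by simpa using y1)
      fun e => hn (e ▸ cyc_zpowers.solv)

theorem kegel_wielandt_aux (n : ℕ) : ∀ (G : Type u) [Group G] [Finite G] (A B : Subgroup G), Nat.card G = n →
    Mul2 ⊤ A B → Nil A → Nil B → Solv (⊤ : Subgroup G) := by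
  induction n using Nat.strong_induction_on with
  | _ n ih =>
  intro G _ _ A B hn h hA hB
  have sub : ∀ X A B : Subgroup G, X ≠ ⊤ → A ≤ X → B ≤ X → Mul2 X A B → Nil A → Nil B → Solv X := by
    intro X A B hX h1 h2 h hA hB
    have := mul2_mim (f := MonoidHom.id X) h h1 h2
    rw [mim_id, subgroupOf_self] at this
    exact solv_top_iff.1 (ih _ (by rw [← hn, ← card_top (G := G)]; exact card_lt (lt_top_iff_ne_top.2 hX)) X _ _ rfl this hA.mim hB.mim)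
  have quo : ∀ K : Subgroup G, K ⊴ ⊤ → K ≠ ⊥ → Solv (⊤ ⫽ K) := by
    intro K hK h1
    have e : (⊤ : Subgroup G) ⫽ K = ⊤ := top_le_iff.1 (quo_N.ge.trans (mim_mono le_top))
    have := mul2_mim (f := coset K) h (le_top.trans hK.norm) (le_top.trans hK.norm)
    have c := card_quo_lt hK h1
    rw [e] at this c ⊢
    exact ih _ (by rwa [card_top, card_top, hn] at c) _ _ _ rfl this hA.mim hB.mim
  by_contra hs
  have n1 : ∀ K : Subgroup G, K ⊴ ⊤ → Solv K → K = ⊥ := fun K hK h1 => by_contra fun e => hs (solv_of_quo hK.norm (quo K hK e) h1)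
  have n2 : ∀ K : Subgroup G, K ⊴ ⊤ → K ≠ ⊥ → C(K) = ⊥ := fun K hK h1 => by_contra fun e => by
    have a1 : C(K) ⊴ ⊤ := ⟨le_top, norm_C hK.norm⟩
    have a2 := n1 _ hK.Z abel_Z.solv
    refine h1 (n1 K hK (solv_of_mim (f := coset C(K)) (le_top.trans a1.norm) ((quo _ a1 e).of_le (mim_mono le_top)) ?_))
    rw [mker_coset, a2]; exact solv_bot
  have cop : (Nat.card A).Coprime (Nat.card B) := Nat.coprime_of_dvd fun p hp h1 h2 => by
    obtain ⟨A', a1, a2, a3⟩ := kegel_pi (fun x => perm2_cj h pcore_nml.norm pcore_nml.norm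
      (mul2_sylow_nil hp h le_top le_top hA hB).2 (mem_top x)) (pcore_pi (π := {p})) pcore_pi
    have a4 : ncl O[{p}](B) ⊤ ⊴ ⊤ := ncl_nml le_top
    have a5 : ncl O[{p}](B) ⊤ ⊓ A' = ⊥ := eq_bot_iff.2 ((le_pcore (nml_inf_of_norm a3) a2.inf_right).trans
      (n1 _ a4.pcore pcore_pi.solv).le)
    have := cent_symm (cent_of_inf_eq_bot a3 (le_top.trans a4.norm) a5)
    rw [n2 _ a4 fun e => hB.pcore_hall.ne_bot_p hp h2 (eq_bot_iff.2 (e ▸ le_ncl))] at this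
    exact hA.pcore_hall.ne_bot_p hp h1 (le_bot_iff.1 (a1.trans this))
  have pA : PiGrp (primes (Nat.card A)) A := piNat_primes
  have pB : PiGrp (primes (Nat.card A))ᶜ B := piNat_of_coprime' cop
  have sim : ∀ K : Subgroup G, K ⊴ ⊤ → K = ⊥ ∨ K = ⊤ := fun K hK => (em _).symm.imp_left fun e => n1 K hK (by
    have a1 := (mul2_hall h le_top pA pB).inf_nml hK
    have a2 := (mul2_hall (mul2_symm h) le_top pB pA.compl_compl).inf_nml hK
    exact sub K _ _ e a1.le a2.le (fun g hg => a1.exists_mul a2 hg) (hA.of_le inf_le_left) (hB.of_le inf_le_left))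
  by_cases e : 2 ∈ primes (Nat.card A)
  exacts [hs (kw_simple sim h hA hB pA pB e sub), hs (kw_simple sim (mul2_symm h) hB hA pB pA.compl_compl e sub)]

theorem kegel_wielandt (h : Mul2 L A B) (h1 : A ≤ L) (h2 : B ≤ L) (hA : Nil A) (hB : Nil B) : Solv L := by
  have := mul2_mim (f := MonoidHom.id L) h h1 h2
  rw [mim_id, subgroupOf_self] at this
  exact solv_top_iff.1 (kegel_wielandt_aux _ L _ _ rfl this hA.mim hB.mim)

theorem exists_nml_ge_factor_aux (n : ℕ) : ∀ (G : Type u) [Group G] [Finite G] (L A B : Subgroup G), Nat.card L = n →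
    Mul2 L A B → A ≤ L → B ≤ L → Nil A → Nil B → (A ≠ L ∨ B ≠ L) → ∃ K, K ⊴ L ∧ K ≠ L ∧ (A ≤ K ∨ B ≤ K) := by
  induction n using Nat.strong_induction_on with
  | _ n ih =>
  intro G _ _ L A B hn h h1 h2 hA hB hp
  have L1 : L ≠ ⊥ := by
    rintro rfl
    exact hp.elim (fun e => e (le_bot_iff.1 h1)) fun e => e (le_bot_iff.1 h2)
  obtain ⟨p, V, hp', he, hV1, hV, -⟩ := exists_elem_nml (kegel_wielandt h h1 h2 hA hB) L1 le_N
  by_cases e : A ⫽ V ≠ L ⫽ V ∨ B ⫽ V ≠ L ⫽ V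
  · obtain ⟨K, nK, K1, hK⟩ := ih _ (hn ▸ card_quo_lt hV hV1) _ _ _ _ rfl (mul2_mim h (h1.trans hV.norm) (h2.trans hV.norm))
      (mim_mono h1) (mim_mono h2) hA.mim hB.mim e
    refine ⟨qpre V K, nml_qpre hV nK, fun e => K1 (by rw [← e, quo_qpre]), hK.imp ?_ ?_⟩
    exacts [(mim_le_iff (h1.trans hV.norm)).1, (mim_le_iff (h2.trans hV.norm)).1]
  push Not at e
  have hL := nil_of_triple h h1 h2 hV ((quo_le_quo_iff hV.norm (h1.trans hV.norm)).1 e.1.ge)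
    ((quo_le_quo_iff hV.norm (h2.trans hV.norm)).1 e.2.ge) hA hB he.abel.nil
  have key : ∀ X : Subgroup G, X ≤ L → X ≠ L → ∃ K, K ⊴ L ∧ K ≠ L ∧ X ≤ K := fun X h3 h4 => by
    obtain ⟨K, h5, h6⟩ := exists_le_covBy_of_lt (lt_of_le_of_ne h3 h4)
    exact ⟨K, hL.covBy_nml h6, h6.ne, h5⟩
  rcases hp with e | e
  · exact (key A h1 e).imp fun K h => ⟨h.1, h.2.1, Or.inl h.2.2⟩
  · exact (key B h2 e).imp fun K h => ⟨h.1, h.2.1, Or.inr h.2.2⟩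

theorem exists_nml_ge_factor (h : Mul2 L A B) (h1 : A ≤ L) (h2 : B ≤ L) (hA : Nil A) (hB : Nil B) (hp : A ≠ L ∨ B ≠ L) :
    ∃ K, K ⊴ L ∧ K ≠ L ∧ (A ≤ K ∨ B ≤ K) := exists_nml_ge_factor_aux _ G L A B rfl h h1 h2 hA hB hp

theorem mul2_Z (h : Mul2 L A B) (h1 : A ≤ L) (h2 : B ≤ L) (hA : Abel A) (hB : Abel B) : Z(L) ≤ (A ⊓ Z(L)) ⊔ (B ⊓ Z(L)) := by
  intro z hz
  obtain ⟨a, ha, b, hb, rfl⟩ := h z hz.1
  have : b ∈ C(L) := C_anti (mul2_le h) (by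
    rw [C_sup]
    exact ⟨by simpa using mul_mem (inv_mem (hA ha)) (C_anti h1 hz.2), hB hb⟩)
  exact mul_mem_sup' ⟨ha, h1 ha, by simpa using C(L).mul_mem hz.2 (inv_mem this)⟩ ⟨hb, h2 hb, this⟩

theorem ito_nml (h : Mul2 L A B) (h1 : A ≤ L) (h2 : B ≤ L) (hA : Abel A) (hB : Abel B) (L1 : L ≠ ⊥) :
    ∃ K, K ⊴ L ∧ K ≠ ⊥ ∧ (K ≤ A ∨ K ≤ B) := by
  by_contra hc
  have n1 : ∀ K, K ⊴ L → K ≤ A ∨ K ≤ B → K = ⊥ := fun K h3 h4 => by_contra fun e => hc ⟨K, h3, e, h4⟩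
  have zA : A ⊓ Z(L) = ⊥ := n1 _ (nml_of_le_Z inf_le_right) (Or.inl inf_le_left)
  have zB : B ⊓ Z(L) = ⊥ := n1 _ (nml_of_le_Z inf_le_right) (Or.inr inf_le_left)
  have key : ∀ A B : Subgroup G, Mul2 L A B → A ≤ L → B ≤ L → Abel A → Abel B → B ⊓ Z(L) = ⊥ → (∀ K, K ⊴ L → K ≤ A → K = ⊥) →
      A ⊓ C(⁅L, L⁆) = ⊥ := by
    intro A B h h1 h2 hA hB zB n1
    have hH : (A ⊔ ⁅L, L⁆) ⊴ L := nml_of_der_le le_sup_right (sup_le h1 der_le)
    have a1 := mul2_Z (mul2_sub h le_sup_left hH.le) le_sup_left inf_le_left hA (hB.mono inf_le_right)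
    have a2 : (A ⊔ ⁅L, L⁆) ⊓ B ⊓ Z(A ⊔ ⁅L, L⁆) = ⊥ := eq_bot_iff.2 (zB ▸ le_inf (inf_le_left.trans inf_le_right)
      (le_inf ((inf_le_left.trans inf_le_right).trans h2) (le_trans (cent_sup (inf_le_right.trans (inf_le_right.trans
        (C_anti le_sup_left))) ((inf_le_left.trans inf_le_right).trans hB)) (C_anti (mul2_le h)))))
    rw [a2, sup_bot_eq] at a1
    exact eq_bot_iff.2 (n1 _ hH.Z (a1.trans inf_le_left) ▸ le_inf (inf_le_left.trans le_sup_left)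
      (cent_sup (inf_le_left.trans hA) inf_le_right))
  have c1 := key A B h h1 h2 hA hB zB fun K h3 h4 => n1 K h3 (Or.inl h4)
  have c2 := key B A (mul2_symm h) h2 h1 hB hA zA fun K h3 h4 => n1 K h3 (Or.inr h4)
  have ab := ito h h1 h2 hA hB
  have hK : ⁅L, L⁆ ⊴ L := nml_der
  set X := (A ⊔ ⁅L, L⁆) ⊓ (B ⊔ ⁅L, L⁆) with hX
  have hXL : X ≤ L := inf_le_left.trans (sup_le h1 der_le)
  have KX : ⁅L, L⁆ ≤ X := le_inf le_sup_right le_sup_right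
  have m : Mul2 X (X ⊓ A) (X ⊓ B) := fun g hg => by
    obtain ⟨a, ha, b, hb, rfl⟩ := h g (hXL hg)
    have : b ∈ X := ⟨by simpa using mul_mem (inv_mem (mem_sup_left ha : a ∈ A ⊔ ⁅L, L⁆)) hg.1, mem_sup_left hb⟩
    exact ⟨a, ⟨by simpa using mul_mem hg (inv_mem this), ha⟩, b, ⟨this, hb⟩, rfl⟩
  have hn := nil_of_triple m inf_le_left inf_le_left (hK.of_le KX hXL)
    (by rw [← (hK.nrm2' h1).modular_left' KX]; exact le_inf le_rfl inf_le_left)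
    (by rw [← (hK.nrm2' h2).modular_left' KX]; exact le_inf le_rfl inf_le_right)
    (hA.mono inf_le_right).nil (hB.mono inf_le_right).nil ab.nil
  have z := mul2_Z m inf_le_left inf_le_left (hA.mono inf_le_right) (hB.mono inf_le_right)
  have z1 : X ⊓ A ⊓ Z(X) = ⊥ := eq_bot_iff.2 (c1 ▸ inf_le_inf inf_le_right (inf_le_right.trans (C_anti KX)))
  have z2 : X ⊓ B ⊓ Z(X) = ⊥ := eq_bot_iff.2 (c2 ▸ inf_le_inf inf_le_right (inf_le_right.trans (C_anti KX)))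
  rw [z1, z2, sup_bot_eq, le_bot_iff] at z
  have X1 : X = ⊥ := by_contra fun e => hn.Z_ne_bot e z
  have aL : Abel L := abel_iff_der.2 (eq_bot_iff.2 (X1 ▸ KX))
  rw [aL.Z_eq, inf_eq_left.2 h1] at zA
  rw [aL.Z_eq, inf_eq_left.2 h2] at zB
  exact L1 (eq_bot_iff.2 ((mul2_le h).trans (by rw [zA, zB, sup_bot_eq])))

theorem eq_of_sup_der_aux (n : ℕ) : ∀ (G : Type u) [Group G] [Finite G] (L A B : Subgroup G), Nat.card L = n →
    Mul2 L A B → A ≤ L → B ≤ L → Abel A → Nil B → L ≤ A ⊔ ⁅B, B⁆ → L ≤ A := by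
  induction n using Nat.strong_induction_on with
  | _ n ih =>
  intro G _ _ L A B hn h h1 h2 hA hB e
  have quo : ∀ V, V ⊴ L → V ≠ ⊥ → L ≤ A ⊔ V := fun V hV V1 => by
    rw [← quo_le_quo_iff hV.norm (h1.trans hV.norm)]
    refine ih _ (hn ▸ card_quo_lt hV V1) _ _ _ _ rfl (mul2_mim h (h1.trans hV.norm) (h2.trans hV.norm))
      (mim_mono h1) (mim_mono h2) hA.mim hB.mim ?_
    rw [← mim_comm (h2.trans hV.norm) (h2.trans hV.norm), ← mim_sup (h1.trans hV.norm) ((der_le.trans h2).trans hV.norm)]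
    exact mim_mono e
  by_contra hc
  have n1 : ∀ V, V ⊴ L → V ≤ A → V = ⊥ := fun V hV h3 => by_contra fun V1 => hc ((quo V hV V1).trans (sup_le le_rfl h3))
  obtain ⟨p, V, hp, he, V1, hV, -⟩ := exists_elem_nml (kegel_wielandt h h1 h2 hA.nil hB) (fun e => hc (e ▸ bot_le)) le_N
  obtain ⟨V, hVV, hm⟩ := exists_minNorm V1 hV.norm
  have he := he.sub' hVV
  have hV : V ⊴ L := ⟨hVV.trans hV.le, hm.norm⟩
  have pV := he.pi' hp
  have e1 := quo V hV hm.ne_bot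
  have c1 : A ⊓ C(V) = ⊥ := n1 _ ⟨inf_le_left.trans h1, e1.trans (sup_le (hA.norm inf_le_left)
    (cent_norm (cent_symm inf_le_right)))⟩ inf_le_left
  have c2 : O[{p}](A) = ⊥ := by
    have a1 := (hm.eq_bot_or (K := V ⊓ C(O[{p}](A))) inf_le_left (e1.trans (sup_le (norm_inf (h1.trans hV.norm)
      (norm_C pcore_nml.norm)) (he.abel.norm inf_le_left)))).resolve_left
      (pcore_pi.meet_cent pV ((pcore_le.trans h1).trans hV.norm) hm.ne_bot)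
    exact eq_bot_iff.2 (c1 ▸ le_inf pcore_le (cent_symm (a1 ▸ inf_le_right)))
  have c3 := (mul2_sylow_nil hp h h1 h2 hA.nil hB).1
  rw [c2, bot_sup_eq] at c3
  have c4 : L ⊓ C(V) ≤ V := by
    have := (hV.nrm2' h1).modular_left' (H := C(V)) he.abel
    rw [inf_comm C(V) A, c1, bot_sup_eq] at this
    exact (le_inf inf_le_right (inf_le_left.trans e1)).trans this.le
  have c5 : O[{p}ᶜ](B) = ⊥ := (pV.of_le ((le_inf (pcore_le.trans h2) ((cent_symm pcore_cent_compl).trans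
    (C_anti (c3.nml_le hV pV)))).trans c4)).eq_bot pcore_pi
  have c6 : Hall {p} V L := by
    have pA : PiGrp {p}ᶜ A := by
      have := hA.nil.pcore_sup (π := {p})
      rw [c2, bot_sup_eq] at this
      exact this ▸ pcore_pi
    rw [le_antisymm e1 (sup_le h1 hV.le)]
    exact hall_of_sup' pV pA (hV.nrm2 h1)
  have c7 : B ≤ V := by
    have := hB.pcore_sup (π := {p})
    rw [c5, sup_bot_eq] at this
    exact c6.le_of_nml hV.norm h2 (this ▸ pcore_pi)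
  rw [(he.abel.mono c7).der, sup_bot_eq] at e
  exact hc e

theorem dser_class_two (n : ℕ) : ∀ L B : Subgroup G, (Nat.card ↥⁅B, B⁆).primeFactorsList.length ≤ n → Mul2 L A B → A ≤ L → B ≤ L →
    Abel A → ⁅B, B⁆ ≤ C(B) → dser L (2 * (1 + n)) = ⊥ := by
  have base : ∀ (n : ℕ) (L B : Subgroup G), Mul2 L A B → A ≤ L → B ≤ L → Abel A → Abel B → dser L (2 * (1 + n)) = ⊥ :=
    fun n L B h h1 h2 hA hB => eq_bot_iff.2 ((H21.dser_anti (by omega : 2 ≤ _)).trans (ito h h1 h2 hA hB).der.le)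
  induction n with
  | zero =>
    intro L B hn h h1 h2 hA _
    refine base 0 L B h h1 h2 hA (abel_iff_der.2 (card_eq_one.1 ?_))
    rw [Nat.le_zero, List.length_eq_zero_iff, Nat.primeFactorsList_eq_nil] at hn
    exact hn.resolve_left card_ne_zero'
  | succ n ih =>
    intro L B hn h h1 h2 hA hB
    by_cases e : Abel B
    · exact base _ L B h h1 h2 hA e
    have nB : Nil B := nil_of_quo_center hB (Abel.nil ((abel_quo_iff nml_der.norm).2 le_rfl))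
    have hH : A ⊔ ⁅B, B⁆ ≤ L := sup_le h1 (der_le.trans h2)
    have m := mul2_sub h le_sup_left hH
    have d := der_mono (inf_le_right : (A ⊔ ⁅B, B⁆) ⊓ B ≤ B)
    have hlt : ⁅(A ⊔ ⁅B, B⁆) ⊓ B, (A ⊔ ⁅B, B⁆) ⊓ B⁆ ≠ ⁅B, B⁆ := fun e' => e (abel_iff_der.2 (e' ▸ (hA.mono
      (inf_le_left.trans (eq_of_sup_der_aux _ G _ _ _ rfl m le_sup_left inf_le_left hA (nB.of_le inf_le_right) (e'.symm ▸ le_rfl)))).der))
    have a1 := ih _ _ (by
      have e1 := H18.card_mul_relIndex d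
      have e2 := (Nat.perm_primeFactorsList_mul card_ne_zero' H18.relIndex_ne_zero).length_eq.symm.trans
        (congrArg (fun m : ℕ => m.primeFactorsList.length) e1)
      rw [List.length_append] at e2
      have e3 := List.length_pos_iff.2 ((Nat.primeFactorsList_ne_nil _).2 (one_lt_relIndex fun e' => hlt (le_antisymm d e')))
      omega) m le_sup_left inf_le_left hA (cent_mono hB d inf_le_right)
    have nK : ncl ⁅B, B⁆ L ⊴ L := ncl_nml (der_le.trans h2)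
    have a2 : dser L 2 ≤ ncl ⁅B, B⁆ L := by
      rw [← quo_eq_bot_iff (H21.dser_le.trans nK.norm), H21.mim_dser nK.norm]
      exact (ito (mul2_mim h (h1.trans nK.norm) (h2.trans nK.norm)) (mim_mono h1) (mim_mono h2) hA.mim
        ((abel_quo_iff (h2.trans nK.norm)).2 le_ncl)).der
    rw [show 2 * (1 + (n + 1)) = 2 + 2 * (1 + n) by ring, H21.dser_add, eq_bot_iff, ← a1]
    exact H21.dser_mono (a2.trans (ncl_le_of_mul2 h le_sup_left le_sup_right nml_der.norm))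

end H2
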