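import Mathlib
import Cfsg.Agent.H3.Frobenius

/-! Schmidt groups, part 1: central `p`-extensions of `p`-nilpotent groups, minimal supplements,
the affine model group `Af χ` and its minimal non-`p`-nilpotence. -/

namespace H2.Sm
open Cfsg Subgroup

/-- minimal non-`p`-nilpotent -/
def MNP (p : ℕ) (G : Type*) [Group G] : Prop :=
  ¬ HasNormalPComplement p G ∧ ∀ K : Subgroup G, K ≠ ⊤ → HasNormalPComplement p K

variable {p : ℕ} [Fact p.Prime]

theorem npc_of_central {G H : Type*} [Group G] [Finite G] [Group H] [Finite H] (f : G →* H)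
    (hz : f.ker ≤ center G) (hk : IsPGroup p f.ker) (h : HasNormalPComplement p f.range) :
    HasNormalPComplement p G := by
  obtain ⟨N, hN, hNp, hq⟩ := H3.hasNormalPComplement_iff_exists_normal.1 h
  set L : Subgroup G := N.comap f.rangeRestrict with hL
  refine H3.hasNormalPComplement_of_pResidual_le (H := L) ?_ ?_
  · have := H3.pResidual_le_ker hq ((QuotientGroup.mk' N).comp f.rangeRestrict)
    intro x hx
    have h1 := this hx
    rw [MonoidHom.mem_ker, MonoidHom.comp_apply, QuotientGroup.mk'_apply,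
      QuotientGroup.eq_one_iff] at h1
    exact h1
  · obtain ⟨P⟩ : Nonempty (Sylow p L) := inferInstance
    have hP : normalizer ((P : Subgroup L) : Set L) ≤ centralizer ((P : Subgroup L) : Set L) := by
      intro g _ x hx
      have hx1 : f.rangeRestrict x.1 = 1 := by
        have h1 : (orderOf (f.rangeRestrict x.1)).Coprime p :=
          H3.coprime_orderOf_of_mem_of_not_dvd_card hNp x.2
        obtain ⟨k, hk⟩ := P.2 ⟨x, hx⟩
        have h2 : (f.rangeRestrict x.1) ^ p ^ k = 1 := by
          have : (x.1 : G) ^ p ^ k = 1 := by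
            have := congrArg (fun z : (P : Subgroup L) => ((z : L) : G)) hk
            simpa using this
          rw [← map_pow, this, map_one]
        have h3 := orderOf_dvd_of_pow_eq_one h2
        exact orderOf_eq_one_iff.1 (Nat.Coprime.eq_one_of_dvd (h1.pow_right k) h3)
      have hx2 : x.1 ∈ center G := hz (by
        rw [MonoidHom.mem_ker]; exact congrArg Subtype.val hx1)
      exact Subtype.ext (mem_center_iff.1 hx2 g.1).symm
    exact ⟨P, _, inferInstance, MonoidHom.ker_transferSylow_isComplement' P hP⟩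

theorem npc_of_comm {G : Type*} [Group G] [Finite G] (h : ∀ a b : G, a * b = b * a) :
    HasNormalPComplement p G := by
  letI : CommGroup G := { (inferInstance : Group G) with mul_comm := h }
  exact H3.hasNormalPComplement_of_isNilpotent

theorem MNP.eq_top {G H : Type*} [Group G] [Finite G] [Group H] [Finite H] (hG : MNP p G)
    (hH : ¬ HasNormalPComplement p H) (f : G →* H) {K : Subgroup G} (hK : K.map f = ⊤) : K = ⊤ := by
  by_contra hne
  have := H3.hasNormalPComplement_map f (hG.2 K hne)
  rw [hK] at this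
  exact hH (H3.hasNormalPComplement_top_iff.1 this)

theorem exists_mnp {G H : Type*} [Group G] [Finite G] [Group H] [Finite H] (hH : MNP p H)
    (f : G →* H) (hf : Function.Surjective f) (hz : f.ker ≤ center G) (hk : IsPGroup p f.ker) :
    ∃ K : Subgroup G, K.map f = ⊤ ∧ MNP p K := by
  obtain ⟨K, hK, hmin⟩ := (wellFounded_lt (α := Subgroup G)).has_min {K | K.map f = ⊤}
    ⟨⊤, map_top_of_surjective f hf⟩
  have hK' : K.map f = ⊤ := hK
  refine ⟨K, hK', fun h => hH.1 ?_, fun L hL => ?_⟩
  · have := H3.hasNormalPComplement_map f h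
    rw [hK'] at this
    exact H3.hasNormalPComplement_top_iff.1 this
  · have hlt : L.map K.subtype < K := by
      refine lt_of_le_of_ne (map_subtype_le L) fun e => hL ?_
      rw [eq_top_iff]
      intro x _
      obtain ⟨y, hy, hxy⟩ : x.1 ∈ L.map K.subtype := by rw [e]; exact x.2
      rwa [show x = y from Subtype.ext hxy.symm]
    have hne : (L.map K.subtype).map f ≠ ⊤ := fun e => hmin _ e hlt
    refine npc_of_central (f.comp (K.subtype.comp L.subtype)) ?_ ?_ ?_
    · intro x hx
      have : x.1.1 ∈ center G := hz hx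
      rw [mem_center_iff] at this ⊢
      intro g
      exact Subtype.ext (Subtype.ext (this g.1.1))
    · intro x
      obtain ⟨k, hk⟩ := hk ⟨x.1.1.1, x.2⟩
      have hk' : (x.1.1.1 : G) ^ p ^ k = 1 := congrArg Subtype.val hk
      exact ⟨k, Subtype.ext (Subtype.ext (Subtype.ext hk'))⟩
    · have : (f.comp (K.subtype.comp L.subtype)).range = (L.map K.subtype).map f := by
        rw [map_map, ← MonoidHom.comp_assoc, MonoidHom.range_comp, range_subtype]
      rw [this]
      exact hH.2 _ hne

theorem MNP.of_equiv {G H : Type*} [Group G] [Finite G] [Group H] [Finite H] (h : MNP p G)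
    (e : G ≃* H) : MNP p H := by
  refine ⟨fun h1 => h.1 (H3.hasNormalPComplement_of_equiv e.symm h1), fun K hK => ?_⟩
  have h2 : K.comap e.toMonoidHom ≠ ⊤ := by
    intro h3
    apply hK
    rw [eq_top_iff]
    intro x _
    have : e.symm x ∈ K.comap e.toMonoidHom := by rw [h3]; trivial
    simpa using this
  have := H3.hasNormalPComplement_map e.toMonoidHom (h.2 _ h2)
  rwa [map_comap_eq_self_of_surjective e.surjective] at this

variable {K C : Type*} [Field K] [AddCommGroup C]

/-- the affine group `K ⋊ C` -/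
@[ext] structure Af (χ : AddChar C K) where
  v : K
  c : C

variable {χ : AddChar C K}

instance instMulAf : Mul (Af χ) := ⟨fun a b => ⟨a.v + χ a.c * b.v, a.c + b.c⟩⟩
instance instOneAf : One (Af χ) := ⟨⟨0, 0⟩⟩
instance instInvAf : Inv (Af χ) := ⟨fun a => ⟨-(χ (-a.c) * a.v), -a.c⟩⟩

@[simp] theorem Af.mul_v (a b : Af χ) : (a * b).v = a.v + χ a.c * b.v := rfl
@[simp] theorem Af.mul_c (a b : Af χ) : (a * b).c = a.c + b.c := rfl
@[simp] theorem Af.one_v : (1 : Af χ).v = 0 := rfl
@[simp] theorem Af.one_c : (1 : Af χ).c = 0 := rfl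
@[simp] theorem Af.inv_v (a : Af χ) : a⁻¹.v = -(χ (-a.c) * a.v) := rfl
@[simp] theorem Af.inv_c (a : Af χ) : a⁻¹.c = -a.c := rfl

instance instGroupAf : Group (Af χ) :=
  Group.ofLeftAxioms
    (fun a b c => by
      ext
      · simp only [Af.mul_v, Af.mul_c, AddChar.map_add_eq_mul]; ring
      · simp [add_assoc])
    (fun a => by ext <;> simp) (fun a => by ext <;> simp)

/-- `Af χ` as a product -/
def Af.equivProd (χ : AddChar C K) : Af χ ≃ K × C :=
  ⟨fun a => (a.v, a.c), fun x => ⟨x.1, x.2⟩, fun _ => rfl, fun _ => rfl⟩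

instance instFiniteAf [Finite K] [Finite C] : Finite (Af χ) :=
  Finite.of_equiv _ (Af.equivProd χ).symm

theorem Af.card : Nat.card (Af χ) = Nat.card K * Nat.card C := by
  rw [Nat.card_congr (Af.equivProd χ), Nat.card_prod]

/-- projection to `C` -/
def Af.proj (χ : AddChar C K) : Af χ →* Multiplicative C where
  toFun a := Multiplicative.ofAdd a.c
  map_one' := rfl
  map_mul' _ _ := rfl

theorem Af.pow_c (a : Af χ) (n : ℕ) : (a ^ n).c = n • a.c := by
  induction n with
  | zero => simp
  | succ n ih => rw [pow_succ, Af.mul_c, ih, succ_nsmul]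

theorem Af.pow_of_c (v : K) (n : ℕ) : (⟨v, 0⟩ : Af χ) ^ n = ⟨n • v, 0⟩ := by
  induction n with
  | zero => ext <;> simp
  | succ n ih => rw [pow_succ, ih]; ext <;> simp [add_mul]

theorem Af.pow_of_v (c : C) (n : ℕ) : (⟨0, c⟩ : Af χ) ^ n = ⟨0, n • c⟩ := by
  induction n with
  | zero => ext <;> simp
  | succ n ih => rw [pow_succ, ih]; ext <;> simp [succ_nsmul]

/-- additive subgroups closed under a primitive `q`-th root -/
def Irr (K : Type*) [Field K] (q : ℕ) : Prop :=
  ∀ β : K, β ^ q = 1 → β ≠ 1 → ∀ U : AddSubgroup K, (∀ u ∈ U, β * u ∈ U) → U = ⊥ ∨ U = ⊤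

theorem Af.mnp [Finite K] [CharP K p] [Finite C] {q : ℕ} (hirr : Irr K q) (hq : ∀ c, χ c ^ q = 1)
    (hC : ¬ p ∣ Nat.card C) (hne : ∃ c, χ c ≠ 1)
    (hgen : ∀ c, χ c ≠ 1 → ∀ d : C, ∃ n : ℕ, d = n • c) : MNP p (Af χ) := by
  constructor
  · intro h
    obtain ⟨c, hc⟩ := hne
    have hV : IsPGroup p (Af.proj χ).ker := by
      rintro ⟨⟨v, d⟩, hx⟩
      have hd : d = 0 := hx
      subst hd
      refine ⟨1, Subtype.ext ?_⟩
      simp only [pow_one, SubgroupClass.coe_pow, Af.pow_of_c, OneMemClass.coe_one]
      ext <;> simp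
    have h1 := H3.mem_centralizer_of_hasNormalPComplement h hV (g := ⟨0, c⟩)
      (by rw [normalizer_eq_top]; trivial) (by
        have : (⟨0, c⟩ : Af χ) ^ Nat.card C = 1 := by
          rw [Af.pow_of_v, card_nsmul_eq_zero']; rfl
        exact Nat.Coprime.coprime_dvd_left (orderOf_dvd_of_pow_eq_one this)
          ((Nat.Prime.coprime_iff_not_dvd Fact.out).2 hC).symm)
    have h2 := congrArg Af.v (h1 ⟨1, 0⟩ rfl)
    simp at h2
    exact hc h2.symm
  · intro H hH
    apply npc_of_comm
    by_cases h1 : ∀ x ∈ H, χ x.c = 1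
    · intro a b
      apply Subtype.ext
      ext
      · simp [h1 _ a.2, h1 _ b.2, add_comm]
      · simp [add_comm]
    · push Not at h1
      obtain ⟨x, hx, hxc⟩ := h1
      let U : AddSubgroup K :=
        { carrier := {w | (⟨w, 0⟩ : Af χ) ∈ H}
          zero_mem' := H.one_mem
          add_mem' := fun {a b} ha hb => by
            have := H.mul_mem ha hb
            change (⟨_, 0⟩ : Af χ) ∈ H
            convert this using 1
            ext <;> simp
          neg_mem' := fun {a} ha => by
            have := H.inv_mem ha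
            change (⟨_, 0⟩ : Af χ) ∈ H
            convert this using 1
            ext <;> simp }
      rcases hirr _ (hq x.c) hxc U (fun u hu => by
        have := H.mul_mem (H.mul_mem hx hu) (H.inv_mem hx)
        change (⟨_, 0⟩ : Af χ) ∈ H
        convert this using 1
        ext
        · simp only [Af.mul_v, Af.mul_c, Af.inv_v, add_zero, mul_neg, ← mul_assoc,
            ← AddChar.map_add_eq_mul, add_neg_cancel, AddChar.map_zero_eq_one]; ring
        · simp) with hU | hU
      · intro a b
        have hm : (a.1 * b.1) * (b.1 * a.1)⁻¹ ∈ H :=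
          H.mul_mem (H.mul_mem a.2 b.2) (H.inv_mem (H.mul_mem b.2 a.2))
        have hc : ((a.1 * b.1) * (b.1 * a.1)⁻¹).c = 0 := by simp; abel
        have hu : ((a.1 * b.1) * (b.1 * a.1)⁻¹).v ∈ U := by
          change (⟨_, 0⟩ : Af χ) ∈ H
          rw [← hc]; exact hm
        rw [hU, AddSubgroup.mem_bot] at hu
        apply Subtype.ext
        exact mul_inv_eq_one.1 (Af.ext hu hc)
      · exfalso
        apply hH
        rw [eq_top_iff]
        intro y _
        obtain ⟨n, hn⟩ := hgen _ hxc y.c
        have hc : (y * (x ^ n)⁻¹).c = 0 := by simp [Af.pow_c, hn]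
        have hu : (y * (x ^ n)⁻¹).v ∈ U := by rw [hU]; trivial
        have : y * (x ^ n)⁻¹ ∈ H := by
          have h2 : (⟨(y * (x ^ n)⁻¹).v, 0⟩ : Af χ) ∈ H := hu
          rwa [← hc] at h2
        simpa using H.mul_mem this (H.pow_mem hx n)

end H2.Sm
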