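import Mathlib
import Cfsg.Agent.H1.Basic

/-! Pairs of `p`-elements of symmetric groups with non-`p` product generating a nonsolvable group,
part 1: the predicate `Goal`, transport along embeddings, small cases, and nonsolvability of groups
containing a full cycle on `ZMod (p^a)`. -/

namespace H2.Anp
open Equiv Equiv.Perm Subgroup Polynomial
open scoped commutatorElement IsMulCommutative

/-- the target property -/
def Goal {G : Type*} [Group G] (p : ℕ) (u w : G) : Prop :=
  (¬ ∃ k : ℕ, (u * w) ^ p ^ k = 1) ∧ ¬ Group.IsSolvable (closure ({u, w} : Set G))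

theorem Goal.of_hom {G H : Type*} [Group G] [Group H] {p : ℕ} (f : G →* H) {u w : G}
    (h : Goal p (f u) (f w)) : Goal p u w := by
  refine ⟨fun ⟨k, hk⟩ => h.1 ⟨k, by rw [← map_mul, ← map_pow, hk, map_one]⟩, fun hs => h.2 ?_⟩
  have e : (closure ({u, w} : Set G)).map f = closure {f u, f w} := by
    rw [MonoidHom.map_closure]; simp [Set.image_pair]
  rw [← e]
  exact Group.isSolvable_of_surjective (f.subgroupMap_surjective (closure {u, w}))

theorem Goal.map {G H : Type*} [Group G] [Group H] {p : ℕ} (f : G →* H)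
    (hf : Function.Injective f) {u w : G} (h : Goal p u w) : Goal p (f u) (f w) := by
  refine ⟨fun ⟨k, hk⟩ => h.1 ⟨k, hf (by rw [map_pow, map_mul, hk, map_one])⟩, fun hs => h.2 ?_⟩
  have e : (closure ({u, w} : Set G)).map f = closure {f u, f w} := by
    rw [MonoidHom.map_closure]; simp [Set.image_pair]
  rw [← e] at hs
  exact Group.isSolvable_of_isSolvable_injective
    (f := ((closure ({u, w} : Set G)).equivMapOfInjective f hf).toMonoidHom)
    ((closure ({u, w} : Set G)).equivMapOfInjective f hf).injective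

theorem Goal.symm {G : Type*} [Group G] {p : ℕ} {u w : G} (h : Goal p u w) : Goal p w u := by
  refine ⟨fun ⟨k, hk⟩ => h.1 ⟨k, ?_⟩, by rw [Set.pair_comm]; exact h.2⟩
  have : u * w = u * (w * u) * u⁻¹ := by group
  rw [this, conj_pow, hk]; group

theorem Goal.swap_roles {G : Type*} [Group G] {p : ℕ} {u w g : G} (h : Goal p w (g * u * g⁻¹)) :
    Goal p u (g⁻¹ * w * g⁻¹⁻¹) := by
  have := h.symm.map (MulAut.conj g⁻¹).toMonoidHom (MulAut.conj g⁻¹).injective
  simpa [mul_assoc] using this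

variable {α β : Type*}

theorem Goal.of_embed {p : ℕ} {e : β → α} (he : Function.Injective e) {u w : Perm α}
    {u0 w0 : Perm β} (hu : ∀ i, u (e i) = e (u0 i)) (hw : ∀ i, w (e i) = e (w0 i))
    (h : Goal p u0 w0) : Goal p u w := by
  let K : Subgroup (Perm α × Perm β) :=
    { carrier := {x | ∀ i, x.1 (e i) = e (x.2 i)}
      mul_mem' := fun {a b} ha hb i => by simp [hb i, ha (b.2 i)]
      one_mem' := fun i => rfl
      inv_mem' := fun {a} ha i => by
        simp only [Prod.fst_inv, Prod.snd_inv]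
        rw [Perm.inv_eq_iff_eq, ha]; simp }
  have h1 : Goal p (⟨(u, u0), hu⟩ : K) ⟨(w, w0), hw⟩ :=
    Goal.of_hom ((MonoidHom.snd _ _).comp K.subtype) h
  exact h1.map ((MonoidHom.fst _ _).comp K.subtype) (fun a b hab => by
    apply Subtype.ext
    refine Prod.ext hab ?_
    ext i
    apply he
    have : a.1.1 = b.1.1 := hab
    rw [← a.2 i, ← b.2 i, this])

theorem exists_even [Fintype α] [DecidableEq α] [Finite β] [DecidableEq β] {p : ℕ} {eu ew : β → α}
    (h1 : Function.Injective eu) (h2 : Function.Injective ew) {u w : Perm α} {u0 w0 : Perm β}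
    (hu : ∀ i, u (eu i) = eu (u0 i)) (hw : ∀ i, w (ew i) = ew (w0 i)) (π : Perm β) {i j : β}
    (hij : i ≠ j) (g1 : Goal p u0 (π⁻¹ * w0 * π))
    (g2 : Goal p u0 (swap i j * (π⁻¹ * w0 * π) * swap i j)) :
    ∃ g : Perm α, sign g = 1 ∧ Goal p u (g * w * g⁻¹) := by
  obtain ⟨g, hg⟩ := Perm.exists_extending_pair _ _ (h2.comp π.injective) h1
  simp only [Function.comp_apply] at hg
  have hg' : ∀ k, g⁻¹ (eu k) = ew (π k) := fun k => by rw [Perm.inv_eq_iff_eq, hg]
  have hw' : ∀ k, (g * w * g⁻¹) (eu k) = eu ((π⁻¹ * w0 * π) k) := by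
    intro k
    rw [Perm.mul_apply, Perm.mul_apply, hg', hw, ← hg]; simp
  rcases Int.units_eq_one_or (sign g) with hs | hs
  · exact ⟨g, hs, g1.of_embed h1 hu hw'⟩
  · refine ⟨swap (eu i) (eu j) * g, by simp [sign_swap (h1.ne hij), hs], g2.of_embed h1 hu ?_⟩
    intro k
    have : swap (eu i) (eu j) * g * w * (swap (eu i) (eu j) * g)⁻¹ =
        swap (eu i) (eu j) * (g * w * g⁻¹) * swap (eu i) (eu j) := by
      simp [mul_assoc]
    rw [this, Perm.mul_apply, Perm.mul_apply, h1.swap_apply, hw', h1.swap_apply]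
    rfl

theorem goal_of_words {G : Type*} [Group G] {p r : ℕ} (hr : r.Coprime p) {a b : G} (ha : a ≠ 1)
    (h1 : a * b ≠ 1) (h2 : (a * b) ^ r = 1) (x y z t : List Bool)
    (e1 : a = ⁅(x.map (if · then a else b)).prod, (y.map (if · then a else b)).prod⁆)
    (e2 : b = ⁅(z.map (if · then a else b)).prod, (t.map (if · then a else b)).prod⁆) :
    Goal p a b := by
  constructor
  · rintro ⟨k, hk⟩
    apply h1
    rw [← orderOf_eq_one_iff]
    exact Nat.eq_one_of_dvd_coprimes (hr.pow_right k) (orderOf_dvd_of_pow_eq_one h2)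
      (orderOf_dvd_of_pow_eq_one hk)
  · intro hs
    set K := closure ({a, b} : Set G)
    have ma : a ∈ K := subset_closure (by simp)
    have mb : b ∈ K := subset_closure (by simp)
    have hw : ∀ x : List Bool, (x.map (if · then a else b)).prod ∈ K := by
      intro x
      apply list_prod_mem
      intro g hg
      obtain ⟨c, -, rfl⟩ := List.mem_map.1 hg
      split_ifs; exacts [ma, mb]
    haveI : Nontrivial K := ⟨⟨⟨a, ma⟩, 1, fun e => ha (congrArg Subtype.val e)⟩⟩
    have h3 := Group.IsSolvable.commutator_lt_top_of_nontrivial K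
    have h4 : K ≤ ⁅K, K⁆ := by
      rw [closure_le]
      rintro g (rfl | rfl)
      · rw [e1]; exact commutator_mem_commutator (e1 ▸ hw x) (e1 ▸ hw y)
      · rw [e2]; exact commutator_mem_commutator (e2 ▸ hw z) (e2 ▸ hw t)
    apply h3.ne
    apply map_injective K.subtype_injective
    rw [map_subtype_commutator, ← MonoidHom.range_eq_map, range_subtype]
    refine le_antisymm ?_ h4
    rw [commutator_le]
    intro g hg g' hg'
    exact mul_mem (mul_mem (mul_mem hg hg') (inv_mem hg)) (inv_mem hg')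

theorem addRight_pow {n : ℕ} (k : ℕ) (i : ZMod n) : ((Equiv.addRight (1 : ZMod n)) ^ k) i = i + k := by
  induction k with
  | zero => simp
  | succ k ih => rw [pow_succ', Perm.mul_apply, ih]; simp [add_assoc]

theorem mem_of_ne_zero {p a : ℕ} [Fact p.Prime] (B : AddSubgroup (ZMod (p ^ a))) {t : ZMod (p ^ a)}
    (ht : t ∈ B) (h0 : t ≠ 0) : ((p ^ (a - 1) : ℕ) : ZMod (p ^ a)) ∈ B := by
  have hp : p.Prime := Fact.out
  obtain ⟨j, hj, e⟩ := (Nat.dvd_prime_pow hp).1 (Nat.gcd_dvd_right t.val (p ^ a))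
  have h1 : ((Nat.gcd t.val (p ^ a) : ℕ) : ZMod (p ^ a)) ∈ B := by
    have := congrArg (Int.cast : ℤ → ZMod (p ^ a)) (Nat.gcd_eq_gcd_ab t.val (p ^ a))
    simp only [Int.cast_natCast, Int.cast_add, Int.cast_mul, ZMod.natCast_self, zero_mul, add_zero,
      ZMod.natCast_zmod_val] at this
    rw [this, mul_comm, ← zsmul_eq_mul]
    exact zsmul_mem ht _
  have h2 : j ≠ a := by
    rintro rfl
    apply h0
    have := Nat.gcd_dvd_left t.val (p ^ j)
    rw [e] at this
    rw [← ZMod.natCast_zmod_val t, ZMod.natCast_eq_zero_iff]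
    exact this
  obtain ⟨c, hc⟩ : p ^ j ∣ p ^ (a - 1) := pow_dvd_pow _ (by omega)
  rw [hc, ← e, Nat.cast_mul, mul_comm, ← nsmul_eq_mul]
  exact nsmul_mem h1 _

theorem geom_char (p : ℕ) [Fact p.Prime] (k : ℕ) :
    ∑ i ∈ Finset.range (p ^ k), (X : (ZMod p)[X]) ^ i = (X - 1) ^ (p ^ k - 1) := by
  have hp : p.Prime := Fact.out
  have h0 : (X - 1 : (ZMod p)[X]) ≠ 0 := X_sub_C_ne_zero 1
  apply mul_right_cancel₀ h0
  rw [geom_sum_mul, ← pow_succ, Nat.sub_add_cancel (Nat.one_le_pow _ _ hp.pos), sub_pow_char_pow,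
    one_pow]

theorem nil_sum' {V : Type*} [AddCommGroup V] [Finite V] {p a : ℕ} [Fact p.Prime]
    [Module (ZMod p) V] (hp3 : 3 ≤ p) (ha : 1 ≤ a) (hc : Nat.card V = p ^ a) (c : V →+ V)
    (h : ∀ v, c^[p ^ a] v = v) :
    (a = 1 → ∀ v, c v = v) ∧ (a ≠ 1 → ∀ v, ∑ i ∈ Finset.range (p ^ (a - 1)), c^[i] v = 0) := by
  have hp : p.Prime := Fact.out
  let A : Module.End (ZMod p) V := c.toZModLinearMap p
  have hA : ∀ (k : ℕ) (d : V), (A ^ k) d = c^[k] d := by
    intro k d
    rw [Module.End.pow_apply]; rfl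
  haveI : Module.Finite (ZMod p) V := Module.Finite.of_finite
  have hfr : Module.finrank (ZMod p) V = a := by
    have := Module.natCard_eq_pow_finrank (K := ZMod p) (V := V)
    rw [Nat.card_zmod, hc] at this
    exact (Nat.pow_right_injective hp.two_le this).symm
  have hnil : (A - 1) ^ a = 0 := by
    have h3 : IsNilpotent (A - 1) := by
      refine ⟨p ^ a, ?_⟩
      have h4 : A ^ p ^ a = 1 := by
        refine LinearMap.ext fun d => ?_
        rw [hA, h]; rfl
      have h5 := congrArg (aeval A) (sub_pow_char_pow (X : (ZMod p)[X]) 1 a)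
      simpa [h4] using h5
    have h6 := LinearMap.aeval_self_charpoly (A - 1)
    rwa [h3.charpoly_eq_X_pow_finrank, hfr, map_pow, aeval_X] at h6
  refine ⟨fun ha1 v => ?_, fun ha1 v => ?_⟩
  · have h5 : A = 1 := by rw [ha1, pow_one, sub_eq_zero] at hnil; exact hnil
    have := hA 1 v
    rw [h5] at this
    exact this.symm
  · have h4 : ∑ i ∈ Finset.range (p ^ (a - 1)), A ^ i = 0 := by
      have h5 := congrArg (aeval A) (geom_char p (a - 1))
      simp only [map_sum, map_pow, aeval_X, map_sub, map_one] at h5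
      have h6 : a ≤ p ^ (a - 1) - 1 := by
        have h7 : 3 ^ (a - 1) ≤ p ^ (a - 1) := Nat.pow_le_pow_left hp3 _
        have h8 : ∀ n : ℕ, n + 3 ≤ 3 ^ (n + 1) := by
          intro n
          induction n with
          | zero => simp
          | succ n ih => rw [pow_succ]; omega
        have := h8 (a - 2)
        rw [show a - 2 + 1 = a - 1 by omega] at this
        omega
      rw [h5, pow_eq_zero_of_le h6 hnil]
    have h5 := congrArg (fun f : Module.End (ZMod p) V => f v) h4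
    simpa [LinearMap.sum_apply, hA] using h5

theorem nil_sum {V : Type*} [CommGroup V] [Finite V] {p a : ℕ} [Fact p.Prime] (hp3 : 3 ≤ p)
    (ha : 1 ≤ a) (hV : ∀ v : V, v ^ p = 1) (hc : Nat.card V = p ^ a) (c : V →* V)
    (h : ∀ v, c^[p ^ a] v = v) :
    (a = 1 → ∀ v, c v = v) ∧ (a ≠ 1 → ∀ v, ∏ i ∈ Finset.range (p ^ (a - 1)), c^[i] v = 1) :=
  @nil_sum' (Additive V) _ _ p a _ (AddCommGroup.zmodModule (fun x => hV x.toMul)) hp3 ha hc
    (MonoidHom.toAdditive c) h

theorem core {p a : ℕ} [Fact p.Prime] (hp3 : 3 ≤ p) (ha : 1 ≤ a) (w : Perm (ZMod (p ^ a)))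
    (i0 : ZMod (p ^ a))
    (h1 : w (i0 + (p ^ (a - 1) : ℕ)) - w i0 = 1 ∨ w (i0 + (p ^ (a - 1) : ℕ)) - w i0 = -1)
    (h2 : a = 1 → ∃ i, w (i + 1) - w i ≠ w (i + 1 + 1) - w (i + 1)) :
    ¬ Group.IsSolvable (closure ({Equiv.addRight 1, w} : Set (Perm (ZMod (p ^ a))))) := by
  intro hs
  have hp : p.Prime := Fact.out
  set U : Perm (ZMod (p ^ a)) := Equiv.addRight 1 with hU
  set G := closure ({U, w} : Set (Perm (ZMod (p ^ a))))
  have mU : U ∈ G := subset_closure (by simp)
  have mw : w ∈ G := subset_closure (by simp)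
  have hN : 1 < p ^ a := Nat.one_lt_pow (by omega) hp.one_lt
  haveI : Fact (1 < p ^ a) := ⟨hN⟩
  haveI : Nontrivial G := ⟨⟨⟨U, mU⟩, 1, fun e => by
    have := congrArg (fun g : G => g.1 0) e
    simp [hU] at this⟩⟩
  obtain ⟨M, r, hMn, hM1, hr, hMc, hMr, -⟩ := H1.exists_normal_elementary G
  set D := M.map G.subtype with hD
  have dn : ∀ g ∈ G, ∀ d ∈ D, g * d * g⁻¹ ∈ D := by
    rintro g hg _ ⟨d, hd, rfl⟩
    exact ⟨_, hMn.conj_mem d hd ⟨g, hg⟩, rfl⟩
  have dc : ∀ d ∈ D, ∀ e ∈ D, d * e = e * d := by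
    rintro _ ⟨d, hd, rfl⟩ _ ⟨e, he, rfl⟩
    exact congrArg (fun x : M => ((x : G) : Perm (ZMod (p ^ a)))) (mul_comm (⟨d, hd⟩ : M) ⟨e, he⟩)
  have dr : ∀ d ∈ D, d ^ r = 1 := by
    rintro _ ⟨d, hd, rfl⟩
    exact congrArg Subtype.val (hMr d hd)
  have hUk : ∀ (k : ℕ) i, (U ^ k) i = i + k := addRight_pow
  have hUk' : ∀ (k : ℕ) i, (U ^ k)⁻¹ i = i - k := by
    intro k i; rw [Perm.inv_eq_iff_eq, hUk]; simp
  have hinv : ∀ x, w⁻¹ (w x) = x := fun x => by simp
  have shift : ∀ d ∈ D, ∀ i j, ∃ e ∈ D, e j = j + (d i - i) := by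
    intro d hd i j
    refine ⟨_, dn _ (pow_mem mU (j - i).val) d hd, ?_⟩
    rw [Perm.mul_apply, Perm.mul_apply, hUk', hUk]; simp; ring
  let B : AddSubgroup (ZMod (p ^ a)) :=
    { carrier := {t | ∃ d ∈ D, d 0 = t}
      zero_mem' := ⟨1, one_mem _, rfl⟩
      add_mem' := by
        rintro _ _ ⟨d, hd, rfl⟩ ⟨e, he, rfl⟩
        obtain ⟨f, hf, h⟩ := shift e he 0 (d 0)
        exact ⟨f * d, mul_mem hf hd, by rw [Perm.mul_apply, h]; simp⟩
      neg_mem' := by
        rintro _ ⟨d, hd, rfl⟩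
        obtain ⟨f, hf, h⟩ := shift d hd 0 (-d 0)
        exact ⟨f⁻¹, inv_mem hf, by rw [Perm.inv_eq_iff_eq, h]; simp⟩ }
  have hB : ∀ d ∈ D, ∀ i, d i - i ∈ B := by
    intro d hd i
    obtain ⟨e, he, h⟩ := shift d hd i 0
    exact ⟨e, he, by rw [h, zero_add]⟩
  obtain ⟨d0, hd0, hd1⟩ : ∃ d ∈ D, d ≠ 1 := by
    obtain ⟨⟨x, hx⟩, hx1⟩ := ne_bot_iff_exists_ne_one.1 hM1
    exact ⟨x.1, ⟨x, hx, rfl⟩, fun e => hx1 (Subtype.ext (Subtype.ext e))⟩
  obtain ⟨i1, hi1⟩ : ∃ i, d0 i ≠ i := by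
    by_contra hh; push Not at hh; exact hd1 (Equiv.ext hh)
  have hm := mem_of_ne_zero B (hB d0 hd0 i1) (sub_ne_zero.2 hi1)
  have hone : (1 : ZMod (p ^ a)) ∈ B := by
    obtain ⟨d, hd, e⟩ := hm
    obtain ⟨f, hf, h⟩ := shift d hd 0 i0
    have := hB _ (dn w mw f hf) (w i0)
    simp only [Perm.mul_apply, hinv, h, e, sub_zero] at this
    rcases h1 with h1 | h1
    · rwa [h1] at this
    · rw [h1] at this; simpa using neg_mem this
  have htr : ∀ i, ∃ d ∈ D, d 0 = i := by
    intro i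
    have : i ∈ B := by
      have := nsmul_mem hone i.val
      simpa using this
    exact this
  have hreg : ∀ d ∈ D, ∀ e ∈ D, d 0 = e 0 → d = e := by
    intro d hd e he h
    ext i
    obtain ⟨f, hf, rfl⟩ := htr i
    rw [← Perm.mul_apply, dc d hd f hf, Perm.mul_apply, h, ← Perm.mul_apply, dc f hf e he,
      Perm.mul_apply]
  have hcard : Nat.card D = p ^ a := by
    refine Eq.trans ?_ (Nat.card_zmod (p ^ a))
    apply Nat.card_congr
    refine Equiv.ofBijective (fun d => d.1 0) ⟨fun d e h => Subtype.ext (hreg _ d.2 _ e.2 h), ?_⟩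
    intro i
    obtain ⟨d, hd, e⟩ := htr i
    exact ⟨⟨d, hd⟩, e⟩
  have hrp : r = p := by
    haveI := Fact.mk hr
    have h3 : orderOf d0 = r := orderOf_eq_prime (dr d0 hd0) hd1
    have h4 := D.orderOf_dvd_natCard hd0
    rw [h3, hcard] at h4
    exact (Nat.prime_dvd_prime_iff_eq hr hp).1 (hr.dvd_of_dvd_pow h4)
  subst hrp
  haveI : IsMulCommutative D := ⟨⟨fun x y => Subtype.ext (dc _ x.2 _ y.2)⟩⟩
  let c : D →* D := MonoidHom.mk' (fun d => ⟨U * d * U⁻¹, dn U mU d d.2⟩) (fun x y => by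
    apply Subtype.ext; simp [mul_assoc])
  have hA : ∀ (k : ℕ) (d : D), (c^[k] d : Perm (ZMod (r ^ a))) = U ^ k * d * (U ^ k)⁻¹ := by
    intro k
    induction k with
    | zero => simp
    | succ k ih =>
      intro d
      rw [Function.iterate_succ_apply']
      change U * (c^[k] d : Perm (ZMod (r ^ a))) * U⁻¹ = _
      rw [ih]; group
  obtain ⟨n1, n2⟩ := nil_sum hp3 ha (fun v : D => Subtype.ext (dr _ v.2)) hcard c (fun d => by
    have : U ^ r ^ a = 1 := by ext i; rw [hUk]; simp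
    apply Subtype.ext
    rw [hA, this]; simp)
  obtain ⟨t, ht, ht0⟩ := htr 1
  by_cases ha1 : a = 1
  · obtain ⟨i, hi⟩ := h2 ha1
    have h3 : ∀ d ∈ D, U * d = d * U := by
      intro d hd
      exact mul_inv_eq_iff_eq_mul.1 (congrArg Subtype.val (n1 ha1 ⟨d, hd⟩))
    have h6 : ∀ d ∈ D, ∀ j, d j = j + d 0 := by
      intro d hd j
      have := congrArg (fun f : Perm (ZMod (r ^ a)) => f 0)
        ((show Commute U d from h3 d hd).pow_left j.val).eq
      simp only [Perm.mul_apply, hUk, ZMod.natCast_val, ZMod.cast_id', id_eq, zero_add] at this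
      rw [← this, add_comm]
    have h7 := h6 _ (dn w mw t ht)
    have h8 := h7 (w i)
    have h9 := h7 (w (i + 1))
    simp only [Perm.mul_apply, hinv] at h8 h9
    rw [h6 t ht, ht0] at h8 h9
    apply hi
    linear_combination h8 - h9
  · have hform : ∀ k : ℕ, ((∏ i ∈ Finset.range k, c^[i] ⟨t, ht⟩ : D) :
        Perm (ZMod (r ^ a))) 0 = k := by
      intro k
      induction k with
      | zero => simp
      | succ k ih =>
        rw [Finset.prod_range_succ, mul_comm, Subgroup.coe_mul, Perm.mul_apply, ih, hA]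
        simp only [Perm.mul_apply, hUk', sub_self, ht0, hUk]
        push_cast; ring
    have h3 := hform (r ^ (a - 1))
    rw [n2 ha1] at h3
    simp only [OneMemClass.coe_one, Perm.one_apply] at h3
    have h5 := (ZMod.natCast_eq_zero_iff _ _).1 h3.symm
    have := (Nat.pow_dvd_pow_iff_le_right hp.one_lt).1 h5
    omega

end H2.Anp
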