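import Cfsg.Agent.H2.Anp1

/-! Pairs of `p`-elements of symmetric groups, part 2: orbits, invariant sets of prescribed size,
and the main theorem `exists_goal`. -/

namespace H2.Anp
open Equiv Equiv.Perm Subgroup MulAction

variable {α : Type*} [Fintype α] [DecidableEq α]

omit [Fintype α] [DecidableEq α] in
theorem pow_eq_iff (σ : Perm α) (x : α) (i j : ℕ) :
    (σ ^ i) x = (σ ^ j) x ↔ i ≡ j [MOD period σ x] := by
  wlog h : i ≤ j generalizing i j
  · rw [eq_comm, this j i (by omega)]; exact ⟨Nat.ModEq.symm, Nat.ModEq.symm⟩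
  rw [Nat.modEq_iff_dvd' h, ← pow_smul_eq_iff_period_dvd]
  obtain ⟨k, rfl⟩ := Nat.exists_eq_add_of_le h
  rw [pow_add, Perm.mul_apply, (σ ^ i).injective.eq_iff, Nat.add_sub_cancel_left, eq_comm]
  rfl

omit [DecidableEq α] in
theorem per_pos (σ : Perm α) (x : α) : 0 < period σ x := period_pos_of_orderOf_pos (orderOf_pos σ) x

/-- the orbit of `x` under `σ` -/
noncomputable def orb (σ : Perm α) (x : α) : Finset α :=
  (Finset.range (period σ x)).image fun i => (σ ^ i) x

theorem mem_orb {σ : Perm α} {x y : α} : y ∈ orb σ x ↔ ∃ i : ℕ, (σ ^ i) x = y := by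
  simp only [orb, Finset.mem_image, Finset.mem_range]
  refine ⟨fun ⟨i, _, h⟩ => ⟨i, h⟩, fun ⟨i, h⟩ => ⟨i % period σ x, Nat.mod_lt _ (per_pos σ x), ?_⟩⟩
  rw [← h, pow_eq_iff]; exact Nat.mod_modEq _ _

omit [Fintype α] in
theorem card_orb (σ : Perm α) (x : α) : (orb σ x).card = period σ x := by
  rw [orb, Finset.card_image_of_injOn, Finset.card_range]
  intro i hi j hj h
  exact ((pow_eq_iff σ x i j).1 h).eq_of_lt_of_lt (by simpa using hi) (by simpa using hj)

theorem apply_mem_orb {σ : Perm α} {x y : α} : σ y ∈ orb σ x ↔ y ∈ orb σ x := by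
  simp only [mem_orb]
  constructor
  · rintro ⟨i, h⟩
    refine ⟨i + (period σ x - 1), σ.injective ?_⟩
    rw [← h, ← Perm.mul_apply, ← pow_succ', pow_eq_iff]
    have := per_pos σ x
    rw [show i + (period σ x - 1) + 1 = i + period σ x by omega]
    simp [Nat.ModEq]
  · rintro ⟨i, rfl⟩
    exact ⟨i + 1, by rw [pow_succ', Perm.mul_apply]⟩

theorem greedy {p : ℕ} (hp : p.Prime) {σ : Perm α} (hσ : ∀ x : α, ∃ e, period σ x = p ^ e) :
    ∀ (m : ℕ) (S : Finset α), (∀ x ∈ S, σ x ∈ S) → (∀ x ∈ S, period σ x ∣ m) → m ≤ S.card →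
      ∃ T ⊆ S, (∀ x ∈ T, σ x ∈ T) ∧ T.card = m ∧
        (0 < m → ∃ x ∈ T, ∀ y ∈ S, period σ y ≤ period σ x) := by
  intro m
  induction m using Nat.strong_induction_on with
  | _ m ih =>
  intro S hS hd hm
  rcases Nat.eq_zero_or_pos m with rfl | hpos
  · exact ⟨∅, by simp, by simp, rfl, by simp⟩
  obtain ⟨x, hx, hmax⟩ := S.exists_max_image (period σ) (Finset.card_pos.1 (by omega))
  have hsub : orb σ x ⊆ S := by
    intro y hy
    obtain ⟨i, rfl⟩ := mem_orb.1 hy
    induction i with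
    | zero => simpa using hx
    | succ i ih2 => rw [pow_succ', Perm.mul_apply]; exact hS _ (ih2 (mem_orb.2 ⟨i, rfl⟩))
  have hle : period σ x ≤ m := Nat.le_of_dvd hpos (hd x hx)
  have hx0 := per_pos σ x
  obtain ⟨T, hT, hT1, hT2, -⟩ := ih (m - period σ x) (by omega) (S \ orb σ x) (by
    intro y hy
    rw [Finset.mem_sdiff] at hy ⊢
    exact ⟨hS y hy.1, fun h => hy.2 (apply_mem_orb.1 h)⟩) (by
    intro y hy
    have hy' := (Finset.mem_sdiff.1 hy).1
    refine Nat.dvd_sub (hd y hy') ?_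
    obtain ⟨e, he⟩ := hσ y
    obtain ⟨f, hf⟩ := hσ x
    have := hmax y hy'
    rw [he, hf] at this ⊢
    exact pow_dvd_pow _ ((Nat.pow_le_pow_iff_right hp.one_lt).1 this)) (by
    rw [Finset.card_sdiff_of_subset hsub, card_orb]; omega)
  refine ⟨T ∪ orb σ x, Finset.union_subset (hT.trans Finset.sdiff_subset) hsub, ?_, ?_,
    fun _ => ⟨x, Finset.mem_union_right _ (mem_orb.2 ⟨0, rfl⟩), hmax⟩⟩
  · intro y hy
    rw [Finset.mem_union] at hy ⊢
    exact hy.imp (hT1 y) apply_mem_orb.2
  · rw [Finset.card_union_of_disjoint (Finset.disjoint_of_subset_left hT Finset.sdiff_disjoint),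
      hT2, card_orb]
    omega

omit [Fintype α] [DecidableEq α] in
theorem cyc_embed {σ : Perm α} {x : α} {N : ℕ} [NeZero N] (h : period σ x = N) :
    Function.Injective (fun i : ZMod N => (σ ^ i.val) x) ∧
      ∀ i : ZMod N, σ ((σ ^ i.val) x) = (σ ^ (Equiv.addRight 1 i).val) x := by
  constructor
  · intro i j hij
    have := (pow_eq_iff σ x _ _).1 hij
    rw [h] at this
    exact ZMod.val_injective _ (this.eq_of_lt_of_lt (ZMod.val_lt i) (ZMod.val_lt j))
  · intro i
    rw [← Perm.mul_apply, ← pow_succ', pow_eq_iff, h, ← ZMod.natCast_eq_natCast_iff]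
    simp

theorem place_goal {p N k : ℕ} [NeZero N] {u w : Perm α} {x : α} (hx : period u x = N)
    {T : Finset α} (hT : ∀ y ∈ T, w y ∈ T) (hc : T.card = N) (pos : Fin k → ℕ)
    (hpos : Function.Injective pos) (hlt : ∀ a, pos a < N) (pt : Fin k → α)
    (hpt : Function.Injective pt) (hm : ∀ a, pt a ∈ T) (hk : k + 2 ≤ N)
    (hG : ∀ v : Perm (ZMod N), (∀ a b, w (pt a) = pt b → v (pos a) = pos b) →
      Goal p (Equiv.addRight 1) v) :
    ∃ g : Perm α, sign g = 1 ∧ Goal p u (g * w * g⁻¹) := by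
  obtain ⟨h1, h2⟩ := cyc_embed hx
  have hT' : ∀ y, w y ∈ T ↔ y ∈ T := fun y =>
    ⟨fun h => Perm.perm_symm_on_of_perm_on_finset hT h |> fun q => by simpa using q, hT y⟩
  let e0 : ZMod N ≃ T := Fintype.equivOfCardEq (by simp [hc])
  have hpos' : Function.Injective fun a => (pos a : ZMod N) := fun a b h =>
    hpos (((ZMod.natCast_eq_natCast_iff _ _ _).1 h).eq_of_lt_of_lt (hlt a) (hlt b))
  obtain ⟨π, hπ⟩ := Perm.exists_extending_pair _ (fun a => e0.symm ⟨pt a, hm a⟩) hpos'
    (fun a b h => hpt (congrArg Subtype.val (e0.symm.injective h)))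
  let w0 : Perm (ZMod N) := e0.symm.permCongr (w.subtypePerm hT')
  have hw : ∀ i, w (e0 i) = e0 (w0 i) := by intro i; simp [w0]
  have hv : ∀ a b, w (pt a) = pt b → (π⁻¹ * w0 * π) (pos a) = pos b := by
    intro a b h
    rw [Perm.mul_apply, Perm.mul_apply, Perm.inv_eq_iff_eq, hπ, hπ]
    apply e0.injective
    apply Subtype.ext
    rw [← hw]; simpa using h
  obtain ⟨i, hi, j, hj, hij⟩ : ∃ i ∈ Finset.univ \ Finset.univ.image fun a => (pos a : ZMod N),
      ∃ j ∈ Finset.univ \ Finset.univ.image fun a => (pos a : ZMod N), i ≠ j := by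
    rw [← Finset.one_lt_card, Finset.card_sdiff_of_subset (Finset.subset_univ _),
      Finset.card_image_of_injective _ hpos']
    simp; omega
  simp only [Finset.mem_sdiff, Finset.mem_univ, Finset.mem_image, true_and, not_exists] at hi hj
  refine exists_even h1 (ew := fun i => (e0 i : α)) (Subtype.val_injective.comp e0.injective) h2 hw
    π hij (hG _ hv) (hG _ fun a b h => ?_)
  rw [Perm.mul_apply, Perm.mul_apply, swap_apply_of_ne_of_ne (hi a) (hj a), hv a b h,
    swap_apply_of_ne_of_ne (hi b) (hj b)]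

theorem goal_of_core {p a : ℕ} [Fact p.Prime] (hp3 : 3 ≤ p) (ha : 1 ≤ a) (w : Perm (ZMod (p ^ a)))
    {i j : ZMod (p ^ a)} (hij : i ≠ j) (hi : w i + 1 = j) (hj : w j + 1 = i) (i0 : ZMod (p ^ a))
    (h1 : w (i0 + (p ^ (a - 1) : ℕ)) - w i0 = 1 ∨ w (i0 + (p ^ (a - 1) : ℕ)) - w i0 = -1)
    (h2 : a = 1 → ∃ i, w (i + 1) - w i ≠ w (i + 1 + 1) - w (i + 1)) :
    Goal p (Equiv.addRight 1) w := by
  refine ⟨?_, core hp3 ha w i0 h1 h2⟩
  rintro ⟨k, hk⟩
  have hp : p.Prime := Fact.out
  obtain ⟨l, hl⟩ : Odd (p ^ k) := (hp.odd_of_ne_two (by omega)).pow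
  set s : Perm (ZMod (p ^ a)) := Equiv.addRight 1 * w with hs
  have hs' : ∀ t, s t = w t + 1 := fun t => rfl
  have h3 : (s ^ 2) i = i := by rw [pow_two, Perm.mul_apply, hs' i, hi, hs', hj]
  have h4 : (s ^ p ^ k) i = i := by rw [hk]; rfl
  rw [hl, pow_succ' _ (2 * l), pow_mul, Perm.mul_apply,
    Perm.pow_apply_eq_self_of_apply_eq_self h3, hs', hi] at h4
  exact hij h4.symm

theorem main_big {p a : ℕ} [Fact p.Prime] (hp3 : 3 ≤ p) (hN : 7 ≤ p ^ a) {u w : Perm α} {x : α}
    (hx : period u x = p ^ a) (hw : ∀ y : α, ∃ e, period w y = p ^ e)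
    (hle : ∀ y : α, period w y ≤ p ^ a) (hw1 : w ≠ 1) :
    ∃ g : Perm α, sign g = 1 ∧ Goal p u (g * w * g⁻¹) := by
  have hp : p.Prime := Fact.out
  have ha : 1 ≤ a := by
    rcases a with _ | a
    · simp at hN
    · omega
  obtain ⟨T, -, hT, hc, hmax⟩ := greedy hp hw (p ^ a) Finset.univ (by simp) (by
    intro y _
    obtain ⟨e, he⟩ := hw y
    have := hle y
    rw [he] at this ⊢
    exact pow_dvd_pow _ ((Nat.pow_le_pow_iff_right hp.one_lt).1 this)) (by
    rw [← hx, ← card_orb]; exact Finset.card_le_univ _)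
  obtain ⟨c, hcT, hmax⟩ := hmax (by omega)
  have hcT' : ∀ i : ℕ, (w ^ i) c ∈ T := by
    intro i
    induction i with
    | zero => simpa using hcT
    | succ i ih => rw [pow_succ', Perm.mul_apply]; exact hT _ ih
  have hc1 : 1 < period w c := by
    obtain ⟨y, hy⟩ : ∃ y, w y ≠ y := by
      by_contra hh; push Not at hh; exact hw1 (Equiv.ext hh)
    have h1 := hmax y (Finset.mem_univ _)
    have h2 : period w y ≠ 1 := fun e => hy (period_eq_one_iff.1 e)
    have := per_pos w y
    omega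
  set m := p ^ (a - 1) with hm
  have hNm : p ^ a = p * m := by rw [hm, ← pow_succ', Nat.sub_add_cancel ha]
  have hm0 : 0 < m := pow_pos hp.pos _
  have hNm' : 3 * m ≤ p ^ a := by rw [hNm]; exact Nat.mul_le_mul_right _ hp3
  have hne : (1 : ZMod (p ^ a)) ≠ ((2 + m : ℕ) : ZMod (p ^ a)) := by
    intro h
    have : ((1 : ℕ) : ZMod (p ^ a)) = ((2 + m : ℕ) : ZMod (p ^ a)) := by simpa using h
    have := ((ZMod.natCast_eq_natCast_iff _ _ _).1 this).eq_of_lt_of_lt (by omega) (by omega)
    omega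
  by_cases h4 : 4 ≤ period w c
  · refine place_goal hx hT hc ![1, 1 + m, 2 + m, 0] ?_ ?_ (fun i : Fin 4 => (w ^ i.val) c) ?_
      (fun i => hcT' _) (by omega) fun v hv => ?_
    · intro i j h; fin_cases i <;> fin_cases j <;> simp at h ⊢ <;> omega
    · intro i; fin_cases i <;> simp <;> omega
    · intro i j h
      exact Fin.ext (((pow_eq_iff w c _ _).1 h).eq_of_lt_of_lt (by omega) (by omega))
    · have e0 := hv 0 1 (by simp)
      have e1 := hv 1 2 (by simp [pow_succ])
      have e2 := hv 2 3 (by simp [pow_succ])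
      simp only [Matrix.cons_val_zero, Matrix.cons_val_one, Matrix.cons_val, Nat.cast_one,
        Nat.cast_zero] at e0 e1 e2
      refine goal_of_core hp3 ha v hne (by rw [e0]; push_cast; ring) (by rw [e2]; simp) 1
        (Or.inl ?_) fun ha1 => ⟨1, ?_⟩
      · rw [← hm, e0, show (1 : ZMod (p ^ a)) + (m : ℕ) = ((1 + m : ℕ) : ZMod (p ^ a)) by simp, e1]
        push_cast; ring
      · have hm1 : m = 1 := by rw [hm, ha1]; simp
        rw [hm1] at e0 e1 e2
        push_cast at e0 e1 e2
        rw [show (1 : ZMod (p ^ a)) + 1 + 1 = 3 by norm_num, show (1 : ZMod (p ^ a)) + 1 = 2 by norm_num,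
          e0, e1, e2]
        intro h
        have h5 : ((4 : ℕ) : ZMod (p ^ a)) = 0 := by push_cast; linear_combination h
        have := Nat.le_of_dvd (by norm_num) ((ZMod.natCast_eq_zero_iff _ _).1 h5)
        omega
  · have hp3' : p = 3 ∧ period w c = 3 := by
      obtain ⟨e, he⟩ := hw c
      have h5 : p ≤ p ^ e := Nat.le_self_pow (by rintro rfl; simp [he] at hc1) p
      omega
    have ha2 : a ≠ 1 := by
      rintro rfl
      rw [hp3'.1] at hN; simp at hN
    have hm3 : 3 ≤ m := le_trans hp3 (Nat.le_self_pow (by omega) p)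
    obtain ⟨y, hyT, hy⟩ : ∃ y ∈ T, y ∉ orb w c :=
      Finset.exists_mem_notMem_of_card_lt_card (by rw [card_orb, hc]; omega)
    have hy2 : w y ∉ orb w c := fun h => hy (apply_mem_orb.1 h)
    have hc3 : w (w (w c)) = c := by
      have := pow_period_smul w c
      rw [hp3'.2] at this
      simpa [pow_succ] using this
    have n01 : c ≠ w c := fun h => by
      have := (pow_eq_iff w c 0 1).1 (by simpa using h)
      rw [hp3'.2] at this; exact absurd this (by decide)
    have n02 : c ≠ w (w c) := fun h => n01 (by rw [← h] at hc3; exact hc3.symm)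
    have n12 : w c ≠ w (w c) := w.injective.ne n01
    have o0 : c ∈ orb w c := mem_orb.2 ⟨0, rfl⟩
    have o1 : w c ∈ orb w c := apply_mem_orb.2 o0
    have o2 : w (w c) ∈ orb w c := apply_mem_orb.2 o1
    by_cases hf : w y = y
    · refine place_goal hx hT hc ![1, p ^ a - 1, m, 0] ?_ ?_ ![c, w c, w (w c), y] ?_
        ?_ (by omega) fun v hv => ?_
      · intro i j h; fin_cases i <;> fin_cases j <;> simp at h ⊢ <;> omega
      · intro i; fin_cases i <;> simp <;> omega
      · intro i j h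
        fin_cases i <;> fin_cases j <;> first | rfl | (exfalso; simp at h; grind)
      · intro i; fin_cases i <;> simp [hcT, hT, hyT]
      · have e0 := hv 0 1 (by simp)
        have e1 := hv 2 0 (by simp [hc3])
        have e2 := hv 3 3 (by simp [hf])
        simp only [Matrix.cons_val_zero, Matrix.cons_val_one, Matrix.cons_val, Nat.cast_one,
          Nat.cast_zero] at e0 e1 e2
        haveI : Fact (1 < p ^ a) := ⟨by omega⟩
        refine goal_of_core hp3 ha v (i := 1) (j := 0) one_ne_zero ?_ (by rw [e2]; simp) 0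
          (Or.inl ?_) fun ha1 => absurd ha1 ha2
        · rw [e0, Nat.cast_sub (by omega)]; simp
        · rw [← hm, zero_add, e1, e2]; simp
    · refine place_goal hx hT hc ![1, 1 + m, m, 2 + m, 0] ?_ ?_ ![c, w c, w (w c), y, w y] ?_
        ?_ (by omega) fun v hv => ?_
      · intro i j h; fin_cases i <;> fin_cases j <;> simp at h ⊢ <;> omega
      · intro i; fin_cases i <;> simp <;> omega
      · intro i j h
        fin_cases i <;> fin_cases j <;> first | rfl | (exfalso; simp at h; grind)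
      · intro i; fin_cases i <;> simp [hcT, hT, hyT]
      · have e0 := hv 0 1 (by simp)
        have e1 := hv 1 2 (by simp)
        have e2 := hv 3 4 (by simp)
        simp only [Matrix.cons_val_zero, Matrix.cons_val_one, Matrix.cons_val, Nat.cast_one,
          Nat.cast_zero] at e0 e1 e2
        refine goal_of_core hp3 ha v hne (by rw [e0]; push_cast; ring) (by rw [e2]; simp) 1
          (Or.inr ?_) fun ha1 => absurd ha1 ha2
        rw [← hm, e0, show (1 : ZMod (p ^ a)) + (m : ℕ) = ((1 + m : ℕ) : ZMod (p ^ a)) by simp, e1]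
        push_cast; ring

end H2.Anp
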