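import Cfsg.Agent.H2.Anp2

/-! Pairs of `p`-elements of symmetric groups, part 3: small cases and the theorem `exists_goal`. -/

namespace H2.Anp
open Equiv Equiv.Perm Subgroup MulAction

variable {α : Type*} [Fintype α] [DecidableEq α]

theorem main_five {u w : Perm α} {x y : α} (hx : period u x = 5) (hy : period w y = 5) :
    ∃ g : Perm α, sign g = 1 ∧ Goal 5 u (g * w * g⁻¹) := by
  obtain ⟨h1, h2⟩ := cyc_embed hx
  obtain ⟨h3, h4⟩ := cyc_embed hy
  refine exists_even h1 h3 h2 h4 (swap 1 2 * swap 1 3 * swap 1 0) (i := 1) (j := 2) (by decide)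
    (goal_of_words (r := 2) (by decide) (by decide +kernel) (by decide +kernel) (by decide +kernel)
      [false, false, true] [false, false] [true, true, false] [true, true]
      (by decide +kernel) (by decide +kernel))
    (goal_of_words (r := 3) (by decide) (by decide +kernel) (by decide +kernel) (by decide +kernel)
      [false] [false, false, false, true] [true] [true, true, true, false]
      (by decide +kernel) (by decide +kernel))

theorem shape (h5 : 5 ≤ Fintype.card α) {σ : Perm α} (h3 : ∀ x, σ (σ (σ x)) = x) (h1 : σ ≠ 1) :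
    (∃ e : Fin 6 → α, Function.Injective e ∧
      ∀ i, σ (e i) = e ((swap 0 2 * swap 0 1 * (swap 3 5 * swap 3 4) : Perm (Fin 6)) i)) ∨
    ((∃ e : Fin 5 → α, Function.Injective e ∧
      ∀ i, σ (e i) = e ((swap 0 2 * swap 0 1 : Perm (Fin 5)) i)) ∧
    (6 ≤ Fintype.card α → ∃ e : Fin 6 → α, Function.Injective e ∧
      ∀ i, σ (e i) = e ((swap 0 2 * swap 0 1 : Perm (Fin 6)) i))) := by
  obtain ⟨x, hx⟩ : ∃ x, σ x ≠ x := by
    by_contra hh; push Not at hh; exact h1 (Equiv.ext hh)
  have hx3 := h3 x
  by_cases hy : ∃ y, y ≠ x ∧ y ≠ σ x ∧ y ≠ σ (σ x) ∧ σ y ≠ y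
  · obtain ⟨y, y1, y2, y3, y4⟩ := hy
    have hy3 := h3 y
    refine Or.inl ⟨![x, σ x, σ (σ x), y, σ y, σ (σ y)], ?_, ?_⟩
    · intro i j h
      fin_cases i <;> fin_cases j <;> first | rfl | (exfalso; simp at h; grind)
    · intro i; fin_cases i <;> simp [swap_apply_def, h3]
  · push Not at hy
    have hc : (Finset.univ \ {x, σ x, σ (σ x)} : Finset α).card = Fintype.card α - 3 := by
      rw [Finset.card_sdiff_of_subset (Finset.subset_univ _), Finset.card_univ,
        Finset.card_insert_of_notMem (by grind), Finset.card_pair (by grind)]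
    refine Or.inr ⟨?_, fun h6 => ?_⟩
    · obtain ⟨a, ha, b, hb, hab⟩ := Finset.one_lt_card.1 (show 1 < _ by rw [hc]; omega)
      simp only [Finset.mem_sdiff, Finset.mem_univ, Finset.mem_insert, Finset.mem_singleton,
        not_or, true_and] at ha hb
      have a1 := hy a ha.1 ha.2.1 ha.2.2
      have b1 := hy b hb.1 hb.2.1 hb.2.2
      refine ⟨![x, σ x, σ (σ x), a, b], ?_, ?_⟩
      · intro i j h
        fin_cases i <;> fin_cases j <;> first | rfl | (exfalso; simp at h; grind)
      · intro i; fin_cases i <;> simp [swap_apply_def, h3, a1, b1]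
    · obtain ⟨a, ha, b, hb, c, hc', hab, hac, hbc⟩ :=
        Finset.two_lt_card.1 (show 2 < _ by rw [hc]; omega)
      simp only [Finset.mem_sdiff, Finset.mem_univ, Finset.mem_insert, Finset.mem_singleton,
        not_or, true_and] at ha hb hc'
      have a1 := hy a ha.1 ha.2.1 ha.2.2
      have b1 := hy b hb.1 hb.2.1 hb.2.2
      have c1 := hy c hc'.1 hc'.2.1 hc'.2.2
      refine ⟨![x, σ x, σ (σ x), a, b, c], ?_, ?_⟩
      · intro i j h
        fin_cases i <;> fin_cases j <;> first | rfl | (exfalso; simp at h; grind)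
      · intro i; fin_cases i <;> simp [swap_apply_def, h3, a1, b1, c1]

theorem flip {p : ℕ} {u w : Perm α} (h : ∃ g : Perm α, sign g = 1 ∧ Goal p w (g * u * g⁻¹)) :
    ∃ g : Perm α, sign g = 1 ∧ Goal p u (g * w * g⁻¹) := by
  obtain ⟨g, h1, h2⟩ := h
  exact ⟨g⁻¹, by simpa using h1, h2.swap_roles⟩

theorem main_AB {u w : Perm α} {e f : Fin 6 → α} (he : Function.Injective e)
    (hf : Function.Injective f)
    (hu : ∀ i, u (e i) = e ((swap 0 2 * swap 0 1 * (swap 3 5 * swap 3 4) : Perm (Fin 6)) i))
    (hw : ∀ i, w (f i) = f ((swap 0 2 * swap 0 1 : Perm (Fin 6)) i)) :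
    ∃ g : Perm α, sign g = 1 ∧ Goal 3 u (g * w * g⁻¹) :=
  exists_even he hf hu hw (swap 2 3) (i := 4) (j := 5) (by decide)
    (goal_of_words (r := 4) (by decide) (by decide +kernel) (by decide +kernel) (by decide +kernel)
      [false, false, true, false, false, true, false]
      [true, false, true, false, false, true, false, false] [true, false, true]
      [true, true, false, true, true, false, true, false, true, true]
      (by decide +kernel) (by decide +kernel))
    (goal_of_words (r := 4) (by decide) (by decide +kernel) (by decide +kernel) (by decide +kernel)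
      [false, false, true, false, false, true, false]
      [true, false, true, false, false, true, false, false] [true, false, true]
      [true, true, false, true, true, false, true, false, true, true]
      (by decide +kernel) (by decide +kernel))

theorem main_three (h5 : 5 ≤ Fintype.card α) {u w : Perm α} (hu : ∀ x, u (u (u x)) = x)
    (hu1 : u ≠ 1) (hw : ∀ x, w (w (w x)) = x) (hw1 : w ≠ 1) :
    ∃ g : Perm α, sign g = 1 ∧ Goal 3 u (g * w * g⁻¹) := by
  rcases shape h5 hu hu1 with ⟨e, he, h1⟩ | ⟨⟨e, he, h1⟩, h1'⟩ <;>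
    rcases shape h5 hw hw1 with ⟨f, hf, h2⟩ | ⟨⟨f, hf, h2⟩, h2'⟩
  · exact exists_even he hf h1 h2 (swap 2 3 * swap 4 5) (i := 4) (j := 0) (by decide)
      (goal_of_words (r := 5) (by decide) (by decide +kernel) (by decide +kernel)
        (by decide +kernel) [false, true, true, false] [false, true, false]
        [true, false, true, true] [true, false, true] (by decide +kernel) (by decide +kernel))
      (goal_of_words (r := 5) (by decide) (by decide +kernel) (by decide +kernel)
        (by decide +kernel) [false, true, true, false] [false, true, false]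
        [true, false, true, true] [true, false, true] (by decide +kernel) (by decide +kernel))
  · obtain ⟨f', hf', h3⟩ := h2' (by simpa using Fintype.card_le_of_injective e he)
    exact main_AB he hf' h1 h3
  · obtain ⟨e', he', h3⟩ := h1' (by simpa using Fintype.card_le_of_injective f hf)
    exact flip (main_AB hf he' h2 h3)
  · exact exists_even he hf h1 h2 (swap 2 4 * swap 2 1 * swap 2 3 * swap 2 0) (i := 0) (j := 1)
      (by decide)
      (goal_of_words (r := 5) (by decide) (by decide +kernel) (by decide +kernel)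
        (by decide +kernel) [false, true, true, false] [false, true, false]
        [true, false, true, true] [true, false, true] (by decide +kernel) (by decide +kernel))
      (goal_of_words (r := 5) (by decide) (by decide +kernel) (by decide +kernel)
        (by decide +kernel) [false, true, true, false] [false, true, false]
        [true, false, true, true] [true, false, true] (by decide +kernel) (by decide +kernel))

omit [DecidableEq α] in
theorem exists_one_lt {σ : Perm α} (h : σ ≠ 1) : ∃ y : α, 1 < period σ y := by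
  obtain ⟨y, hy⟩ : ∃ y, σ y ≠ y := by
    by_contra hh; push Not at hh; exact h (Equiv.ext hh)
  have h2 : period σ y ≠ 1 := fun e => hy (period_eq_one_iff.1 e)
  have := per_pos σ y
  exact ⟨y, by omega⟩

theorem main_max (h5 : 5 ≤ Fintype.card α) {p : ℕ} (hp : p.Prime) (hp3 : 3 ≤ p) {u w : Perm α}
    (hu1 : u ≠ 1) (hw1 : w ≠ 1) (hu : ∀ y : α, ∃ e, period u y = p ^ e)
    (hw : ∀ y : α, ∃ e, period w y = p ^ e) {x : α} (h1 : ∀ y : α, period u y ≤ period u x)
    (h2 : ∀ y : α, period w y ≤ period u x) :
    ∃ g : Perm α, sign g = 1 ∧ Goal p u (g * w * g⁻¹) := by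
  haveI := Fact.mk hp
  obtain ⟨a, ha⟩ := hu x
  have hodd : ∀ e, Odd (p ^ e) := fun e => (hp.odd_of_ne_two (by omega)).pow
  have hge : ∀ e, 1 < p ^ e → p ≤ p ^ e := fun e he =>
    Nat.le_self_pow (by rintro rfl; simp at he) p
  by_cases h7 : 7 ≤ p ^ a
  · exact main_big hp3 h7 ha hw (fun y => ha ▸ h2 y) hw1
  obtain ⟨y, hy⟩ := exists_one_lt hw1
  obtain ⟨b, hb⟩ := hw y
  have h3 := h2 y
  have h4 := hge a (by omega)
  have h6 := hge b (by omega)
  have hd : p ∣ p ^ a := dvd_pow_self p (by rintro rfl; simp at h4; omega)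
  obtain ⟨k, hk⟩ := hodd a
  obtain ⟨l, hl⟩ := hodd b
  by_cases h5' : p ^ a = 5
  · have hp5 : p = 5 := by
      rw [h5'] at hd
      exact (Nat.prime_dvd_prime_iff_eq hp Nat.prime_five).1 hd
    have : period w y = 5 := by omega
    rw [hp5]
    exact main_five (ha.trans h5') this
  · have hp3' : p = 3 := by omega
    have key : ∀ σ : Perm α, (∀ y : α, ∃ e, period σ y = p ^ e) →
        (∀ y : α, period σ y ≤ period u x) → ∀ z, σ (σ (σ z)) = z := by
      intro σ hσ hle z
      obtain ⟨e, he⟩ := hσ z
      have h8 := hle z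
      obtain ⟨j, hj⟩ := hodd e
      have h9 : period σ z ∣ 3 := by
        have : period σ z = 1 ∨ period σ z = 3 := by omega
        rcases this with h | h <;> simp [h]
      have := pow_smul_eq_iff_period_dvd.2 h9
      simpa [pow_succ] using this
    rw [hp3']
    exact main_three h5 (key u hu h1) hu1 (key w hw h2) hw1

theorem exists_goal (h5 : 5 ≤ Fintype.card α) {p : ℕ} (hp : p.Prime) (hp3 : 3 ≤ p) {u w : Perm α}
    (hu1 : u ≠ 1) (hw1 : w ≠ 1) (hu : ∃ k, orderOf u = p ^ k) (hw : ∃ k, orderOf w = p ^ k) :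
    ∃ g : Perm α, sign g = 1 ∧ Goal p u (g * w * g⁻¹) := by
  have key : ∀ σ : Perm α, (∃ k, orderOf σ = p ^ k) → ∀ y : α, ∃ e, period σ y = p ^ e := by
    rintro σ ⟨k, hk⟩ y
    obtain ⟨e, -, he⟩ := (Nat.dvd_prime_pow hp).1 (hk ▸ period_dvd_orderOf σ y)
    exact ⟨e, he⟩
  haveI : Nonempty α := Fintype.card_pos_iff.1 (by omega)
  obtain ⟨x, hx⟩ := Finite.exists_max (fun y : α => period u y)
  obtain ⟨y, hy⟩ := Finite.exists_max (fun y : α => period w y)
  rcases le_total (period w y) (period u x) with h | h
  · exact main_max h5 hp hp3 hu1 hw1 (key u hu) (key w hw) hx fun z => (hy z).trans h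
  · exact flip (main_max h5 hp hp3 hw1 hu1 (key w hw) (key u hu) hy fun z => (hx z).trans h)

end H2.Anp
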