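import Cfsg.Agent.H22.BG16
import Cfsg.Agent.H18.BG9
import Cfsg.Agent.H1.BG36
import Cfsg.Agent.H3.BG5
import Cfsg.Agent.H23.BG14e
import Cfsg.Agent.H23.BG13b
import Cfsg.Agent.H2.BG12d
import Cfsg.Agent.H2.BG10b

/-! All of Bender-Glauberman: after this import `BG10 G`, `BG12 G`, `BG13 G`, `BG14 G`, `BG16 G` are found by
instance search from `[Finite G] [FT G]`. -/

set_option autoImplicit false

namespace H2
open H18 H22
universe u

theorem ftBG10 (G : Type u) [Group G] [Finite G] [FT G] : BG10 G := inferInstance
theorem ftBG12 (G : Type u) [Group G] [Finite G] [FT G] : BG12 G := inferInstance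
theorem ftBG13 (G : Type u) [Group G] [Finite G] [FT G] : BG13 G := inferInstance
theorem ftBG14 (G : Type u) [Group G] [Finite G] [FT G] : BG14 G := inferInstance
theorem ftBG16 (G : Type u) [Group G] [Finite G] [FT G] : BG16 G := inferInstance

end H2
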