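import Cfsg.Agent.H8.Cd3
import Cfsg.Agent.H8.Ito
import Cfsg.Agent.H8.PDeg
import Cfsg.Agent.H6.Det
import Cfsg.Agent.H18.BG1
import Cfsg.Agent.H1.BG3a

/-! Solvable groups with four character degrees: the predicates `Gd.Cd4`, `Gd.Rel2` and the statements `Gd.T3`, `Gd.PN`,
`Gd.Ext`, `Gd.PV`, `Gd.PR`, `Gd.PX`, `Gd.PZ`, `Gd.PY`, `Gd.PF`, `Gd.PA`, `Gd.PB`. -/

set_option autoImplicit false

namespace H2.Gd

open Subgroup Cfsg H18 H5 H6 H8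
open scoped commutatorElement

universe u

/-- the degrees are among `1, a, b, c` -/
def Cd4 (G : Type*) [Group G] (a b c : ℕ) : Prop := ∀ χ, IsIrrCharacter G χ →
  charDegree χ = 1 ∨ charDegree χ = a ∨ charDegree χ = b ∨ charDegree χ = c

/-- the characters not containing `M` in the kernel have degree `x` or `y` -/
def Rel2 {G : Type*} [Group G] (M : Subgroup G) (x y : ℕ) : Prop := ∀ χ, IsIrrCharacter G χ → ¬ M ≤ charKer χ →
  charDegree χ = x ∨ charDegree χ = y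

/-- conclusion of `PX`, `PZ` -/
def Out {G : Type*} [Group G] (R : Subgroup G) (r y : ℕ) : Prop := ¬ r ∣ y ∧
  (∀ χ, IsIrrCharacter G χ → R ≤ charKer χ → charDegree χ ≠ y) ∧ ∀ S : Subgroup G, PiGrp {r} S → ⁅S, S⁆ ≤ R

def T3 : Prop := ∀ (G : Type u) [Group G] [Finite G] [Group.IsSolvable G] (M : Subgroup G) [M.Normal] (x y : ℕ),
  Rel2 M x y → ⁅⁅M, M⁆, ⁅M, M⁆⁆ = ⊥

def PN : Prop := ∀ (G : Type u) [Group G] [Finite G] (M : Subgroup G) [M.Normal] (r x y : ℕ), r.Prime → PiGrp {r} M →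
  Rel2 M x y → ⁅⁅M, M⁆, ⁅M, M⁆⁆ = ⊥

def Ext : Prop := ∀ (G : Type u) [Group G] [Finite G] (N : Subgroup G) [N.Normal] [Fintype N] (lam : N →* ℂˣ) (n : ℕ),
  n.Coprime N.index → (∀ y, lam y ^ n = 1) → ∃ χ, IsIrrCharacter G χ ∧
    classInner (fun y : N => χ y) (fun y => (lam y : ℂ)) ≠ 0 ∧ charDegree χ = (inertia fun y => (lam y : ℂ)).index

def PV : Prop := ∀ (G : Type u) [Group G] [Finite G] (T A R : Subgroup G) [A.Normal] [R.Normal] (χ : G → ℂ),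
  R ≤ A → ¬ A ≤ R → T ⊓ A ≤ R → IsIrrCharacter G χ → R ≤ charKer χ → ⁅T, T⁆ ≤ charKer χ → charDegree χ ≠ T.index

def PR : Prop := ∀ (G : Type u) [Group G] [Finite G] (V B : Subgroup G) [V.Normal], Abel V → Abel B →
  (Nat.card B).Coprime (Nat.card V) → ∃ lam : V →* ℂˣ, B ⊓ (inertia fun y => (lam y : ℂ)) ≤ C(V)

def PX : Prop := ∀ (G : Type u) [Group G] [Finite G] (V R B M : Subgroup G) [V.Normal] [R.Normal] [M.Normal] (r s x y : ℕ),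
  r.Prime → s.Prime → s ≠ r → V ≠ ⊥ → V ≤ R → R ≤ C(V) → PiGrp {r} R → PiGrp {s} B → Abel B → (V ⊔ B).Normal →
  (R ⊔ B).Normal → V ⊓ C(B) = ⊥ → (R ⊔ B) ⊓ C(V) ≤ R → R ⊔ B ≤ M → Rel2 M x y → x < y → Out R r y

def PZ : Prop := ∀ (G : Type u) [Group G] [Finite G] (R B M : Subgroup G) [R.Normal] [M.Normal] (r s x y : ℕ),
  r.Prime → s.Prime → s ≠ r → PiGrp {r} R → PiGrp {s} B → Abel B → (R ⊔ B).Normal → ⁅R, B⁆ ≠ ⊥ →
  (∀ K : Subgroup G, K.Normal → R ≤ K → K ≤ R ⊔ B → K = R ∨ K = R ⊔ B) → R ⊔ B ≤ M → Rel2 M x y → x < y → Out R r y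

def PY : Prop := ∀ (G : Type u) [Group G] [Finite G] (R M : Subgroup G) [R.Normal] [M.Normal] (r x y : ℕ),
  r.Prime → PiGrp {r} R → R ≤ M → ¬ M ≤ R → ⁅M, M⁆ ≤ R → ¬ r ∣ R.relIndex M → Rel2 M x y → x < y → Out R r y →
  ⁅R, R⁆ = ⊥

def PF : Prop := ∀ (N : Type u) [Group N] [Finite N] [Group.IsSolvable N] (p b : ℕ), p.Prime → ¬ p ∣ (commutator N).index →
  (∀ θ, IsIrrCharacter N θ → ¬ p ∣ charDegree θ → charDegree θ = 1 ∨ charDegree θ = b) →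
  ∀ θ, IsIrrCharacter N θ → ¬ p ∣ charDegree θ → ⁅commutator N, commutator N⁆ ≤ charKer θ

def PA : Prop := ∀ (G : Type u) [Group G] [Finite G] [Group.IsSolvable G] (q a b c : ℕ), q.Prime → Cd4 G a b c →
  (∀ χ, IsIrrCharacter G χ → charDegree χ ≠ 1 → q ∣ charDegree χ) →
  (∀ M : Subgroup G, M ≠ ⊤ → ∀ a b c, Cd4 M a b c → derivedSeries M 4 = ⊥) → derivedSeries G 4 = ⊥

def PB : Prop := ∀ (G : Type u) [Group G] [Finite G] [Group.IsSolvable G] (p e b : ℕ), p.Prime → e ≠ 0 → ¬ p ∣ b → b ≠ 1 →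
  Cd4 G (p ^ e) b (p ^ e * b) → derivedSeries G 4 = ⊥

end H2.Gd
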