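import Cfsg.Agent.H2.Gd0

/-! Solvable groups with four character degrees: quotient lemmas (`Gd.der2_mod`, `Gd.der3_mod`, `Gd.rel1_mod`), the assembly
`Gd.t3` of the relative two-degree theorem and the main induction `Gd.main`. -/

set_option autoImplicit false

namespace H2.Gd

open Subgroup Cfsg H18 H5 H6 H8
open scoped commutatorElement

universe u

variable {G : Type u} [Group G] [Finite G] {K M : Subgroup G} {a b c n x y : ℕ}

omit [Finite G] in
theorem inf_ker [K.Normal] (χ : G ⧸ K → ℂ) : charKer (fun g : G => χ g) = (charKer χ).comap (QuotientGroup.mk' K) :=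
  charKer_comp _ (QuotientGroup.mk'_surjective K)

omit [Finite G] in
theorem le_inf_ker [K.Normal] (χ : G ⧸ K → ℂ) : K ≤ charKer (fun g : G => χ g) := fun k hk => by
  rw [inf_ker, mem_comap, QuotientGroup.mk'_apply, (QuotientGroup.eq_one_iff k).2 hk]; exact one_mem _

omit [Finite G] in
theorem map_bot_iff [K.Normal] : M.map (QuotientGroup.mk' K) = ⊥ ↔ M ≤ K := by
  rw [Subgroup.map_eq_bot_iff, QuotientGroup.ker_mk']

omit [Finite G] in
theorem map_der [K.Normal] : (commutator G).map (QuotientGroup.mk' K) = commutator (G ⧸ K) := by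
  rw [commutator_def, map_commutator, map_top_of_surjective _ (QuotientGroup.mk'_surjective K), commutator_def]

theorem cd3_quot [K.Normal] (h : ∀ χ, IsIrrCharacter G χ → K ≤ charKer χ →
    charDegree χ = 1 ∨ charDegree χ = a ∨ charDegree χ = b) : Cd3 (G ⧸ K) a b := fun χ hχ => by
  have := h _ hχ.inflate (le_inf_ker χ)
  rwa [charDegree_inflate] at this

theorem der2_mod [K.Normal] (h : ∀ χ, IsIrrCharacter G χ → K ≤ charKer χ → charDegree χ = 1 ∨ charDegree χ = a) :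
    ⁅commutator G, commutator G⁆ ≤ K := by
  rw [← map_bot_iff, map_commutator, map_der]
  exact (cd3_quot (a := a) (b := a) fun χ h1 h2 => (h χ h1 h2).imp_right Or.inl).der2

theorem der3_mod [K.Normal] (h : ∀ χ, IsIrrCharacter G χ → K ≤ charKer χ →
    charDegree χ = 1 ∨ charDegree χ = a ∨ charDegree χ = b) :
    ⁅⁅commutator G, commutator G⁆, ⁅commutator G, commutator G⁆⁆ ≤ K := by
  rw [← map_bot_iff, map_commutator, map_commutator, map_der]
  exact (cd3_quot h).der3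

theorem rel1_mod [Group.IsSolvable G] [K.Normal] [M.Normal]
    (h : ∀ χ, IsIrrCharacter G χ → K ≤ charKer χ → ¬ M ≤ charKer χ → charDegree χ = n) : ⁅M, M⁆ ≤ K := by
  rw [← map_bot_iff, map_commutator]
  haveI : (M.map (QuotientGroup.mk' K)).Normal := Normal.map inferInstance _ (QuotientGroup.mk'_surjective K)
  refine comm_of_rel _ _ n inferInstance fun χ hχ k => ?_
  rw [← charDegree_inflate]
  exact h _ hχ.inflate (le_inf_ker χ) fun l => k (by rwa [inf_ker, ← map_le_iff_le_comap] at l)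

theorem Rel2.quot [K.Normal] (h : Rel2 M x y) : Rel2 (M.map (QuotientGroup.mk' K)) x y := fun χ hχ k => by
  rw [← charDegree_inflate]
  exact h _ hχ.inflate fun l => k (by rwa [inf_ker, ← map_le_iff_le_comap] at l)

theorem t3_aux (hN : PN.{u}) (hZ : PZ.{u}) (hY : PY.{u}) (hxy : x < y) (n : ℕ) : ∀ (G : Type u) [Group G] [Finite G]
    [Group.IsSolvable G] (M : Subgroup G) [M.Normal], Nat.card G = n → Rel2 M x y → ⁅⁅M, M⁆, ⁅M, M⁆⁆ = ⊥ := by
  induction n using Nat.strong_induction_on with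
  | _ n ih =>
  intro G _ _ _ M _ e h
  have nr : ∀ {A K : Subgroup G} [K.Normal], A ≤ N(K) := fun {A K} _ => le_normalizer_of_normal
  by_contra W0
  have mn : ∀ K : Subgroup G, K.Normal → K ≠ ⊥ → ⁅⁅M, M⁆, ⁅M, M⁆⁆ ≤ K := fun K _ K0 => by
    haveI : (M.map (QuotientGroup.mk' K)).Normal := Normal.map inferInstance _ (QuotientGroup.mk'_surjective K)
    rw [← map_bot_iff, map_commutator, map_commutator]
    exact ih _ (e ▸ card_quot_lt K0) _ _ rfl h.quot
  obtain ⟨r, hr, w0⟩ := Solv.exists_pcore_ne_bot (inferInstance : Solv ⁅⁅M, M⁆, ⁅M, M⁆⁆) W0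
  have rW : PiGrp {r} ⁅⁅M, M⁆, ⁅M, M⁆⁆ := pcore_pi.of_le (mn _ (nml_top (K := ⁅⁅M, M⁆, ⁅M, M⁆⁆)).pcore.normal w0)
  set R := O[{r}](M) with hR
  haveI nR : R.Normal := (nml_top (K := M)).pcore.normal
  have mx : ∀ X : Subgroup G, X.Normal → X ≤ M → PiGrp {r} X → X ≤ R := fun X _ l p => le_pcore ⟨l, nr⟩ p
  by_cases MR : M ≤ R
  · exact W0 (hN G M r x y hr (pcore_pi.of_le MR) h)
  obtain ⟨A, AM, ⟨nA, RA, AR⟩, hA⟩ := exists_minimal_sub (fun A : Subgroup G => A.Normal ∧ R ≤ A ∧ ¬ A ≤ R)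
    (A := M) ⟨inferInstance, pcore_le, MR⟩
  have mA : ∀ K : Subgroup G, K.Normal → R ≤ K → K ≤ A → K = R ∨ K = A := fun K nK l1 l2 =>
    or_iff_not_imp_left.2 fun k => hA K ⟨nK, l1, fun l => k (le_antisymm l l1)⟩ l2
  have dA : ⁅A, A⁆ ≤ R := by
    rcases mA (R ⊔ ⁅A, A⁆) inferInstance le_sup_left (sup_le RA der_le) with k | k
    · exact le_sup_right.trans k.le
    · refine (AR ?_).elim
      rw [← map_bot_iff]
      refine Solv.eq_bot_of_le_der inferInstance ?_
      rw [← map_commutator]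
      refine (map_mono k.ge).trans ?_
      rw [Subgroup.map_sup, map_bot_iff.2 le_rfl, bot_sup_eq]
  have syl : ∀ (X S : Subgroup G) (s : ℕ), X.Normal → s.Prime → R ≤ X → ⁅X, X⁆ ≤ R → Hall {s} S X →
      (R ⊔ S).Normal := fun X S s _ hs l d hS => by
    have fr : X ⊔ N(S) = ⊤ := by simpa using frattini_arg hs (nml_top (K := X)) hS
    exact norm_top_iff.1 (fr.ge.trans (sup_le (norm_of_der_le (d.trans le_sup_left) (sup_le l hS.le))
      (norm_sup nr le_rfl)))
  obtain ⟨s, hs, sd⟩ := Nat.exists_prime_and_dvd (one_lt_relIndex AR).ne'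
  obtain ⟨B, hB⟩ := exists_sylow hs A
  have nB := syl A B s nA hs RA dA hB
  have BR : ¬ B ≤ R := fun l => hB.idx_of_le l s hs sd rfl
  have eA : R ⊔ B = A := (mA _ nB le_sup_left (sup_le RA hB.le)).resolve_left fun k => BR (le_sup_right.trans k.le)
  have sr : s ≠ r := by
    rintro rfl
    exact BR (le_sup_right.trans (mx _ nB (eA.le.trans AM) (pcore_pi.sup_norm' hB.pi nr)))
  have dj : ∀ {X Y : Subgroup G}, PiGrp {r} X → PiGrp {s} Y → X ⊓ Y = ⊥ := fun p1 p2 =>
    p1.inf_eq_bot (p2.p'_of_ne sr)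
  have aB : Abel B := abel_iff_der.2 (le_bot_iff.1 ((le_inf ((der_mono hB.le).trans dA) der_le).trans
    (dj pcore_pi hB.pi).le))
  have c0 : ⁅R, B⁆ ≠ ⊥ := fun k => by
    have fr : A ⊔ N(B) = ⊤ := by simpa using frattini_arg hs (nml_top (K := A)) hB
    have nb : B.Normal := norm_top_iff.1 (fr.ge.trans (sup_le (eA.ge.trans (sup_le
      (cent_norm (comm_eq_bot_iff.1 k)) le_N)) le_rfl))
    exact W0 (le_bot_iff.1 ((le_inf le_rfl (mn B nb fun k => BR (k.le.trans bot_le))).trans (dj rW hB.pi).le))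
  have o := hZ G R B M r s x y hr hs sr pcore_pi hB.pi aB nB c0 (eA.symm ▸ mA) (eA.le.trans AM) h hxy
  have dM : ⁅M, M⁆ ≤ R := rel1_mod fun χ hχ k l => (h χ hχ l).resolve_right (o.2.1 χ hχ k)
  obtain ⟨S, hS⟩ := exists_sylow hr M
  have SR : S ≤ R := le_sup_right.trans (mx _ (syl M S r inferInstance hr pcore_le dM hS) (sup_le pcore_le hS.le)
    (pcore_pi.sup_norm' hS.pi nr))
  have := hY G R M r x y hr pcore_pi pcore_le MR dM (fun d => hS.idx_of_le SR r hr d rfl) h hxy o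
  exact W0 (le_bot_iff.1 ((der_mono dM).trans this.le))

theorem t3 (hN : PN.{u}) (hZ : PZ.{u}) (hY : PY.{u}) : T3.{u} := fun G _ _ _ M _ x y h => by
  rcases lt_trichotomy x y with l | rfl | l
  · exact t3_aux hN hZ hY l _ G M rfl h
  · exact le_bot_iff.1 (der_le.trans (comm_of_rel G M x inferInstance fun χ a b => (h χ a b).elim id id).le)
  · exact t3_aux hN hZ hY l _ G M rfl fun χ a b => (h χ a b).symm

omit [Finite G] in
theorem Cd4.swap (h : Cd4 G a b c) : Cd4 G a c b := fun χ hχ => by have := h χ hχ; tauto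

omit [Finite G] in
/-- move a given degree to the first position -/
theorem Cd4.front (h : Cd4 G a b c) {χ : G → ℂ} (hχ : IsIrrCharacter G χ) (h1 : charDegree χ ≠ 1) :
    ∃ b c, Cd4 G (charDegree χ) b c := by
  rcases h χ hχ with e | e | e | e
  · exact (h1 e).elim
  · exact ⟨b, c, e ▸ h⟩
  · exact ⟨a, c, fun ψ hψ => by have := h ψ hψ; rw [e]; tauto⟩
  · exact ⟨a, b, fun ψ hψ => by have := h ψ hψ; rw [e]; tauto⟩

omit [Finite G] in
theorem Cd4.second (h : Cd4 G a b c) {χ : G → ℂ} (hχ : IsIrrCharacter G χ) (h1 : charDegree χ ≠ 1)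
    (h2 : charDegree χ ≠ a) : ∃ c, Cd4 G a (charDegree χ) c := by
  rcases h χ hχ with e | e | e | e
  · exact (h1 e).elim
  · exact (h2 e).elim
  · exact ⟨c, e ▸ h⟩
  · exact ⟨b, e ▸ h.swap⟩

omit [Finite G] in
theorem der3_map {N : Subgroup G} (h : ⁅⁅commutator N, commutator N⁆, ⁅commutator N, commutator N⁆⁆ = ⊥) :
    ⁅⁅⁅N, N⁆, ⁅N, N⁆⁆, ⁅⁅N, N⁆, ⁅N, N⁆⁆⁆ = ⊥ := by
  rw [← map_subtype_commutator N, ← map_commutator, ← map_commutator, h, Subgroup.map_bot]

theorem main (h3 : T3.{u}) (hA : PA.{u}) (hB : PB.{u}) (n : ℕ) : ∀ (G : Type u) [Group G] [Finite G] [Group.IsSolvable G]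
    (a b c : ℕ), Nat.card G = n → Cd4 G a b c → derivedSeries G 4 = ⊥ := by
  induction n using Nat.strong_induction_on with
  | _ n ih =>
  intro G _ _ _ a b c e h
  have all : ∀ q : ℕ, q.Prime → (∀ χ, IsIrrCharacter G χ → charDegree χ ≠ 1 → q ∣ charDegree χ) →
      derivedSeries G 4 = ⊥ := fun q hq k => hA G q a b c hq h k fun M hM a b c k => ih _ (by
    rw [← e, ← Subgroup.card_top (G := G)]; exact card_lt (lt_top_iff_ne_top.2 hM)) M a b c rfl k
  have fin : ∀ N : Subgroup G, commutator G ≤ N → ⁅⁅⁅N, N⁆, ⁅N, N⁆⁆, ⁅⁅N, N⁆, ⁅N, N⁆⁆⁆ = ⊥ → derivedSeries G 4 = ⊥ :=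
    fun N l k => le_bot_iff.1 ((der_mono (der_mono (der_mono l))).trans k.le)
  by_cases h0 : commutator G = ⊥
  · exact fin ⊥ h0.le (by simp)
  obtain ⟨K, _, h1, h2⟩ := exists_just_nonab h0
  obtain ⟨p, hp, h4 | ⟨h4, h5, h6, h7⟩⟩ := just_nonab h1 h2 <;> haveI := Fact.mk hp
  · obtain ⟨β, e1, e2, e3⟩ := exists_deg_top h1
    obtain ⟨k, hk⟩ := h4.exists_card_eq
    obtain ⟨β', f1, f2⟩ := e1.exists_deflate _ e2
    obtain ⟨j, hj⟩ := deg_eq_pow h4 f1
    have hj' : charDegree β = p ^ j := by rw [← hj, ← charDegree_inflate]; exact charDegree_congr (f2 1).symm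
    have j0 : j ≠ 0 := fun k => e3 (by rw [hj', k, pow_zero])
    by_contra g
    obtain ⟨χ, hχ, x1, x2⟩ : ∃ χ, IsIrrCharacter G χ ∧ charDegree χ ≠ 1 ∧ ¬ p ∣ charDegree χ := by
      by_contra! k
      exact g (all p hp k)
    have pb : p ∣ charDegree β := hj' ▸ dvd_pow_self p j0
    obtain ⟨b, c, h⟩ := h.front e1 e3
    obtain ⟨c, h⟩ := h.second hχ x1 fun k => x2 (k ▸ pb)
    have m := h _ (mul_irr_of_not_dvd hk hχ x2 e1 e2)
    rw [deg_mul e1.isCharacter hχ.isCharacter] at m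
    rcases m with m | m | m | m
    · exact e3 (Nat.eq_one_of_mul_eq_one_right m)
    · exact x1 ((Nat.mul_eq_left e1.charDegree_pos.ne').1 m)
    · exact e3 ((Nat.mul_eq_right hχ.charDegree_pos.ne').1 m)
    · rw [← m, hj'] at h
      exact g (hB G p j _ hp j0 x2 x1 h)
  have hπ := QuotientGroup.mk'_surjective K
  set D := commutator (G ⧸ K) with hD
  set N := D.comap (QuotientGroup.mk' K) with hN
  haveI := Fintype.ofFinite G
  haveI := Fintype.ofFinite N
  have fi : N.index = D.index := index_comap_of_surjective _ hπ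
  have f1 : D.index ≠ 1 := fun e => h6 (index_eq_one.1 e)
  have f0 : D.index ≠ 0 := index_ne_zero_of_finite
  have pf : ¬ p ∣ D.index := frob_not_dvd h1 h4 h7
  have GN : commutator G ≤ N := commutator_le_comap _
  obtain ⟨χ0, i0, d0⟩ : ∃ χ, IsIrrCharacter G χ ∧ charDegree χ = D.index := by
    have t1 : charDegree (fun _ : N => (1 : ℂ)) = 1 := charDegree_of_eq (by simp)
    obtain ⟨χ, a, b⟩ := frob_cd hπ h5 h1 h4 h7 (isIrrCharacter_one (G := N)) (by rw [t1]; exact hp.not_dvd_one)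
    exact ⟨χ, a, by rw [b, t1, mul_one]⟩
  obtain ⟨b, c, h⟩ := h.front i0 (d0 ▸ f1)
  rw [d0] at h
  by_cases ex : ∃ ψ : N → ℂ, IsIrrCharacter N ψ ∧ charDegree ψ ≠ 1 ∧ ¬ p ∣ charDegree ψ
  · obtain ⟨ψ0, a1, a2, a3⟩ := ex
    obtain ⟨χ1, i1, d1⟩ := frob_cd hπ h5 h1 h4 h7 a1 a3
    obtain ⟨c, h⟩ := h.second i1 (fun k => f1 (Nat.eq_one_of_mul_eq_one_right (d1 ▸ k)))
      fun k => a2 ((Nat.mul_eq_left f0).1 (d1 ▸ k))
    rw [d1] at h
    by_cases cp : D.index.Coprime c
    · refine fin N GN (der3_map (Cd3.der3 (a := charDegree ψ0) (b := c) fun ψ hψ => ?_))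
      by_cases d : p ∣ charDegree ψ
      · obtain ⟨χ, t, b1, b2, b3, -⟩ := exists_deg_over (G := G) hψ
        have pd : p ∣ charDegree χ := b3 ▸ d.mul_left t
        rcases h χ b1 with m | m | m | m
        · exact (hp.not_dvd_one (m ▸ pd)).elim
        · exact (pf (m ▸ pd)).elim
        · exact ((hp.dvd_mul.1 (m ▸ pd)).elim pf a3).elim
        · have : t = 1 := Nat.eq_one_of_dvd_coprimes cp (fi ▸ b2) (m ▸ b3 ▸ dvd_mul_right _ _)
          exact .inr (.inr (by rw [← m, b3, this, one_mul]))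
      · obtain ⟨χ, b1, b2⟩ := frob_cd hπ h5 h1 h4 h7 hψ d
        rcases h χ b1 with m | m | m | m <;> rw [b2] at m
        · exact (f1 (Nat.eq_one_of_mul_eq_one_right m)).elim
        · exact .inl ((Nat.mul_eq_left f0).1 m)
        · exact .inr (.inl (Nat.eq_of_mul_eq_mul_left (Nat.pos_of_ne_zero f0) m))
        · exact (f1 (Nat.eq_one_of_dvd_coprimes cp dvd_rfl (m ▸ dvd_mul_right _ _))).elim
    · obtain ⟨q, hq, q1, q2⟩ := Nat.Prime.not_coprime_iff_dvd.1 cp
      refine all q hq fun χ hχ k => ?_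
      rcases h χ hχ with m | m | m | m <;> rw [m]
      exacts [(k m).elim, q1, q1.mul_right _, q2]
  · push Not at ex
    refine fin N GN (h3 G ⁅N, N⁆ b c fun χ hχ k => ?_)
    obtain ⟨ψ, hψ, o⟩ := exists_irr_under (N := N) hχ
    obtain ⟨t, -, b2⟩ := deg_dvd_of_under hχ hψ o
    have pd : p ∣ charDegree χ := b2 ▸ (ex ψ hψ fun e => k (le_ker_of_constituent der_le hχ hψ.isCharacter o (by
      rw [← map_subtype_commutator, subgroupOf, comap_map_eq_self_of_injective N.subtype_injective]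
      exact by_contra fun l => (not_le_ker_iff hψ).1 l e))).mul_left t
    rcases h χ hχ with m | m | m
    · exact (hp.not_dvd_one (m ▸ pd)).elim
    · exact (pf (m ▸ pd)).elim
    · exact m

end H2.Gd
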