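import Cfsg.Agent.H2.Gd1

/-! Solvable groups with four character degrees: the case of a common prime divisor (`Gd.pA`). -/

set_option autoImplicit false

namespace H2.Gd

open Subgroup Cfsg H18 H5 H6 H8
open scoped commutatorElement

universe u

variable {G : Type u} [Group G] [Finite G] {N : Subgroup G} {a b c : ℕ}

omit [Finite G] in
theorem der2_map (h : ⁅commutator N, commutator N⁆ = ⊥) : ⁅⁅N, N⁆, ⁅N, N⁆⁆ = ⊥ := by
  rw [← map_subtype_commutator N, ← map_commutator, h, Subgroup.map_bot]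

omit [Finite G] in
theorem der4_map (h : derivedSeries N 4 = ⊥) :
    ⁅⁅⁅⁅N, N⁆, ⁅N, N⁆⁆, ⁅⁅N, N⁆, ⁅N, N⁆⁆⁆, ⁅⁅⁅N, N⁆, ⁅N, N⁆⁆, ⁅⁅N, N⁆, ⁅N, N⁆⁆⁆⁆ = ⊥ := by
  rw [← map_subtype_commutator N, ← map_commutator, ← map_commutator, ← map_commutator]
  exact (congrArg _ h).trans (Subgroup.map_bot _)

theorem taketa3 [Group.IsSolvable G] (h3 : T3.{u}) [N.Normal] (hN : ⁅N, N⁆ = ⊥) (nm : NilMod N) (h : Cd4 G a b c)
    (h1 : a ≤ b) (h2 : a ≤ c) : derivedSeries G 4 = ⊥ := by
  haveI := Fintype.ofFinite G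
  refine h3 G ⁅commutator G, commutator G⁆ b c fun χ hχ k => ?_
  rcases h χ hχ with e | e | e
  · exact (k (der_le.trans (by_contra fun l => (not_le_ker_iff hχ).1 l e))).elim
  · refine (k (taketa_step (monomial_of_nilMod hN nm hχ) fun ξ hξ l => by_contra fun m => ?_)).elim
    have := (not_le_ker_iff hξ).1 m
    rcases h ξ hξ with f | f | f | f <;> omega
  · exact e

theorem pA (h3 : T3.{u}) : PA.{u} := by
  intro G _ _ _ q a b c hq h all ih
  haveI := Fact.mk hq
  set M := pResidual q G with hM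
  have h1 : ¬ q ∣ Nat.card M := thompson_cd all
  obtain ⟨k, hk⟩ := H3.exists_index_pResidual (p := q) (G := G)
  have up : ∀ χ, IsIrrCharacter G χ → ⁅M, M⁆ ≤ charKer χ → ordCompl[q] (charDegree χ) = 1 := fun χ hχ l => by
    obtain ⟨j, -, e⟩ := (Nat.dvd_prime_pow hq).1 (hk ▸ deg_dvd_index_of_comm hχ M l)
    rw [e]; exact Nat.ordCompl_self_pow hq
  have dn : ∀ a b c, Cd4 G a b c → Cd4 M (ordCompl[q] a) (ordCompl[q] b) (ordCompl[q] c) := fun a b c h θ hθ => by
    obtain ⟨χ, h2, h3, -⟩ := deg_eq_ordCompl hq hk hθ fun e => h1 (e.trans hθ.charDegree_dvd_card)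
    rcases h χ h2 with e | e | e | e <;> simp [h3, e]
  have one : ∀ a b c, Cd4 G a b c → ordCompl[q] a = 1 → ordCompl[q] b ≠ 1 → ordCompl[q] c ≠ 1 → derivedSeries G 4 = ⊥ :=
    fun a b c h e1 e2 e3 => by
    have l : ⁅commutator G, commutator G⁆ ≤ ⁅M, M⁆ := der2_mod (a := a) fun χ hχ l => by
      have := up χ hχ l
      rcases h χ hχ with f | f | f | f <;> simp_all
    have : Cd3 M (ordCompl[q] b) (ordCompl[q] c) := fun θ hθ => by have := dn a b c h θ hθ; rw [e1] at this; tauto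
    exact le_bot_iff.1 ((der_mono (der_mono l)).trans (der3_map this.der3).le)
  have two : ∀ a b c, Cd4 G a b c → ordCompl[q] a = 1 → ordCompl[q] b = 1 → ordCompl[q] c ≠ 1 → derivedSeries G 4 = ⊥ :=
    fun a b c h e1 e2 e3 => by
    have l := der3_mod (K := ⁅M, M⁆) (a := a) (b := b) fun χ hχ l => by
      have := up χ hχ l
      rcases h χ hχ with f | f | f | f <;> simp_all
    have : Cd3 M (ordCompl[q] c) (ordCompl[q] c) := fun θ hθ => by have := dn a b c h θ hθ; rw [e1, e2] at this; tauto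
    exact le_bot_iff.1 ((der_mono l).trans (der2_map this.der2).le)
  have s1 : Cd4 G b a c := fun χ hχ => by have := h χ hχ; tauto
  have s2 : Cd4 G c a b := fun χ hχ => by have := h χ hχ; tauto
  by_cases ea : ordCompl[q] a = 1 <;> by_cases eb : ordCompl[q] b = 1 <;> by_cases ec : ordCompl[q] c = 1
  · have m : ⁅M, M⁆ = ⊥ := by
      rw [← map_subtype_commutator M, comm_of_forall_deg fun θ hθ => by have := dn a b c h θ hθ; simp_all,
        Subgroup.map_bot]
    have t := fun a b c => taketa3 (a := a) (b := b) (c := c) h3 m (nilMod_pResidual q)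
    by_cases l1 : a ≤ b ∧ a ≤ c
    · exact t _ _ _ h l1.1 l1.2
    by_cases l2 : b ≤ a ∧ b ≤ c
    · exact t _ _ _ s1 l2.1 l2.2
    · exact t _ _ _ s2 (by omega) (by omega)
  · exact two _ _ _ h ea eb ec
  · exact two _ _ _ h.swap ea ec eb
  · exact one _ _ _ h ea eb ec
  · exact two _ _ _ s1.swap eb ec ea
  · exact one _ _ _ s1 eb ea ec
  · exact one _ _ _ s2 ec ea eb
  · have l : commutator G ≤ ⁅M, M⁆ := le_of_forall_ker fun χ hχ l => by_contra fun m => by
      have := up χ hχ l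
      have := (not_le_ker_iff hχ).1 m
      rcases h χ hχ with f | f | f | f <;> simp_all
    by_cases t : M = ⊤
    · have z : commutator G = ⊥ := comm_of_forall_deg fun χ hχ => by_contra fun e => h1 (by
        rw [t, Subgroup.card_top]; exact (all χ hχ e).trans hχ.charDegree_dvd_card)
      exact le_bot_iff.1 ((der_le.trans (der_le.trans der_le)).trans z.le)
    · exact le_bot_iff.1 ((der_mono (der_mono (der_mono l))).trans (der4_map (ih M t _ _ _ (dn a b c h))).le)

end H2.Gd
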