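import Cfsg.Agent.H2.Gd1

/-! Solvable groups with four character degrees: the case of degrees `1, p^e, b, p^e b` (`Gd.pB`). -/

set_option autoImplicit false

namespace H2.Gd

open Subgroup Cfsg H18 H5 H6 H8
open scoped commutatorElement

universe u

variable {G : Type u} [Group G] [Finite G] {N : Subgroup G}

omit [Finite G] in
theorem der_sub' : ⁅N, N⁆.subgroupOf N = commutator N := by
  rw [← map_subtype_commutator, subgroupOf, comap_map_eq_self_of_injective N.subtype_injective]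

theorem inertia_le_det [N.Normal] {θ : N → ℂ} (hθ : IsCharacter N θ) : inertia θ ≤ inertia (detChar θ) := fun g hg => by
  have e : H6.cj θ g = θ := hg
  have := detChar_comp (MulAut.conjNormal (H := N) g).toMonoidHom hθ
  exact this.symm.trans (congrArg detChar e)

theorem der_le_ker [N.Normal] [Fintype N] {χ : G → ℂ} {ψ : N → ℂ} (hχ : IsIrrCharacter G χ) (hψ : IsIrrCharacter N ψ)
    (o : classInner (fun n : N => χ n) ψ ≠ 0) (h : charDegree ψ = 1) : ⁅N, N⁆ ≤ charKer χ :=
  le_ker_of_constituent der_le hχ hψ.isCharacter o (der_sub'.le.trans (by_contra fun l => (not_le_ker_iff hψ).1 l h))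

theorem ppart {p i j s t : ℕ} (hp : p.Prime) (hs : ¬ p ∣ s) (ht : ¬ p ∣ t) (h : t * p ^ i = p ^ j * s) : p ^ i = p ^ j :=
  Nat.dvd_antisymm (((hp.coprime_iff_not_dvd.2 hs).pow_left i).dvd_of_dvd_mul_right (h ▸ dvd_mul_left _ _))
    (((hp.coprime_iff_not_dvd.2 ht).pow_left j).dvd_of_dvd_mul_left (h ▸ dvd_mul_right _ _))

theorem pB (hE : Ext.{u}) (hF : PF.{u}) : PB.{u} := by
  intro G _ _ _ p e b hp e0 pb b1 h
  haveI := Fact.mk hp
  haveI := Fintype.ofFinite G
  set N := pResidual p G with hN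
  haveI := Fintype.ofFinite N
  obtain ⟨k, hk⟩ := H3.exists_index_pResidual (p := p) (G := G)
  have bj : ∀ j, ¬ b ∣ p ^ j := fun j d =>
    b1 (Nat.eq_one_of_dvd_coprimes ((hp.coprime_iff_not_dvd.2 pb).pow_left j) d dvd_rfl)
  have pw : ∀ χ, IsIrrCharacter G χ → ∀ j, charDegree χ ∣ p ^ j → charDegree χ = 1 ∨ charDegree χ = p ^ e :=
    fun χ hχ j d => by
    rcases h χ hχ with f | f | f | f
    exacts [.inl f, .inr f, (bj j (f ▸ d)).elim, (bj j ((dvd_mul_left _ _).trans (f ▸ d))).elim]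
  have l1 : ⁅commutator G, commutator G⁆ ≤ ⁅N, N⁆ :=
    der2_mod fun χ hχ l => pw χ hχ k (hk ▸ deg_dvd_index_of_comm hχ N l)
  have pN : ¬ p ∣ (commutator N).index := fun d => by
    obtain ⟨x, hx⟩ := exists_prime_orderOf_dvd_card' (G := Abelianization N) p d
    obtain ⟨y, rfl⟩ := QuotientGroup.mk_surjective x
    have := H3.coprime_orderOf_map_of_mem_pResidual (p := p) (Abelianization.of (G := N)) (g := y)
      (by rw [H3.pResidual_pResidual]; trivial)
    rw [show orderOf (Abelianization.of y) = p from hx] at this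
    exact hp.ne_one ((Nat.coprime_self _).1 this)
  have F := hF N p b hp pN fun θ hθ d => by
    obtain ⟨χ, t, h1, h2, h3, -⟩ := exists_deg_over (G := G) hθ
    obtain ⟨j, -, rfl⟩ := (Nat.dvd_prime_pow hp).1 (hk ▸ h2)
    have c : ∀ i s, ¬ p ∣ s → charDegree χ = p ^ i * s → charDegree θ = s := fun i s hs f => by
      have := ppart hp hs d ((mul_comm _ _).trans (h3.symm.trans f))
      rw [h3, this] at f
      exact Nat.eq_of_mul_eq_mul_left (pow_pos hp.pos i) f
    rcases h χ h1 with f | f | f | f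
    exacts [.inl (c 0 1 hp.not_dvd_one (by simpa using f)), .inl (c e 1 hp.not_dvd_one (by simpa using f)),
      .inr (c 0 b pb (by simpa using f)), .inr (c e b pb f)]
  have pd : ∀ χ, IsIrrCharacter G χ → ¬ ⁅⁅N, N⁆, ⁅N, N⁆⁆ ≤ charKer χ → p ∣ charDegree χ := fun χ hχ l => by
    obtain ⟨ψ, hψ, o⟩ := exists_irr_under (N := N) hχ
    obtain ⟨t, -, b2⟩ := deg_dvd_of_under hχ hψ o
    refine by_contra fun d => l (le_ker_of_constituent (der_le.trans der_le) hχ hψ.isCharacter o
      (le_trans ?_ (F ψ hψ fun d' => d (b2 ▸ d'.mul_left t))))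
    rw [← map_subtype_commutator N, ← map_commutator, subgroupOf, comap_map_eq_self_of_injective N.subtype_injective]
  have fin : ∀ X : Subgroup G, X.Normal → X ≤ ⁅⁅N, N⁆, ⁅N, N⁆⁆ →
      ⁅⁅commutator G, commutator G⁆, ⁅commutator G, commutator G⁆⁆ ≤ X →
      (∀ χ, IsIrrCharacter G χ → charDegree χ = p ^ e → X ≤ charKer χ) → derivedSeries G 4 = ⊥ := fun X _ l1 l2 l3 => by
    refine le_bot_iff.1 ((der_mono l2).trans (comm_of_rel G X (p ^ e * b) inferInstance fun χ hχ k => ?_).le)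
    have := pd χ hχ fun l => k (l1.trans l)
    rcases h χ hχ with f | f | f | f
    exacts [(hp.not_dvd_one (f ▸ this)).elim, (k (l3 χ hχ f)).elim, (pb (f ▸ this)).elim, f]
  by_cases ex : ∀ χ, IsIrrCharacter G χ → charDegree χ = p ^ e → ⁅N, N⁆ ≤ charKer χ
  · exact fin _ inferInstance le_rfl (der_mono l1) fun χ a b => der_le.trans (ex χ a b)
  push Not at ex
  obtain ⟨χ0, i0, d0, k0⟩ := ex
  obtain ⟨θ, hθ, o⟩ := exists_irr_under (N := N) i0
  obtain ⟨t, -, b2⟩ := deg_dvd_of_under i0 hθ o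
  obtain ⟨j, -, hj⟩ := (Nat.dvd_prime_pow hp).1 (d0 ▸ b2 ▸ dvd_mul_left _ _ : charDegree θ ∣ p ^ e)
  have j1 : p ^ j ≠ 1 := fun f => k0 (der_le_ker i0 hθ o (hj.trans f))
  have hn : ∀ (l : N →* ℂˣ) y, l y ^ (commutator N).index = 1 := fun l y =>
    pow_index_eq_one_of_trivial (commutator N) l (fun n => Abelianization.commutator_subset_ker l n.2) y
  have cp : ∀ i, (p ^ i).Coprime (commutator N).index := fun i => (hp.coprime_iff_not_dvd.2 pN).pow_left i
  have inv : ∀ l : N →* ℂˣ, (inertia fun y => (l y : ℂ)) = ⊤ := fun l => by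
    obtain ⟨m, hm⟩ := exists_pow_eq_self_of_coprime (x := l * (detHom θ)⁻¹) (n := p ^ j)
      ((cp j).coprime_dvd_right (orderOf_dvd_of_pow_eq_one (MonoidHom.ext fun y => hn _ y)))
    rw [← pow_mul, mul_comm (p ^ j), pow_mul] at hm
    set lam := (l * (detHom θ)⁻¹) ^ m
    have i1 : IsIrrCharacter N (θ * fun y => (lam y : ℂ)) := hθ.mul_hom lam
    have dt : detChar (θ * fun y => (lam y : ℂ)) = fun y => (l y : ℂ) := funext fun y => by
      rw [mul_comm, detChar_hom_mul lam hθ.isCharacter (d := p ^ j) (by rw [← hj, hθ.isCharacter.coe_charDegree]) y,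
        ← coe_detHom, ← Units.val_pow_eq_pow_val, ← MonoidHom.pow_apply, hm,
        ← Units.val_mul, MonoidHom.mul_apply, MonoidHom.inv_apply, inv_mul_cancel_right]
    obtain ⟨χ, hχ, o⟩ := exists_irr_over (G := G) i1
    obtain ⟨s, s1, s2⟩ := deg_dvd_of_under hχ i1 o
    have d1 := index_inertia_mul_dvd hχ i1 o
    rw [charDegree_mul_hom, hj] at s2 d1
    have d2 : charDegree χ ∣ p ^ e := (pw χ hχ (k + j) (by rw [s2, pow_add]; exact Nat.mul_dvd_mul_right (hk ▸ s1) _)).elim
      (fun f => f ▸ one_dvd _) fun f => f.dvd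
    have d3 := (Nat.mul_dvd_mul_right (index_dvd_of_le (dt ▸ inertia_le_det i1.isCharacter)) (p ^ j)).trans (d1.trans d2)
    obtain ⟨χ1, i2, -, d4⟩ := hE G N l _ (hk ▸ (cp k).symm) (hn l)
    rcases pw χ1 i2 e (d4 ▸ (dvd_mul_right _ _).trans d3) with f | f
    · exact index_eq_one.1 (d4 ▸ f)
    · rw [← d4, f] at d3
      exact (j1 (Nat.dvd_one.1 (Nat.dvd_of_mul_dvd_mul_left (pow_pos hp.pos e) (by rwa [mul_one])))).elim
  have NG : ⁅N, ⊤⁆ ≤ ⁅N, N⁆ := commutator_le.2 fun n hn g _ => by_contra fun c => by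
    have n' : g * n⁻¹ * g⁻¹ ∈ N := Normal.conj_mem inferInstance _ (inv_mem hn) g
    obtain ⟨l, -, l2⟩ := exists_lin_ne_one (N := commutator N) le_rfl (g := ⟨n, hn⟩ * ⟨_, n'⟩) fun f => c (by
      have := der_sub'.ge f
      simpa [mem_subgroupOf, commutatorElement_def, mul_assoc] using this)
    have := Units.ext (mem_inertia'.1 ((inv l).ge (mem_top g)) (⟨n, hn⟩ : N)⁻¹)
    refine l2 ?_
    rw [map_mul]
    exact (congrArg _ this).trans (by rw [map_inv, mul_inv_cancel])
  obtain ⟨P⟩ : Nonempty (Sylow p G) := inferInstance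
  have sp : N ⊔ P = ⊤ := H3.pResidual_sup_sylow P
  set D := ⁅N, N⁆ with hD
  set M := D ⊔ P with hM
  have n1 : N ≤ N(M) := norm_of_comm_le ((comm_mono le_rfl le_top).trans (NG.trans le_sup_left))
  have n2 : (P : Subgroup G) ≤ N(M) := le_sup_right.trans le_N
  have GM : commutator G ≤ M := (comm_mono sp.ge le_rfl).trans (comm_sup_le (NG.trans le_sup_left)
    ((comm_mono le_rfl sp.ge).trans (comm_sup_le' (comm_comm.le.trans ((comm_mono le_rfl le_top).trans
      (NG.trans le_sup_left))) (der_le.trans le_sup_right) n1 n2)) n1 n2)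
  haveI : M.Normal := Normal.of_commutator_le G GM
  have pM : ¬ p ∣ M.index := fun d => P.not_dvd_index (d.trans (index_dvd_of_le le_sup_right))
  have tD : ¬ p ∣ Nat.card (pResidual p D) := thompson_cd fun φ hφ f => by_contra fun d => by
    have i1 := isIrr_sOf (der_le (H := N)) hφ
    obtain ⟨ψ, s, a1, a2, a3, a4⟩ := exists_deg_over (G := N) i1
    have e1 : charDegree (sOf φ N) = charDegree φ := charDegree_congr rfl
    rw [e1] at a3
    have := F ψ a1 fun d' => (hp.dvd_mul.1 (a3 ▸ d')).elim (fun d' => pN ((der_sub' (N := N)) ▸ d'.trans a2)) d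
    refine (not_le_ker_iff i1).2 (e1 ▸ f) (le_trans ?_ a4)
    refine (der_sub' (N := ⁅N, N⁆.subgroupOf N)).ge.trans (comap_mono ?_)
    rw [der_sub']; exact this
  set B := (pResidual p D).map D.subtype with hB
  have BD : B ≤ D := map_subtype_le _
  have pB : ¬ p ∣ Nat.card B := by rwa [hB, card_map_subtype]
  obtain ⟨i, hi⟩ : ∃ i, B.relIndex M ∣ p ^ i := by
    obtain ⟨i, hi⟩ := H3.exists_index_pResidual (p := p) (G := D)
    obtain ⟨l, hl⟩ := P.isPGroup'.exists_card_eq
    refine ⟨i + l, ?_⟩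
    rw [← relIndex_tower BD le_sup_left, pow_add, ← hi, ← hl, relIndex_sup_left, relIndex, subgroupOf,
      comap_map_eq_self_of_injective D.subtype_injective]
    exact Nat.mul_dvd_mul_left _ relIndex_dvd
  have l2 : ⁅commutator M, commutator M⁆ ≤ ⁅B, B⁆.subgroupOf M := der2_mod (a := p ^ e) fun η hη l => by
    obtain ⟨i', -, f0⟩ := (Nat.dvd_prime_pow hp).1
      ((deg_dvd_index_of_comm hη (B.subgroupOf M) ((comm_subgroupOf_le _ _ _).trans l)).trans hi)
    obtain ⟨χ, s, a1, a2, a3, -⟩ := exists_deg_over (G := G) hη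
    have c : ∀ i s', ¬ p ∣ s' → charDegree χ = p ^ i * s' → charDegree η = p ^ i := fun i s' hs f =>
      f0.trans (ppart hp hs (fun d => pM (d.trans a2)) (by rw [← f0, ← a3, f]))
    rcases h χ a1 with f | f | f | f
    exacts [.inl (c 0 1 hp.not_dvd_one (by simpa using f)), .inr (c e 1 hp.not_dvd_one (by simpa using f)),
      .inl (c 0 b pb (by simpa using f)), .inr (c e b pb f)]
  refine fin ⁅B, B⁆ inferInstance (der_mono BD) ((der_mono (der_mono GM)).trans ?_) fun χ hχ f => ?_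
  · rw [← map_subtype_commutator M, ← map_commutator]
    exact map_le_iff_le_comap.2 l2
  · haveI := Fintype.ofFinite B
    obtain ⟨μ, hμ, o⟩ := exists_irr_under (N := B) hχ
    obtain ⟨s, -, a⟩ := deg_dvd_of_under hχ hμ o
    exact der_le_ker hχ hμ o (Nat.eq_one_of_dvd_coprimes ((hp.coprime_iff_not_dvd.2 pB).pow_left e)
      (f ▸ a ▸ dvd_mul_left _ _) hμ.charDegree_dvd_card)

end H2.Gd
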