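import Cfsg.Agent.H2.IdN
import Cfsg.Agent.H9.FB1

/-! Groups of order 7920 with disconnected prime graph are simple (`M11.disc`); counting elements of given order
modulo `p` (`M11.cnt_mod`). -/

set_option autoImplicit false
set_option linter.unusedSectionVars false
open Cfsg H5 H10 H18 H22 Subgroup

namespace H2
namespace M11

variable {G : Type*} [Group G] [Finite G]

theorem cnt_mod {p : ℕ} [Fact p.Prime] {P : Subgroup G} (hP : IsPGroup p P) (n : ℕ) :
    Nat.card {g : G // orderOf g = n} ≡ Nat.card {g : 𝐂[P] // orderOf g = n} [MOD p] := by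
  let : MulAction P {g : G // orderOf g = n} :=
    { smul := fun r a => ⟨(r : G) * a * (r : G)⁻¹, (H18.orderOf_conj ..).trans a.2⟩
      mul_smul := fun r r' a => Subtype.ext (by
        show (r : G) * r' * a * ((r : G) * r')⁻¹ = r * (r' * a * (r' : G)⁻¹) * (r : G)⁻¹
        group)
      one_smul := fun a => Subtype.ext (by show (1 : G) * a * (1 : G)⁻¹ = a; group) }
  have := hP.card_modEq_card_fixedPoints {g : G // orderOf g = n}
  convert this using 1
  exact Nat.card_congr ⟨fun a => ⟨⟨a, (orderOf_coe _).trans a.2⟩, fun r => Subtype.ext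
      (mul_inv_eq_iff_eq_mul.2 (mem_CC.1 a.1.2 r r.2))⟩,
    fun a => ⟨⟨a.1, mem_CC.2 fun r hr => mul_inv_eq_iff_eq_mul.1 (congrArg Subtype.val (a.2 ⟨r, hr⟩))⟩,
      (orderOf_coe _).symm.trans a.1.2⟩, fun _ => rfl, fun _ => rfl⟩

/-- Frattini: an element of order `q p` -/
theorem fr {K M : Subgroup G} {p q : ℕ} (hp : p.Prime) (hq : q.Prime) (hK : K ⊴ M) (h1 : q ∣ Nat.card M)
    (h2 : ¬ q ∣ Nat.card K) (h3 : p ∣ Nat.card K) (h4 : ∀ k, p ^ k ∣ Nat.card K → q ∣ p ^ k - 1 → k = 0) :
    ∃ g : G, orderOf g = q * p := by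
  have := Fact.mk hp
  obtain ⟨R, hR⟩ := exists_sylow hp K
  have d := Nrm2.card_sup_dvd (A := K) (B := M ⊓ N(R)) (.inr (inf_le_left.trans hK.norm))
  rw [frattini_arg hp hK hR] at d
  obtain ⟨k, hk⟩ := hR.pi.card_eq_pow
  obtain ⟨a, -, ha, s, hs, s1, e⟩ := exists_comm_of_dvd_normalizer hq
    (((hq.dvd_mul.1 (h1.trans d)).resolve_left h2).trans (card_dvd inf_le_right)) fun j => by
      have := hR.dvd_card_p hp h3
      rw [hk] at j
      rw [hk, h4 k (hk ▸ card_dvd hR.le) j, pow_zero, Nat.dvd_one] at this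
      exact hp.one_lt.ne' this
  obtain ⟨m, hm⟩ := exists_pow_orderOf_prime hR.pi.isPGroup hs s1
  exact ⟨a * s ^ m, (((show Commute a s from e).pow_right m).orderOf_mul_eq_mul_orderOf_of_coprime (by
    rw [ha, hm]; exact (Nat.coprime_primes hq hp).2 fun j => h2 (j ▸ h3))).trans (by rw [ha, hm])⟩

theorem simple_dvd [IsSimpleGroup G] (hn : ¬ IsMulCommutative G) {m : ℕ} (hc : Nat.card G = 11 * m) (hm : m ∣ 720) :
    m = 60 ∨ m = 720 := by
  have := Fintype.ofFinite G
  obtain ⟨P⟩ : Nonempty (Sylow 11 G) := inferInstance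
  have hP := card_sylow_eq_prime hc (fun e => absurd (e.trans hm) (by norm_num)) P
  obtain ⟨n, e, c, h1, h2, -, h4, h5, h6, h7, k, rfl⟩ := prime_data (commutator_eq_top_of_simple hn) P hP
  have n1 := card_sylow_ne_one_of_simple (p := 11) hn (hc ▸ dvd_mul_right _ _)
  have he : 𝐂[(P : Subgroup G)].relIndex 𝐍[(P : Subgroup G)] = e := by
    have := card_sylow_mul_eq P
    rw [h1, h2, ← h4] at this
    have p : 0 < n * (e * (11 * k)) := h4 ▸ Nat.card_pos
    exact Nat.eq_of_mul_eq_mul_right (h2 ▸ Nat.card_pos) (Nat.eq_of_mul_eq_mul_left (Nat.pos_of_mul_pos_right p) this)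
  obtain ⟨D⟩ := exists_PB (by norm_num) P hP he h7
  have l := Nat.le_of_dvd (by norm_num) hm
  have := not_noSol (B := 90) hn D (by omega)
  rw [hc, h1] at *
  have d : n * e ∣ m := ⟨k, by nlinarith⟩
  exact (by decide +kernel : ∀ n ∈ Nat.divisors 720, n % 11 = 1 → n ≠ 1 → ∀ e ∈ Nat.divisors 10, e ≠ 1 →
    ∀ m ∈ Nat.divisors 720, n * e ∣ m → ¬ noSol 90 (11 * m) 11 e n = true → m = 60 ∨ m = 720) n
    (Nat.mem_divisors.2 ⟨(dvd_of_mul_right_dvd d).trans hm, by norm_num⟩) h5 n1 e (Nat.mem_divisors.2 ⟨h6, by norm_num⟩) h7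
    m (Nat.mem_divisors.2 ⟨hm, by norm_num⟩) d this

theorem disc (hc : Nat.card G = 7920) {A : Set ℕ} (h11 : 11 ∈ A) {b : ℕ} (hb : b ∉ A) (bp : b.Prime) (bd : b ∣ 7920)
    (h : ∀ a ∈ A, ∀ b ∉ A, a.Prime → b.Prime → ∀ g : G, orderOf g ≠ a * b) : IsSimpleGroup G := by
  have con : ∀ {p r : ℕ}, p.Prime → r.Prime → (∃ g : G, orderOf g = p * r) → (p ∈ A ↔ r ∈ A) := fun hp hr ⟨g, e⟩ =>
    ⟨fun a => by_contra fun c => h _ a _ c hp hr g e, fun a => by_contra fun c => h _ a _ c hr hp g (e.trans (mul_comm ..))⟩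
  have con2 : ∀ (K : Subgroup G) {p r : ℕ}, p.Prime → r.Prime → p ∣ Nat.card K → r ∣ Nat.card 𝐂[K] → (p ∈ A ↔ r ∈ A) :=
    fun K p r hp hr h1 h2 => by
      by_cases e : p = r
      · rw [e]
      · exact con hp hr (ord_mul hp hr e h1 h2)
  have all : 2 ∈ A → 3 ∈ A → 5 ∉ A := fun h2 h3 h5 => by
    have := (by decide +kernel : ∀ b ∈ Nat.primeFactors 7920, b = 2 ∨ b = 3 ∨ b = 5 ∨ b = 11) b
      (Nat.mem_primeFactors.2 ⟨bp, bd, by norm_num⟩)
    rcases this with rfl | rfl | rfl | rfl <;> contradiction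
  obtain ⟨P⟩ : Nonempty (Sylow 11 G) := inferInstance
  have hP := card_sylow_eq_prime (m := 720) hc (by norm_num) P
  have h1 := card_sylow_mul_eq P
  have e2 := relIndex_centralizer_dvd hP
  have n2 := card_sylow_modEq_one 11 G
  have hN := idx_N P
  obtain ⟨c, hc'⟩ := card_dvd_of_le (comm_of_card_prime hP)
  have cN := card_dvd (centralizer_le_normalizer ((P : Subgroup G) : Set G))
  rw [hP] at hc'
  rw [hc', hc] at h1
  rw [hc] at hN
  have cA : ∀ r : ℕ, r.Prime → r ∣ c → r ∈ A := fun r hr d =>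
    (con2 P fact11.out hr hP.symm.dvd (hc' ▸ d.mul_left _)).1 h11
  generalize 𝐂[(P : Subgroup G)].relIndex 𝐍[(P : Subgroup G)] = e at h1 e2
  generalize hn : Nat.card (Sylow 11 G) = n at h1 n2 hN
  have n4 : n = 45 ∨ n = 144 := by
    have k := (by decide +kernel : ∀ n ∈ Nat.divisors 720, n % 11 = 1 → n = 1 ∨ n = 12 ∨ n = 45 ∨ n = 144) n
      (Nat.mem_divisors.2 ⟨⟨e * c, by linarith⟩, by norm_num⟩) n2
    have k2 := (by decide : ∀ e ∈ Nat.divisors 10, e = 1 ∨ e = 2 ∨ e = 5 ∨ e = 10) e (Nat.mem_divisors.2 ⟨e2, by norm_num⟩)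
    by_contra j
    have c2 := cA 2 Nat.prime_two (by rcases k2 with rfl | rfl | rfl | rfl <;> rcases k with rfl | rfl | _ <;> omega)
    have d3 : 3 ∣ c := by rcases k2 with rfl | rfl | rfl | rfl <;> rcases k with rfl | rfl | _ <;> omega
    have c5 := all c2 (cA 3 Nat.prime_three d3)
    refine c5 ((con Nat.prime_five Nat.prime_three (fr Nat.prime_three Nat.prime_five
      (K := 𝐂[(P : Subgroup G)]) (M := 𝐍[(P : Subgroup G)]) ⟨centralizer_le_normalizer _, norm_C le_rfl⟩
      (by rcases k with rfl | rfl | _ <;> omega) (fun d => c5 (cA 5 Nat.prime_five (by omega))) (by omega)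
      fun k d j => ?_)).2 (cA 3 Nat.prime_three d3))
    have : k < 3 := by
      by_contra l
      have := ((pow_dvd_pow 3 (not_lt.1 l)).trans d).trans (card_subgroup_dvd_card _)
      omega
    interval_cases k <;> omega
  have s2 : ∀ M : Subgroup G, M.Normal → ¬ 11 ∣ Nat.card M → M = ⊥ := fun M hM d => by
    by_contra M1
    have dM : Nat.card M ∣ 11 * (3 ^ 2 * 80) := (card_subgroup_dvd_card M).trans (by rw [hc]; norm_num)
    have d3 : ¬ 3 ∣ Nat.card M := fun d3 => by
      obtain ⟨g, e⟩ := fr Nat.prime_three fact11.out (K := M) (M := ⊤) nml_top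
        (by rw [card_top, hc]; norm_num) d d3 fun k d j => by
          have : k < 3 := by
            by_contra l
            have := ((pow_dvd_pow 3 (not_lt.1 l)).trans d).trans dM
            omega
          interval_cases k <;> omega
      refine not_dvd_orderOf_of_not_dvd_C hP (q := 3) (fun j => ?_) g (by omega) (by omega)
      have := j.trans cN
      rcases n4 with rfl | rfl <;> omega
    have d80 := (Nat.Coprime.pow_right 2 ((Nat.prime_three.coprime_iff_not_dvd.2 d3).symm)).dvd_of_dvd_mul_left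
      (((fact11.out.coprime_iff_not_dvd.2 d).symm).dvd_of_dvd_mul_left dM)
    have m := H9.FB.card_mod (piGrp_of_prime fact11.out hP) fact11.out (X := M) norm_of_normal
    have le : M ≤ 𝐂[(P : Subgroup G)] := inf_eq_left.1 (H18.eq_of_card_eq inf_le_left ((by decide +kernel :
      ∀ d ∈ Nat.divisors 80, ∀ d' ∈ Nat.divisors 80, d' ∣ d → d % 11 = d' % 11 → d' = d) _
      (Nat.mem_divisors.2 ⟨d80, by norm_num⟩) _ (Nat.mem_divisors.2 ⟨(card_dvd inf_le_left).trans d80, by norm_num⟩)
      (card_dvd inf_le_left) m))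
    have le' : (P : Subgroup G) ≤ 𝐂[M] := le_centralizer_iff.1 le
    have dn := (card_sylow_dvd_relIndex_of_normal 𝐂[M] P le').trans H18.relIndex_dvd
    obtain ⟨r, hr, dr⟩ := exists_prime_dvd_card M1
    have rA := (con2 M hr fact11.out dr (hP ▸ card_dvd le')).2 h11
    have k : ∀ q : ℕ, q.Prime → q ∣ n → q ∈ A := fun q hq dq => (con2 M hr hq dr (dq.trans (hn ▸ dn))).1 rA
    have dr' := dr.trans ((card_dvd le).trans cN)
    have r2 := (by decide +kernel : ∀ b ∈ Nat.primeFactors 80, b = 2 ∨ b = 5) r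
      (Nat.mem_primeFactors.2 ⟨hr, dr.trans d80, by norm_num⟩)
    rcases n4 with rfl | rfl
    · obtain rfl : r = 2 := r2.resolve_right fun j => by subst j; omega
      exact all rA (k 3 Nat.prime_three (by norm_num)) (k 5 Nat.prime_five (by norm_num))
    · obtain rfl : r = 5 := r2.resolve_left fun j => by subst j; omega
      exact all (k 2 Nat.prime_two (by norm_num)) (k 3 Nat.prime_three (by norm_num)) rA
  obtain ⟨x, hx, ox⟩ := cauchy fact11.out hP.symm.dvd
  have low : ∀ L M : Subgroup G, L ⊴ M → 11 ∣ Nat.card L → normalClosure {x} ≤ M → normalClosure {x} ≤ L :=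
    fun L M hL d le => (closure_le _).2 fun y hy => by
      obtain ⟨_, rfl, e⟩ := Group.mem_conjugatesOfSet_iff.1 hy
      refine PiElt.mem_of_nml (π := {11}) ?_ (le (subset_closure hy)) hL ((piNat_compl_iff fact11.out).2 fun j => ?_)
      · rw [PiElt, (ord_isConj e).trans ox]; exact piNat_self fact11.out
      · have := (Nat.mul_dvd_mul d j).trans (H18.card_mul_relIndex hL.le ▸ card_subgroup_dvd_card M)
        omega
  have xW : x ∈ normalClosure {x} := subset_normalClosure rfl
  have PW : (P : Subgroup G) ≤ normalClosure {x} := by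
    rw [← zpowers_eq_of_prime (by rw [hP]; norm_num) hx (by rintro rfl; simp at ox), zpowers_le]; exact xW
  have dn := card_sylow_dvd_relIndex_of_normal _ P PW
  have cW := H18.card_mul_relIndex PW
  have dW := card_subgroup_dvd_card (normalClosure {x})
  rw [hP] at cW
  rw [hn] at dn
  rw [← cW, hc] at dW
  have : Nontrivial (normalClosure ({x} : Set G)) := Finite.one_lt_card_iff_nontrivial.1 (by
    have := H18.relIndex_pos (A := (P : Subgroup G)) (B := normalClosure {x}); omega)
  have sW : IsSimpleGroup (normalClosure ({x} : Set G)) := ⟨fun L hL => by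
    have hL' : L.map (Subgroup.subtype _) ⊴ normalClosure {x} := nml_map_subtype
    by_cases d : 11 ∣ Nat.card (L.map (Subgroup.subtype _))
    · exact .inr (top_le_iff.1 fun y _ => by
        obtain ⟨z, hz, e⟩ := low _ _ hL' d le_rfl y.2
        exact Subtype.ext e ▸ hz)
    · have := le_pcore hL' ((piNat_compl_iff fact11.out).2 d)
      rw [s2 O[{11}ᶜ](normalClosure {x}) (norm_top_iff.1 (norm_pcore norm_of_normal))
        ((piNat_compl_iff fact11.out).1 pcore_pi), le_bot_iff, map_eq_bot_iff_of_injective _ Subtype.val_injective] at this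
      exact .inl this⟩
  have := simple_dvd (not_comm_of_simple_of_not_prime (by
    rw [← cW]
    refine Nat.not_prime_mul (by norm_num) fun j => ?_
    rw [j] at dn
    rcases n4 with rfl | rfl <;> omega)) cW.symm (Nat.dvd_of_mul_dvd_mul_left (by norm_num) dW)
  have e : normalClosure {x} = ⊤ := eq_top_of_card_eq _ (by rcases n4 with rfl | rfl <;> omega)
  rw [e] at sW
  exact topEquiv.symm.isSimpleGroup

end M11
end H2
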