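import Cfsg.Agent.H9.MaxClass
import Cfsg.Agent.H3.HallTransfer
import Cfsg.Agent.H2.Syl

/-! A normal subgroup `S` of a 2-group `T` containing a four-group but no `T`-normal four-group: there is a
`T`-normal cyclic subgroup `⟨w⟩` of order 4 whose centralizer in `S` has a unique involution (`struct`). -/

set_option autoImplicit false
open Subgroup

namespace H2.Kf

variable {T : Type*} [Group T] [Finite T]

theorem step (hT : IsPGroup 2 T) (M C : Subgroup T) [M.Normal] [C.Normal] (h : ¬ C ≤ M) :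
    ∃ a ∈ C, a ∉ M ∧ a * a ∈ M ∧ ∀ g, g * a * g⁻¹ * a⁻¹ ∈ M := by
  haveI : (C.map (QuotientGroup.mk' M)).Normal := Subgroup.Normal.map ‹_› _ (QuotientGroup.mk'_surjective M)
  obtain ⟨_, ⟨a, ha, rfl⟩, hc, ho⟩ := H9.exists_central_involution (hT.to_quotient M)
    (C.map (QuotientGroup.mk' M)) (fun e => h (by
      rw [Subgroup.map_eq_bot_iff, QuotientGroup.ker_mk'] at e; exact e))
  refine ⟨a, ha, fun h1 => ?_, ?_, fun g => ?_⟩
  · have : QuotientGroup.mk' M a = 1 := (QuotientGroup.eq_one_iff a).2 h1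
    rw [this, orderOf_one] at ho; omega
  · rw [← QuotientGroup.eq_one_iff, ← pow_two]
    have := pow_orderOf_eq_one (QuotientGroup.mk' M a)
    rw [ho] at this; exact this
  · rw [← QuotientGroup.eq_one_iff]
    have := mem_center_iff.1 hc (QuotientGroup.mk' M g)
    show QuotientGroup.mk' M g * QuotientGroup.mk' M a * (QuotientGroup.mk' M g)⁻¹ *
      (QuotientGroup.mk' M a)⁻¹ = 1
    rw [this]; group

omit [Finite T] in
theorem mem_zpowers_invol {z x : T} (hz : z * z = 1) (h : x ∈ zpowers z) : x = 1 ∨ x = z := by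
  obtain ⟨i, rfl⟩ := mem_zpowers_iff.1 h
  have h2 : z ^ (2 : ℤ) = 1 := by rw [zpow_two, hz]
  rcases Int.even_or_odd' i with ⟨j, rfl | rfl⟩
  · left; rw [zpow_mul, h2, one_zpow]
  · right; rw [zpow_add, zpow_mul, h2, one_zpow, one_mul, zpow_one]

omit [Finite T] in
/-- In an abelian 2-group with at most one involution any two cyclic subgroups are comparable. -/
theorem comparable (B : Subgroup T) (hB : ∀ x ∈ B, ∀ y ∈ B, x * y = y * x) (z : T)
    (hu : ∀ x ∈ B, x * x = 1 → x = 1 ∨ x = z) : ∀ (k : ℕ), ∀ x ∈ B, ∀ y ∈ B, x ^ 2 ^ k = 1 →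
      y ^ 2 ^ k = 1 → x ∈ zpowers y ∨ y ∈ zpowers x := by
  have hz : ∀ (k : ℕ), ∀ y ∈ B, y ^ 2 ^ k = 1 → y = 1 ∨ z ∈ zpowers y := by
    intro k
    induction k with
    | zero => intro y _ h; left; simpa using h
    | succ k ih =>
      intro y hy h
      rcases ih (y * y) (mul_mem hy hy) (by rw [← pow_two, ← pow_mul, ← pow_succ', h]) with h1 | h1
      · rcases hu y hy h1 with h2 | h2
        · exact Or.inl h2
        · exact Or.inr (h2 ▸ mem_zpowers y)
      · exact Or.inr (zpowers_le.2 (mul_mem (mem_zpowers y) (mem_zpowers y)) h1)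
  have key : ∀ (k : ℕ), ∀ x ∈ B, ∀ y ∈ B, y ^ 2 ^ k = 1 → x * x ∈ zpowers (y * y) →
      x ∈ zpowers y ∨ y ∈ zpowers x := by
    intro k x hx y hy hk h
    obtain ⟨i, hi⟩ := mem_zpowers_iff.1 h
    have hyi : y ^ i ∈ B := zpow_mem hy i
    have hc : Commute x (y ^ i) := hB _ hx _ hyi
    have h1 : (x * (y ^ i)⁻¹) * (x * (y ^ i)⁻¹) = 1 := by
      have : (y * y) ^ i = y ^ i * y ^ i := (Commute.refl y).mul_zpow i
      calc (x * (y ^ i)⁻¹) * (x * (y ^ i)⁻¹) = x * ((y ^ i)⁻¹ * x) * (y ^ i)⁻¹ := by group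
        _ = x * (x * (y ^ i)⁻¹) * (y ^ i)⁻¹ := by rw [hc.inv_right.eq]
        _ = (x * x) * (y ^ i * y ^ i)⁻¹ := by group
        _ = 1 := by rw [← hi, this, mul_inv_cancel]
    rcases hz k y hy hk with h2 | h2
    · right; rw [h2]; exact one_mem _
    · left
      have h3 : x * (y ^ i)⁻¹ ∈ zpowers y := by
        rcases hu _ (mul_mem hx (inv_mem hyi)) h1 with h3 | h3
        · rw [h3]; exact one_mem _
        · rw [h3]; exact h2
      simpa using mul_mem h3 (zpow_mem (mem_zpowers y) i)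
  intro k
  induction k with
  | zero => intro x _ y _ h _; left; rw [show x = 1 by simpa using h]; exact one_mem _
  | succ k ih =>
    intro x hx y hy h1 h2
    rcases ih (x * x) (mul_mem hx hx) (y * y) (mul_mem hy hy)
      (by rw [← pow_two, ← pow_mul, ← pow_succ', h1])
      (by rw [← pow_two, ← pow_mul, ← pow_succ', h2]) with h | h
    · exact key _ x hx y hy h2 h
    · exact (key _ y hy x hx h1 h).symm

/-- No `T`-normal four-group inside `S`. -/
def NoK (S : Subgroup T) : Prop :=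
  ∀ z b : T, z ∈ S → b ∈ S → z ≠ 1 → z * z = 1 → z ∈ center T → b * b = 1 → b ≠ 1 → b ≠ z →
    (∀ g, g * b * g⁻¹ = b ∨ g * b * g⁻¹ = z * b) → False

theorem struct (hT : IsPGroup 2 T) (S : Subgroup T) [S.Normal] (hno : NoK S) {y₁ y₂ : T}
    (h1 : y₁ ∈ S) (h2 : y₂ ∈ S) (h11 : y₁ ≠ 1) (h21 : y₂ ≠ 1) (h12 : y₁ ≠ y₂)
    (hs1 : y₁ * y₁ = 1) (hs2 : y₂ * y₂ = 1) :
    ∃ z w y : T, z ∈ center T ∧ z ≠ 1 ∧ z * z = 1 ∧ w ∈ S ∧ w * w = z ∧
      (∀ g, g * w * g⁻¹ = w ∨ g * w * g⁻¹ = w⁻¹) ∧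
      (∀ m ∈ S, m * w = w * m → m * m = 1 → m = 1 ∨ m = z) ∧
      (∀ m ∈ S, m * w = w * m → ∀ u, u * w * u⁻¹ = w → u * m * u⁻¹ = m⁻¹ → m * m = 1) ∧
      (∀ m ∈ S, m * w = w * m → ∀ m' ∈ S, m' * w = w * m' → m ∈ zpowers m' ∨ m' ∈ zpowers m) ∧
      y ∈ S ∧ y * y = 1 ∧ y * w * y⁻¹ = w⁻¹ := by
  obtain ⟨z, hzS, hzc, hzo⟩ := H9.exists_central_involution hT S (fun e => h11 (by
    rw [e] at h1; exact h1))
  have hz1 : z ≠ 1 := fun e => by rw [e, orderOf_one] at hzo; omega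
  have hz2 : z * z = 1 := by rw [← pow_two, ← hzo, pow_orderOf_eq_one]
  have hzz : ∀ g, g * z = z * g := mem_center_iff.1 hzc
  haveI hZ : (zpowers z).Normal := H9.normal_zpowers_of_center hzc
  have nok : ∀ C : Subgroup T, C.Normal → C ≤ S → (∀ x ∈ C, x * x = 1) → C ≤ zpowers z := by
    intro C hC hCS hsq
    by_contra hne
    obtain ⟨b, hb, hbz, -, hg⟩ := step hT (zpowers z) C hne
    refine hno z b hzS (hCS hb) hz1 hz2 hzc (hsq b hb) (fun e => hbz (e ▸ one_mem _))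
      (fun e => hbz (e ▸ mem_zpowers _)) fun g => ?_
    rcases mem_zpowers_invol hz2 (hg g) with h | h
    · exact Or.inl (mul_inv_eq_one.1 h)
    · exact Or.inr (mul_inv_eq_iff_eq_mul.1 h)
  obtain ⟨w, hwS, hwz, hw2, hwg⟩ := step hT (zpowers z) S (fun h => h12 (by
    rw [(mem_zpowers_invol hz2 (h h1)).resolve_left h11, (mem_zpowers_invol hz2 (h h2)).resolve_left h21]))
  have hwg' : ∀ g, g * w * g⁻¹ = w ∨ g * w * g⁻¹ = z * w := fun g => by
    rcases mem_zpowers_invol hz2 (hwg g) with h | h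
    · exact Or.inl (mul_inv_eq_one.1 h)
    · exact Or.inr (mul_inv_eq_iff_eq_mul.1 h)
  have hww : w * w = z := (mem_zpowers_invol hz2 hw2).resolve_left fun h =>
    hno z w hzS hwS hz1 hz2 hzc h (fun e => hwz (e ▸ one_mem _)) (fun e => hwz (e ▸ mem_zpowers _)) hwg'
  have hzw : z * w = w⁻¹ := by
    rw [eq_inv_iff_mul_eq_one, mul_assoc, hww, hz2]
  have hwi : ∀ g, g * w * g⁻¹ = w ∨ g * w * g⁻¹ = w⁻¹ := fun g => hzw ▸ hwg' g
  have hwne : w⁻¹ ≠ w := fun e => hz1 (by rw [← hww]; nth_rewrite 1 [← e]; rw [inv_mul_cancel])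
  let C : Subgroup T := S ⊓ centralizer {w}
  have hmC : ∀ m, m ∈ C ↔ m ∈ S ∧ m * w = w * m := fun m => by
    simp only [C, mem_inf, mem_centralizer_singleton_iff]
  haveI hCn : C.Normal := ⟨fun m hm g => by
    rw [hmC] at hm ⊢
    refine ⟨Subgroup.Normal.conj_mem ‹_› m hm.1 g, ?_⟩
    have hc : Commute m (g⁻¹ * w * g⁻¹⁻¹) := by
      rcases hwi g⁻¹ with h | h <;> rw [h]
      · exact hm.2
      · exact Commute.inv_right hm.2
    calc g * m * g⁻¹ * w = g * (m * (g⁻¹ * w * g⁻¹⁻¹)) * g⁻¹ := by group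
      _ = g * ((g⁻¹ * w * g⁻¹⁻¹) * m) * g⁻¹ := by rw [hc.eq]
      _ = w * (g * m * g⁻¹) := by group⟩
  obtain ⟨B, hwB, hBmax⟩ := Finite.exists_le_maximal
    (p := fun B : Subgroup T => B.Normal ∧ B ≤ C ∧ ∀ x ∈ B, ∀ y ∈ B, x * y = y * x) (a := zpowers w)
    ⟨⟨fun x hx g => by
        obtain ⟨i, rfl⟩ := mem_zpowers_iff.1 hx
        rw [← conj_zpow]
        refine zpow_mem ?_ i
        rcases hwi g with h | h <;> rw [h]
        · exact mem_zpowers w
        · exact inv_mem (mem_zpowers w)⟩,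
      zpowers_le.2 ((hmC w).2 ⟨hwS, rfl⟩), fun x hx y hy => by
        obtain ⟨i, rfl⟩ := mem_zpowers_iff.1 hx
        obtain ⟨j, rfl⟩ := mem_zpowers_iff.1 hy
        exact (Commute.zpow_zpow_self w i j).eq⟩
  obtain ⟨hBn, hBC, hBc⟩ := hBmax.prop
  have hwB' : w ∈ B := hwB (mem_zpowers w)
  have hzB : z ∈ B := hww ▸ mul_mem hwB' hwB'
  have hBu : ∀ x ∈ B, x * x = 1 → x = 1 ∨ x = z := by
    intro x hx hxx
    let Ω : Subgroup T :=
      { carrier := {b | b ∈ B ∧ b * b = 1}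
        one_mem' := ⟨one_mem _, mul_one _⟩
        mul_mem' := fun {a b} ha hb => ⟨mul_mem ha.1 hb.1, by
          calc a * b * (a * b) = a * (b * a) * b := by group
            _ = a * (a * b) * b := by rw [hBc _ hb.1 _ ha.1]
            _ = (a * a) * (b * b) := by group
            _ = 1 := by rw [ha.2, hb.2, mul_one]⟩
        inv_mem' := fun {a} ha => ⟨inv_mem ha.1, by rw [← mul_inv_rev, ha.2, inv_one]⟩ }
    have := nok Ω ⟨fun a ha g => ⟨hBn.conj_mem a ha.1 g, by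
      calc g * a * g⁻¹ * (g * a * g⁻¹) = g * (a * a) * g⁻¹ := by group
        _ = 1 := by rw [ha.2]; group⟩⟩ (fun a ha => (hBC ha.1).1) (fun a ha => ha.2)
    exact mem_zpowers_invol hz2 (this (show x ∈ Ω from ⟨hx, hxx⟩))
  have hcmp : ∀ x ∈ B, ∀ y ∈ B, x ∈ zpowers y ∨ y ∈ zpowers x := fun x hx y hy => by
    obtain ⟨k, hk⟩ := hT x
    obtain ⟨l, hl⟩ := hT y
    exact comparable B hBc z hBu (k + l) x hx y hy (by rw [pow_add, pow_mul, hk, one_pow])
      (by rw [add_comm, pow_add, pow_mul, hl, one_pow])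
  have hinv : ∀ m ∈ B, ∀ u, u * w * u⁻¹ = w → u * m * u⁻¹ = m⁻¹ → m * m = 1 := by
    intro m hm u hu hum
    rcases hcmp m hm w hwB' with h | h
    · obtain ⟨i, rfl⟩ := mem_zpowers_iff.1 h
      rw [← conj_zpow, hu] at hum
      exact mul_eq_one_iff_eq_inv.2 hum
    · obtain ⟨i, rfl⟩ := mem_zpowers_iff.1 h
      rw [← conj_zpow, hum, inv_zpow] at hu
      exact absurd hu hwne
  have hself : C ⊓ centralizer (B : Set T) ≤ B := by
    by_contra hne
    obtain ⟨a, ⟨haC, haB⟩, hab, -, hg⟩ := step hT B (C ⊓ centralizer (B : Set T)) hne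
    have haB' : ∀ b ∈ B, b * a = a * b := haB
    have hle := hBmax.le_of_ge (y := B ⊔ zpowers a) ⟨⟨fun x hx g => ?_⟩,
      sup_le hBC (zpowers_le.2 haC), ?_⟩ le_sup_left
    · exact hab (hle (mem_sup_right (mem_zpowers a)))
    · have : B ⊔ zpowers a ≤ (B ⊔ zpowers a).comap (MulAut.conj g).toMonoidHom :=
        sup_le (fun b hb => mem_sup_left (hBn.conj_mem b hb g)) (zpowers_le.2 (by
          have := mul_mem (mem_sup_left (T := zpowers a) (hg g)) (mem_sup_right (mem_zpowers a))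
          simpa using this))
      exact this hx
    · have e1 : B ⊔ zpowers a ≤ centralizer ((B ⊔ zpowers a : Subgroup T) : Set T) := by
        refine sup_le ?_ (zpowers_le.2 ?_)
        · rw [le_centralizer_iff]
          exact sup_le (fun b hb b' hb' => hBc _ hb' _ hb) (zpowers_le.2 haB)
        · have : B ⊔ zpowers a ≤ centralizer {a} := sup_le
            (fun b hb => mem_centralizer_singleton_iff.2 (haB' b hb))
            (zpowers_le.2 (mem_centralizer_singleton_iff.2 rfl))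
          exact fun x hx => mem_centralizer_singleton_iff.1 (this hx)
      exact fun x hx y hy => e1 hy x hx
  have hCB : C ≤ B := by
    by_contra hne
    obtain ⟨a, haC, hab, haa, hg⟩ := step hT B C hne
    have haw : a * w * a⁻¹ = w := by rw [((hmC a).1 haC).2]; group
    have hcx : ∀ x ∈ B, a * x * a⁻¹ = x ∨ a * x * a⁻¹ = z * x := by
      intro x hx
      have hm : a * x * a⁻¹ * x⁻¹ ∈ B := mul_mem (hBn.conj_mem x hx a) (inv_mem hx)
      have := hinv _ hm a haw (by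
        calc a * (a * x * a⁻¹ * x⁻¹) * a⁻¹ = ((a * a) * x) * (a * a)⁻¹ * (a * x * a⁻¹)⁻¹ := by group
          _ = (x * (a * a)) * (a * a)⁻¹ * (a * x * a⁻¹)⁻¹ := by rw [hBc _ haa _ hx]
          _ = _ := by group)
      rcases hBu _ hm this with h | h
      · exact Or.inl (mul_inv_eq_one.1 h)
      · exact Or.inr (mul_inv_eq_iff_eq_mul.1 h)
    obtain ⟨x₀, hx₀, hax⟩ : ∃ x ∈ B, a * x * a⁻¹ ≠ x := by
      by_contra hall
      push Not at hall
      exact hab (hself ⟨haC, fun b hb => by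
        have := hall b hb
        calc b * a = a * b * a⁻¹ * a := by rw [this]
          _ = a * b := by group⟩)
    have hax' := (hcx x₀ hx₀).resolve_left hax
    obtain ⟨e, he, hae⟩ : ∃ e ∈ B, a * a = e * e := by
      rcases hcmp _ haa _ hx₀ with h | h
      · obtain ⟨i, hi⟩ := mem_zpowers_iff.1 h
        rcases Int.even_or_odd' i with ⟨j, rfl | rfl⟩
        · exact ⟨x₀ ^ j, zpow_mem hx₀ j, by rw [← hi, two_mul, zpow_add]⟩
        · exfalso
          have h3 : a * x₀ ^ (2 * j + 1) * a⁻¹ = x₀ ^ (2 * j + 1) := by rw [hi]; group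
          have h4 : z ^ (2 : ℤ) = 1 := by rw [zpow_two, hz2]
          rw [← conj_zpow, hax', (show Commute z x₀ from (hzz x₀).symm).mul_zpow, zpow_add z, zpow_mul z,
            h4, one_zpow, one_mul, zpow_one, mul_eq_right] at h3
          exact hz1 h3
      · exfalso
        obtain ⟨i, hi⟩ := mem_zpowers_iff.1 h
        apply hax
        rw [← hi, ← conj_zpow]; congr 1; group
    obtain ⟨f, hf, hb⟩ : ∃ f ∈ B, (a * f) * (a * f) = 1 := by
      have hc : (a * e⁻¹) * (a * e⁻¹) = (a * e⁻¹ * a⁻¹) * e := by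
        calc (a * e⁻¹) * (a * e⁻¹) = (a * e⁻¹ * a⁻¹) * (a * a) * e⁻¹ := by group
          _ = _ := by rw [hae]; group
      rcases hcx _ (inv_mem he) with h | h
      · exact ⟨e⁻¹, inv_mem he, by rw [hc, h, inv_mul_cancel]⟩
      · refine ⟨e⁻¹ * w, mul_mem (inv_mem he) hwB', ?_⟩
        rw [h, mul_assoc z, inv_mul_cancel, mul_one] at hc
        have c1 : Commute w (a * e⁻¹) :=
          Commute.mul_right ((hmC a).1 haC).2.symm (hBc _ hwB' _ (inv_mem he))
        calc a * (e⁻¹ * w) * (a * (e⁻¹ * w)) = a * e⁻¹ * (w * (a * e⁻¹)) * w := by group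
          _ = (a * e⁻¹ * (a * e⁻¹)) * (w * w) := by rw [c1.eq]; group
          _ = 1 := by rw [hc, hww, hz2]
    have hbC : a * f ∈ C := mul_mem haC (hBC hf)
    have hbB : a * f ∉ B := fun h => hab (by simpa using mul_mem h (inv_mem hf))
    refine hno z (a * f) hzS hbC.1 hz1 hz2 hzc hb (fun e => hbB (e ▸ one_mem _))
      (fun e => hbB (e ▸ hzB)) fun g => ?_
    have hm : g * (a * f) * g⁻¹ * (a * f)⁻¹ ∈ B := by
      have := mul_mem (hg g) (hBn.conj_mem _ (mul_mem (hBn.conj_mem f hf g) (inv_mem hf)) a)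
      convert this using 1; group
    have hbi : (a * f)⁻¹ = a * f := inv_eq_of_mul_eq_one_right hb
    have := hinv _ hm (a * f) (by rw [((hmC _).1 hbC).2]; group) (by
      have h5 : (g * (a * f) * g⁻¹)⁻¹ = g * (a * f) * g⁻¹ := by
        calc (g * (a * f) * g⁻¹)⁻¹ = g * (a * f)⁻¹ * g⁻¹ := by group
          _ = _ := by rw [hbi]
      generalize g * (a * f) * g⁻¹ = p at h5 ⊢
      generalize a * f = b at hb hbi ⊢
      rw [mul_inv_rev, inv_inv, h5, hbi]
      calc b * (p * b) * b = b * p * (b * b) := by group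
        _ = b * p := by rw [hb, mul_one])
    rcases hBu _ hm this with h | h
    · exact Or.inl (mul_inv_eq_one.1 h)
    · exact Or.inr (mul_inv_eq_iff_eq_mul.1 h)
  have huniq : ∀ m ∈ S, m * w = w * m → m * m = 1 → m = 1 ∨ m = z := fun m hm hc =>
    hBu m (hCB ((hmC m).2 ⟨hm, hc⟩))
  have hy : ∀ y ∈ S, y * y = 1 → y ≠ 1 → y ≠ z → y * w * y⁻¹ = w⁻¹ := fun y hy hyy hy1 hyz =>
    (hwi y).resolve_left fun h => by
      rcases huniq y hy (mul_inv_eq_iff_eq_mul.1 h) hyy with h | h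
      · exact hy1 h
      · exact hyz h
  obtain ⟨y, hyS, hyy, hyw⟩ : ∃ y ∈ S, y * y = 1 ∧ y * w * y⁻¹ = w⁻¹ := by
    by_cases h : y₁ = z
    · exact ⟨y₂, h2, hs2, hy _ h2 hs2 h21 fun e => h12 (h.trans e.symm)⟩
    · exact ⟨y₁, h1, hs1, hy _ h1 hs1 h11 h⟩
  exact ⟨z, w, y, hzc, hz1, hz2, hwS, hww, hwi, huniq,
    fun m hm hc => hinv m (hCB ((hmC m).2 ⟨hm, hc⟩)),
    fun m hm hc m' hm' hc' => hcmp m (hCB ((hmC m).2 ⟨hm, hc⟩)) m' (hCB ((hmC m').2 ⟨hm', hc'⟩)),
    hyS, hyy, hyw⟩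

end H2.Kf
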