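import Cfsg.Agent.H2.Kf1
import Cfsg.Prelude.Def_Local

/-! Fusion argument for a perfect normal subgroup whose Sylow 2-subgroup is dihedral or semidihedral:
`fuse_y` (Thompson transfer) and `fuse_contra` (an element of order 4 centralizing a noncentral involution). -/

set_option autoImplicit false
open Subgroup
open scoped Pointwise

namespace H2.Kf

variable {G : Type*} [Group G] [Finite G]

omit [Finite G] in
theorem no_index_two_of_layer (h : Cfsg.layer G = ⊤) (M : Subgroup G) [M.Normal] (hM : M.index = 2) :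
    False := by
  haveI : Fact (Nat.Prime 2) := Nat.fact_prime_two
  have hcyc : IsCyclic (G ⧸ M) := isCyclic_of_prime_card (p := 2) hM
  have hc : _root_.commutator G ≤ M := by
    rw [_root_.commutator, commutator_le]
    intro a _ b _
    rw [← QuotientGroup.eq_one_iff, ← QuotientGroup.mk'_apply, map_commutatorElement,
      commutatorElement_eq_one_iff_mul_comm]
    exact hcyc.isMulCommutative.is_comm.comm _ _
  have : Cfsg.layer G ≤ M := sSup_le fun K hK => by
    have hp : ⁅K, K⁆ = K := Subgroup.isPerfect_iff.1 hK.2.1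
    rw [← hp]
    exact (commutator_mono le_top le_top).trans hc
  rw [h, top_le_iff] at this
  rw [this, index_top] at hM
  omega

theorem fuse_y {A S : Subgroup G} (hA : ∀ M : Subgroup A, M.Normal → M.index = 2 → False)
    (hS : SylIn 2 S A) {z w y : G} (hwi : ∀ t ∈ S, t * w * t⁻¹ = w ∨ t * w * t⁻¹ = w⁻¹)
    (hwne : w⁻¹ ≠ w) (huniq : ∀ m ∈ S, m * w = w * m → m * m = 1 → m = 1 ∨ m = z)
    (hy : y ∈ S) (hyy : y * y = 1) (hyw : y * w * y⁻¹ = w⁻¹) : ∃ g ∈ A, g * y * g⁻¹ = z := by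
  by_contra hne
  push Not at hne
  have hidx : (centralizer {w}).relIndex S = 2 := by
    rw [relIndex, index_eq_two_iff]
    refine ⟨⟨y, hy⟩, fun b => ?_⟩
    have e1 : ∀ x : S, x ∈ (centralizer {w}).subgroupOf S ↔ (x : G) * w * (x : G)⁻¹ = w := fun x => by
      rw [mem_subgroupOf, mem_centralizer_singleton_iff, mul_inv_eq_iff_eq_mul]
    rw [e1, e1]
    have e2 : ((b * ⟨y, hy⟩ : S) : G) * w * ((b * ⟨y, hy⟩ : S) : G)⁻¹ = ((b : G) * w * (b : G)⁻¹)⁻¹ := by
      calc ((b * ⟨y, hy⟩ : S) : G) * w * ((b * ⟨y, hy⟩ : S) : G)⁻¹ = b * (y * w * y⁻¹) * (b : G)⁻¹ := by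
            simp only [coe_mul]; group
        _ = _ := by rw [hyw]; group
    rw [e2]
    rcases hwi b b.2 with h | h <;> rw [h]
    · exact Or.inr ⟨rfl, hwne⟩
    · exact Or.inl ⟨inv_inv w, hwne⟩
  obtain ⟨M, hMn, hM, -⟩ := H3.thompson_transfer (G := A) (H := S.subgroupOf A)
    (Q := (centralizer {w} ⊓ S).subgroupOf A) hS.not_dvd
    (by rw [relIndex_subgroupOf hS.le, inf_relIndex_right, hidx])
    (u := ⟨y, hS.le hy⟩) (Subtype.ext (by simp [pow_two, hyy])) hy (fun g hg => by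
      obtain ⟨h1, h2⟩ := mem_subgroupOf.1 hg
      have h3 : ((g * ⟨y, hS.le hy⟩ * g⁻¹ : A) : G) = g * y * (g : G)⁻¹ := rfl
      rw [h3] at h1 h2
      rcases huniq _ h2 (mem_centralizer_singleton_iff.1 h1) (by
        calc (g : G) * y * (g : G)⁻¹ * (g * y * (g : G)⁻¹) = g * (y * y) * (g : G)⁻¹ := by group
          _ = 1 := by rw [hyy]; group) with h | h
      · have : y = 1 := by simpa using h
        rw [this] at hyw
        exact hwne (by simpa using hyw.symm)
      · exact hne g g.2 h)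
  exact hA M hMn hM

theorem fuse_contra {A L T : Subgroup G} (hA : ∀ M : Subgroup A, M.Normal → M.index = 2 → False)
    (hAL : A ≤ L) (hLA : L ≤ normalizer (A : Set G)) (hT : SylIn 2 T L) {z w y v : G}
    (hzc : ∀ t ∈ T, t * z = z * t) (hz1 : z ≠ 1) (hz2 : z * z = 1)
    (hwi : ∀ t ∈ T, t * w * t⁻¹ = w ∨ t * w * t⁻¹ = w⁻¹) (hww : w * w = z)
    (huniq : ∀ m ∈ T ⊓ A, m * w = w * m → m * m = 1 → m = 1 ∨ m = z)
    (hy : y ∈ T ⊓ A) (hyy : y * y = 1) (hyw : y * w * y⁻¹ = w⁻¹) (hv : v ∈ L) (hvv : v * v = z)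
    (hvy : v * y = y * v) (hsq : ∀ t ∈ T, t * t ∈ A) : False := by
  haveI : Fact (Nat.Prime 2) := Nat.fact_prime_two
  have hwne : w⁻¹ ≠ w := fun e => hz1 (by rw [← hww]; nth_rewrite 1 [← e]; rw [inv_mul_cancel])
  obtain ⟨g, hg, hgy⟩ := fuse_y hA (hT.inf_of_normal hAL (hT.le.trans hLA))
    (fun t ht => hwi t ht.1) hwne huniq hy hyy hyw
  have hT' : SylIn 2 T (L ⊓ centralizer {z}) :=
    hT.of_le (le_inf hT.le fun t ht => mem_centralizer_singleton_iff.2 (hzc t ht)) inf_le_left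
  have hv4 : (g * v * g⁻¹) ^ 2 ^ 2 = 1 := by
    rw [conj_pow, show v ^ 2 ^ 2 = (v * v) * (v * v) by simp [pow_succ, mul_assoc], hvv, hz2]; group
  obtain ⟨k, ⟨hkL, hkz⟩, hle⟩ := hT'.exists_le_conj (R := zpowers (g * v * g⁻¹))
    (by
      rintro ⟨_, i, rfl⟩
      refine ⟨2, Subtype.ext ?_⟩
      show ((g * v * g⁻¹) ^ i) ^ 2 ^ 2 = 1
      rw [← zpow_natCast, ← zpow_mul, mul_comm, zpow_mul, zpow_natCast, hv4, one_zpow])
    (zpowers_le.2 ⟨L.mul_mem (L.mul_mem (hAL hg) hv) (L.inv_mem (hAL hg)),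
      mem_centralizer_singleton_iff.2 (by
        rw [← hgy]
        calc g * v * g⁻¹ * (g * y * g⁻¹) = g * (v * y) * g⁻¹ := by group
          _ = _ := by rw [hvy]; group)⟩)
  have ht : k⁻¹ * (g * v * g⁻¹) * k ∈ T := by
    have := hle (mem_zpowers _)
    rw [mem_pointwise_smul_iff_inv_smul_mem, ← map_inv, MulAut.smul_def, MulAut.conj_apply, inv_inv] at this
    exact this
  set t := k⁻¹ * (g * v * g⁻¹) * k with htdef
  have htt : t * t = k⁻¹ * (g * z * g⁻¹) * k := by rw [← hvv, htdef]; group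
  have hkz' : k * z = z * k := mem_centralizer_singleton_iff.1 hkz
  rcases huniq (t * t) ⟨mul_mem ht ht, hsq t ht⟩ (by
      rw [← mul_inv_eq_iff_eq_mul]
      have e : t * t * w * (t * t)⁻¹ = t * (t * w * t⁻¹) * t⁻¹ := by group
      rw [e]
      rcases hwi t ht with h | h <;> rw [h]
      · exact h
      · rw [show t * w⁻¹ * t⁻¹ = (t * w * t⁻¹)⁻¹ by group, h, inv_inv]) (by
      rw [htt]
      calc k⁻¹ * (g * z * g⁻¹) * k * (k⁻¹ * (g * z * g⁻¹) * k) = k⁻¹ * (g * (z * z) * g⁻¹) * k := by group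
        _ = 1 := by rw [hz2]; group) with h | h
  · rw [htt] at h
    apply hz1
    calc z = g⁻¹ * (k * (k⁻¹ * (g * z * g⁻¹) * k) * k⁻¹) * g := by group
      _ = 1 := by rw [h]; group
  · rw [htt] at h
    have h1 : g * z * g⁻¹ = z := by
      calc g * z * g⁻¹ = k * (k⁻¹ * (g * z * g⁻¹) * k) * k⁻¹ := by group
        _ = z := by rw [h, hkz']; group
    have h2 : y = z := by simpa using hgy.trans h1.symm
    rw [h2, ← hww] at hyw
    exact hwne (by rw [← hyw]; group)

end H2.Kf
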