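import Mathlib
import Cfsg.Agent.H15.Kl0

/-! Assembly for S4606 from the pieces. -/
set_option autoImplicit false
namespace H2.KlAsm
open Subgroup Cfsg H15.Kl
universe u

theorem expo {G : Type u} [Group G] [Finite G] (p : ℕ) [hp : Fact p.Prime] (D : Subgroup G)
    (hD : IsPGroup p D) (hAC : AC D) : ∀ a ∈ D, a ^ p = 1 := by
  intro a ha
  by_cases h1 : a = 1
  · simp [h1]
  obtain ⟨k, hk⟩ := hD ⟨a, ha⟩
  have hk' : a ^ p ^ k = 1 := by simpa using congrArg Subtype.val hk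
  obtain ⟨j, -, hj⟩ := (Nat.dvd_prime_pow hp.out).1 (orderOf_dvd_of_pow_eq_one hk')
  have hj0 : j ≠ 0 := by
    rintro rfl
    exact h1 (orderOf_eq_one_iff.1 (by simpa using hj))
  obtain ⟨i, rfl⟩ := Nat.exists_eq_succ_of_ne_zero hj0
  have hb1 : a ^ p ^ i ≠ 1 := by
    intro h
    have := orderOf_dvd_of_pow_eq_one h
    rw [hj] at this
    have h2 := Nat.le_of_dvd (pow_pos hp.out.pos _) this
    have h3 : p ^ i < p ^ i.succ := Nat.pow_lt_pow_right hp.out.one_lt (Nat.lt_succ_self i)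
    omega
  have hbp : (a ^ p ^ i) ^ p = 1 := by
    rw [← pow_mul, ← pow_succ, ← hj, pow_orderOf_eq_one]
  obtain ⟨c, hc⟩ := isConj_iff.1 (hAC _ (D.pow_mem ha (p ^ i)) a ha hb1 h1)
  rw [← hc, conj_pow, hbp]
  simp

theorem allp {G : Type u} [Group G] [Finite G] (p : ℕ) [hp : Fact p.Prime] (S : Sylow p G)
    (h : ∀ a ∈ (S : Subgroup G), a ^ p = 1) : ∀ y : G, (∃ k, y ^ p ^ k = 1) → y ^ p = 1 := by
  rintro y ⟨k, hk⟩
  have hy : IsPGroup p (zpowers y) := by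
    rintro ⟨z, hz⟩
    obtain ⟨n, rfl⟩ := mem_zpowers_iff.1 hz
    refine ⟨k, Subtype.ext ?_⟩
    show (y ^ n) ^ p ^ k = 1
    rw [← zpow_natCast, ← zpow_mul, mul_comm, zpow_mul, zpow_natCast, hk, one_zpow]
  obtain ⟨Q, hQ⟩ := hy.exists_le_sylow
  obtain ⟨g, hg⟩ := MulAction.exists_smul_eq G S Q
  have hyQ : y ∈ (Q : Subgroup G) := hQ (mem_zpowers y)
  rw [← hg, Sylow.coe_subgroup_smul, Subgroup.mem_pointwise_smul_iff_inv_smul_mem] at hyQ
  have h2 := h _ hyQ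
  have h3 : ((MulAut.conj g)⁻¹ : MulAut G) (y ^ p) = 1 := by
    rw [map_pow]; exact h2
  exact (MulEquiv.map_eq_one_iff _).1 h3

theorem asm (hB : PB.{u}) (hS : PS.{u}) (hF : PF.{u}) (h1 : PM1.{u}) (h2 : PM2.{u})
    {G : Type u} [Group G] [Finite G] (p : ℕ) [hp : Fact p.Prime] (M : Ideal Cfsg.AlgInt) (hM : Cfsg.IsPModular p M)
    (B : Set (Cfsg.IrrCharacter G)) (hBl : Cfsg.IsPBlock M B) (D : Subgroup G) (hD : Cfsg.IsDefectGroup p M B D)
    (hk : Nat.card B = Cfsg.blockRank p B + 1) (hB0 : B = Cfsg.principalBlock M G ∨ Cfsg.IsPSolvable p G) :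
    Cfsg.IsElementaryAbelian p D := by
  obtain ⟨hp1, hAC, hpr⟩ := hB G p M hM B hBl D hD hk
  rcases hB0 with h0 | h0
  · obtain ⟨hCP, S, rfl⟩ := hpr h0
    have he := expo p (S : Subgroup G) hp1 hAC
    refine ⟨?_, he⟩
    by_contra hna
    by_cases h2' : p = 2
    · subst h2'
      apply hna
      refine ⟨⟨fun a b => ?_⟩⟩
      have ha := he a.1 a.2
      have hb := he b.1 b.2
      have hab := he (a.1 * b.1) (mul_mem a.2 b.2)
      apply Subtype.ext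
      show a.1 * b.1 = b.1 * a.1
      have ia : a.1⁻¹ = a.1 := inv_eq_of_mul_eq_one_right (by rw [← sq]; exact ha)
      have ib : b.1⁻¹ = b.1 := inv_eq_of_mul_eq_one_right (by rw [← sq]; exact hb)
      have iab : (a.1 * b.1)⁻¹ = a.1 * b.1 := inv_eq_of_mul_eq_one_right (by rw [← sq]; exact hab)
      rw [← iab, mul_inv_rev, ia, ib]
    · obtain ⟨E, hE⟩ := h1 G p S hAC hna
      exact h2 G p S E h2' hCP (hF G p hCP) (allp p S he) hE
  · exact hS G p D h0 hp1 hAC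

end H2.KlAsm
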