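import Cfsg.Agent.H2.PF10c
import Cfsg.Agent.H6.PF1010
import Cfsg.Agent.H23.PF6b

/-! `instance H2.instPF10 : PF10 G` under `[PF3] [PF5] [FT G] [BG16 G] [PF9 G]`. -/

set_option autoImplicit false
open H5 Cfsg H18 H19 H22

namespace H2
universe u

instance instPF10 {G : Type u} [Group G] [Fintype G] [PF3.{u}] [PF5.{u}] [FT G] [BG16 G] [PF9 G] :
    PF10 G where
  FTtype345_noncoherence := FTtype345_noncoherence
  FTtype5_exclusion := H6.P.FTtype5_exclusion_of fun _ => FTtype345_noncoherence

end H2
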