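import Mathlib

/-! Redundant Sylow subgroups of `GL_p(q)`: homologies and p-groups containing a p-element. -/

namespace H2.Red

open Module Polynomial

section grp
variable {G : Type*} [Group G] {p : ℕ}

/-- `y` has order dividing `p` and commutes with its conjugates under `⟨x⟩`. -/
def Good (p : ℕ) (x y : G) : Prop :=
  y ^ p = 1 ∧ ∀ g ∈ Subgroup.zpowers x, Commute y (g * y * g⁻¹)

theorem Good.sylow [Finite G] [Fact p.Prime] {x y : G} (h : Good p x y) {k : ℕ}
    (hx : x ^ p ^ k = 1) : ∃ P : Sylow p G, x ∈ P ∧ y ∈ P := by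
  set s : Set G := {n | ∃ g ∈ Subgroup.zpowers x, n = g * y * g⁻¹} with hs
  have hc : ∀ a ∈ s, ∀ b ∈ s, Commute a b := by
    rintro _ ⟨g, hg, rfl⟩ _ ⟨g', hg', rfl⟩
    have h1 := h.2 (g⁻¹ * g') (mul_mem (inv_mem hg) hg')
    have h2 := h1.map (MulAut.conj g)
    simp only [MulAut.conj_apply] at h2
    convert h2 using 1
    group
  have hc2 : ∀ a ∈ Subgroup.closure s, ∀ b ∈ Subgroup.closure s, Commute a b := by
    intro a ha b hb
    induction ha using Subgroup.closure_induction with
    | mem a ha =>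
      induction hb using Subgroup.closure_induction with
      | mem b hb => exact hc a ha b hb
      | one => exact Commute.one_right _
      | mul b c _ _ h1 h2 => exact h1.mul_right h2
      | inv b _ h1 => exact h1.inv_right
    | one => exact Commute.one_left _
    | mul a c _ _ h1 h2 => exact h1.mul_left h2
    | inv a _ h1 => exact h1.inv_left
  have hp : ∀ a ∈ Subgroup.closure s, a ^ p = 1 := by
    intro a ha
    induction ha using Subgroup.closure_induction with
    | mem a ha =>
      obtain ⟨g, -, rfl⟩ := ha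
      rw [conj_pow, h.1]; simp
    | one => simp
    | mul a c ha hc h1 h2 => rw [(hc2 a ha c hc).mul_pow, h1, h2, one_mul]
    | inv a _ h1 => rw [inv_pow, h1, inv_one]
  have hN : IsPGroup p (Subgroup.closure s) := fun a => ⟨1, Subtype.ext (by simpa using hp a a.2)⟩
  have hX : IsPGroup p (Subgroup.zpowers x) := by
    rintro ⟨_, n, rfl⟩
    refine ⟨k, Subtype.ext ?_⟩
    simp only [SubmonoidClass.coe_pow, OneMemClass.coe_one]
    rw [← zpow_natCast, ← zpow_mul, mul_comm, zpow_mul, zpow_natCast, hx, one_zpow]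
  have key : ∀ g ∈ Subgroup.zpowers x, ∀ a ∈ Subgroup.closure s,
      g * a * g⁻¹ ∈ Subgroup.closure s := by
    intro g hg a ha
    induction ha using Subgroup.closure_induction with
    | mem a ha =>
      obtain ⟨g', hg', rfl⟩ := ha
      exact Subgroup.subset_closure ⟨g * g', mul_mem hg hg', by group⟩
    | one => simp
    | mul a c _ _ h1 h2 => convert mul_mem h1 h2 using 1; group
    | inv a _ h1 => convert inv_mem h1 using 1; group
  have hle : Subgroup.zpowers x ≤ Subgroup.normalizer (Subgroup.closure s : Set G) := by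
    intro g hg
    rw [Subgroup.mem_normalizer_iff]
    intro a
    refine ⟨key g hg a, fun h => ?_⟩
    convert key g⁻¹ (inv_mem hg) _ h using 1
    group
  obtain ⟨P, hP⟩ := (hX.to_sup_of_normal_right' hN hle).exists_le_sylow
  refine ⟨P, hP (Subgroup.mem_sup_left (Subgroup.mem_zpowers x)), hP (Subgroup.mem_sup_right ?_)⟩
  exact Subgroup.subset_closure ⟨1, one_mem _, by simp⟩

theorem Good.conj {x y a : G} (h : Good p x y) (ha : Commute a x) : Good p x (a * y * a⁻¹) := by
  refine ⟨by rw [conj_pow, h.1]; simp, fun g hg => ?_⟩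
  have h2 := (h.2 g hg).map (MulAut.conj a)
  simp only [MulAut.conj_apply] at h2
  obtain ⟨n, rfl⟩ := hg
  have h3 : Commute a (x ^ n) := ha.zpow_right n
  convert h2 using 1
  simp only
  rw [← mul_assoc, ← mul_assoc, ← h3.eq]
  have h4 : a⁻¹ * (x ^ n)⁻¹ = (x ^ n)⁻¹ * a⁻¹ := (h3.inv_inv).eq
  simp only [mul_assoc, h4]

/-- every p-element has two good partners whose product is not a p-element -/
def Two (p : ℕ) (G : Type*) [Group G] : Prop :=
  ∀ x : G, ∀ k, x ^ p ^ k = 1 → ∃ y z, Good p x y ∧ Good p x z ∧ ∀ m, (y * z) ^ p ^ m ≠ 1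

theorem Two.of_equiv {H : Type*} [Group H] (e : G ≃* H) (h : Two p H) : Two p G := by
  intro x k hx
  obtain ⟨y, z, hy, hz, hyz⟩ := h (e x) k (by rw [← map_pow, hx, map_one])
  have t : ∀ y, Good p (e x) y → Good p x (e.symm y) := by
    intro y hy
    refine ⟨by rw [← map_pow, hy.1, map_one], ?_⟩
    rintro _ ⟨n, rfl⟩
    have := (hy.2 (e x ^ n) ⟨n, rfl⟩).map e.symm
    simpa using this
  refine ⟨_, _, t y hy, t z hz, fun m hm => hyz m ?_⟩
  have := congrArg e hm
  simpa using this

theorem Two.redundant [Finite G] [Fact p.Prime] (h : Two p G) :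
    ∃ Q : Sylow p G, ∀ x : G, (∃ k : ℕ, orderOf x = p ^ k) → ∃ P : Sylow p G, P ≠ Q ∧ x ∈ P := by
  refine ⟨default, fun x ⟨k, hk⟩ => ?_⟩
  have hx : x ^ p ^ k = 1 := by rw [← hk, pow_orderOf_eq_one]
  obtain ⟨y, z, hy, hz, hyz⟩ := h x k hx
  obtain ⟨P, hP, hP'⟩ := hy.sylow hx
  obtain ⟨R, hR, hR'⟩ := hz.sylow hx
  by_contra hc
  push Not at hc
  have e1 : P = default := by by_contra h; exact hc P h hP
  have e2 : R = default := by by_contra h; exact hc R h hR
  rw [e2, ← e1] at hR'
  obtain ⟨m, hm⟩ := P.isPGroup' ⟨y * z, mul_mem hP' hR'⟩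
  exact hyz m (congrArg Subtype.val hm)

end grp

section hom
variable {F V : Type*} [Field F] [AddCommGroup V] [Module F V]

theorem hom_mul {π : End F V} (h : π * π = π) (c d : F) :
    (1 + (c - 1) • π) * (1 + (d - 1) • π) = 1 + (c * d - 1) • π := by
  simp only [add_mul, mul_add, one_mul, mul_one, smul_mul_smul_comm, h, add_assoc, ← add_smul]
  congr 2
  ring

/-- the homology with centre `v`, axis `ker φ` and eigenvalue `c` -/
noncomputable def hml (v : V) (φ : Dual F V) (h : φ v = 1) (c : Fˣ) : (End F V)ˣ where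
  val := 1 + ((c : F) - 1) • φ.smulRight v
  inv := 1 + (((c⁻¹ : Fˣ) : F) - 1) • φ.smulRight v
  val_inv := by rw [hom_mul (by ext u; simp [h])]; simp
  inv_val := by rw [hom_mul (by ext u; simp [h])]; simp

theorem hml_apply (v : V) (φ : Dual F V) (h : φ v = 1) (c : Fˣ) (u : V) :
    (hml v φ h c : End F V) u = u + (((c : F) - 1) * φ u) • v := by
  simp [hml, mul_smul]

theorem hml_pow (v : V) (φ : Dual F V) (h : φ v = 1) (c : Fˣ) (n : ℕ) :
    hml v φ h c ^ n = hml v φ h (c ^ n) := by
  induction n with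
  | zero => ext u; simp [hml_apply]
  | succ n ih =>
    rw [pow_succ, ih]
    ext1
    simp only [Units.val_mul, hml]
    rw [hom_mul (by ext u; simp [h])]
    simp [pow_succ]

theorem good_hml {p : ℕ} (x : (End F V)ˣ) (v : V) (φ : Dual F V) (h : φ v = 1) (c : Fˣ)
    (hc : c ^ p = 1)
    (H : ∀ g ∈ Subgroup.zpowers x,
      (∃ d : F, (g : End F V) v = d • v ∧ ∀ u, φ ((g : End F V) u) = d * φ u) ∨
      (φ ((g : End F V) v) = 0 ∧ φ (((g⁻¹ : (End F V)ˣ) : End F V) v) = 0)) :
    Good p x (hml v φ h c) := by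
  refine ⟨by rw [hml_pow, hc]; ext u; simp [hml_apply], fun g hg => ?_⟩
  rcases H g hg with ⟨d, h1, h2⟩ | ⟨h1, h2⟩
  · have : g * hml v φ h c = hml v φ h c * g := by
      ext u
      simp only [Units.val_mul, End.mul_apply, hml_apply, map_add, map_smul, h1, h2, smul_smul]
      congr 2
      ring
    rw [this, mul_inv_cancel_right]
    exact Commute.refl _
  · show _ = _
    ext u
    have e : ∀ u, (g : End F V) (((g⁻¹ : (End F V)ˣ) : End F V) u) = u := fun u => by
      rw [← End.mul_apply, Units.mul_inv]; rfl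
    simp only [Units.val_mul, End.mul_apply, hml_apply, map_add, map_smul, h1, h2, e]
    module

theorem not_pelt {p : ℕ} (hp : (p : F) ≠ 0) (v w : V) (φ ψ : Dual F V) (h : φ v = 1)
    (h' : ψ w = 1) (c : Fˣ) (hc : c ≠ 1) (h1 : ψ v = 0) (h2 : φ w ≠ 0) (m : ℕ) :
    (hml v φ h c * hml w ψ h' c) ^ p ^ m ≠ 1 := by
  set T := hml v φ h c * hml w ψ h' c with hT
  have hv0 : v ≠ 0 := by rintro rfl; simp at h
  have e1 : (T : End F V) v = (c : F) • v := by
    simp only [hT, Units.val_mul, End.mul_apply, hml_apply, h, h1]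
    simp [sub_smul, h]
  have e2 : (T : End F V) w = (c : F) • w + ((c : F) * ((c - 1) * φ w)) • v := by
    simp only [hT, Units.val_mul, End.mul_apply, hml_apply, h', map_add, map_smul, smul_eq_mul]
    module
  have e3 : ∀ n : ℕ, ((T ^ n : (End F V)ˣ) : End F V) v = (c : F) ^ n • v := by
    intro n
    induction n with
    | zero => simp
    | succ n ih => rw [pow_succ', Units.val_mul, End.mul_apply, ih, map_smul, e1, smul_smul, pow_succ]
  have e4 : ∀ n : ℕ, ((T ^ n : (End F V)ˣ) : End F V) w
      = (c : F) ^ n • w + ((n : F) * (c : F) ^ n * ((c - 1) * φ w)) • v := by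
    intro n
    induction n with
    | zero => simp
    | succ n ih =>
      rw [pow_succ', Units.val_mul, End.mul_apply, ih, map_add, map_smul, map_smul, e1, e2]
      push_cast
      module
  intro hm
  have a3 := e3 (p ^ m)
  have a4 := e4 (p ^ m)
  rw [hm] at a3 a4
  simp only [Units.val_one, End.one_apply] at a3 a4
  have hc1 : (c : F) ^ p ^ m = 1 := by
    have : ((c : F) ^ p ^ m - 1) • v = 0 := by rw [sub_smul, ← a3]; simp
    exact sub_eq_zero.1 ((smul_eq_zero.1 this).resolve_right hv0)
  rw [hc1, one_smul, left_eq_add, smul_eq_zero] at a4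
  have hc' : (c : F) - 1 ≠ 0 := fun h => hc (Units.ext (sub_eq_zero.1 h))
  rcases a4 with a4 | a4
  · simp [hp, hc', h2] at a4
  · exact hv0 a4

/-- Case A1: an eigenspace of dimension at least two. -/
theorem two_of_eig {p : ℕ} (hp : (p : F) ≠ 0) (x : (End F V)ˣ) (hx : x ^ p = 1) (l : F)
    (hl : l ^ p = 1) (v w : V) (hv : (x : End F V) v = l • v) (hw : (x : End F V) w = l • w)
    (hvw : LinearIndependent F ![v, w]) (c : Fˣ) (hc : c ≠ 1) (hcp : c ^ p = 1) :
    ∃ y z, Good p x y ∧ Good p x z ∧ ∀ m, (y * z) ^ p ^ m ≠ 1 := by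
  have hp0 : p ≠ 0 := by rintro rfl; simp at hp
  have hl0 : l ≠ 0 := by rintro rfl; simp [hp0] at hl
  set e : End F V := (p : F)⁻¹ • ∑ i ∈ Finset.range p, (l⁻¹ • (x : End F V)) ^ i with he
  have hx' : (l⁻¹ • (x : End F V)) ^ p = 1 := by
    rw [_root_.smul_pow, ← Units.val_pow_eq_pow_val, hx, inv_pow, hl]; simp
  have e1 : ∀ u, (x : End F V) u = l • u → e u = u := by
    intro u hu
    have : ∀ i : ℕ, ((l⁻¹ • (x : End F V)) ^ i) u = u := by
      intro i
      induction i with
      | zero => simp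
      | succ i ih => rw [pow_succ', End.mul_apply, ih, LinearMap.smul_apply, hu, smul_smul,
          inv_mul_cancel₀ hl0, one_smul]
    simp only [he, LinearMap.smul_apply, LinearMap.coe_sum, Finset.sum_apply, this,
      Finset.sum_const, Finset.card_range]
    rw [← Nat.cast_smul_eq_nsmul F, smul_smul, inv_mul_cancel₀ hp, one_smul]
  have e2 : e * (x : End F V) = l • e := by
    have h1 := geom_sum_mul (l⁻¹ • (x : End F V)) p
    rw [hx', sub_self, mul_sub, mul_one, sub_eq_zero] at h1
    have h2 : (x : End F V) = l • (l⁻¹ • (x : End F V)) := by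
      rw [smul_smul, mul_inv_cancel₀ hl0, one_smul]
    rw [he, smul_mul_assoc]
    conv_lhs => rw [h2, mul_smul_comm]
    rw [← h2, h1, smul_comm]
  have hpair := LinearIndependent.pair_iff.1 hvw
  have ex : ∀ v w : V, (∀ s t : F, s • v + t • w = 0 → s = 0 ∧ t = 0) →
      ∃ f : Dual F V, f v = 1 ∧ f w = 0 := by
    intro v w h
    have hn : v ∉ Submodule.span F {w} := by
      intro hm
      obtain ⟨a, ha⟩ := Submodule.mem_span_singleton.1 hm
      have := (h 1 (-a) (by rw [← ha]; simp)).1
      exact one_ne_zero this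
    obtain ⟨f, hf, hf'⟩ := Submodule.exists_dual_map_eq_bot_of_notMem hn inferInstance
    refine ⟨(f v)⁻¹ • f, by simp [hf], ?_⟩
    have : f w ∈ (Submodule.span F {w}).map f :=
      Submodule.mem_map_of_mem (Submodule.mem_span_singleton_self w)
    rw [hf'] at this
    simp [(Submodule.mem_bot F).1 this]
  obtain ⟨f, hf, hf'⟩ := ex v w hpair
  obtain ⟨g, hg, hg'⟩ := ex w v fun s t h => (hpair t s (by rw [add_comm]; exact h)).symm
  have good : ∀ (u : V) (φ : Dual F V) (h : (φ ∘ₗ e) u = 1), (x : End F V) u = l • u →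
      Good p x (hml u (φ ∘ₗ e) h c) := by
    intro u φ h hu
    refine good_hml x u _ h c hcp fun a ha => Or.inl ?_
    have hfin : IsOfFinOrder x := isOfFinOrder_iff_pow_eq_one.2 ⟨p, Nat.pos_of_ne_zero hp0, hx⟩
    obtain ⟨n, rfl⟩ := hfin.mem_powers_iff_mem_zpowers.2 ha
    refine ⟨l ^ n, ?_, ?_⟩
    · clear ha
      induction n with
      | zero => simp
      | succ n ih =>
        simp only at ih ⊢
        rw [pow_succ', Units.val_mul, End.mul_apply, ih, map_smul, hu, smul_smul, pow_succ]
    · clear ha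
      induction n with
      | zero => simp
      | succ n ih =>
        intro t
        simp only at ih ⊢
        have := congrArg (fun T : End F V => φ (T (((x ^ n : (End F V)ˣ) : End F V) t))) e2
        simp only [End.mul_apply, LinearMap.smul_apply, map_smul, smul_eq_mul] at this
        have ih' := ih t
        rw [LinearMap.comp_apply] at ih'
        rw [pow_succ', Units.val_mul, End.mul_apply, LinearMap.comp_apply, this, ih', pow_succ']
        ring
  have a1 : ((f + g) ∘ₗ e) v = 1 := by simp [e1 v hv, hf, hg']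
  have a2 : (g ∘ₗ e) w = 1 := by simp [e1 w hw, hg]
  refine ⟨_, _, good v _ a1 hv, good w _ a2 hw, not_pelt hp v w _ _ a1 a2 c hc ?_ ?_⟩
  · simp [e1 v hv, hg']
  · simp [e1 w hw, hg, hf']

/-- goodness of the homology attached to a cyclic vector -/
theorem good_cyc {p : ℕ} (hp0 : 0 < p) (x : (End F V)ˣ) (z : F) (hz : z ^ p = 1)
    (hx : (x : End F V) ^ p = z • 1) (v : V) (φ : Dual F V) (h : φ v = 1)
    (h0 : ∀ i, 0 < i → i < p → φ (((x : End F V) ^ i) v) = 0) (c : Fˣ) (hcp : c ^ p = 1) :
    Good p x (hml v φ h c) := by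
  have hfin : IsOfFinOrder x := isOfFinOrder_iff_pow_eq_one.2 ⟨p * p, Nat.mul_pos hp0 hp0, by
    ext1
    rw [Units.val_pow_eq_pow_val, pow_mul, hx, _root_.smul_pow, hz]; simp⟩
  have dec : ∀ g ∈ Subgroup.zpowers x, ∃ (d : F) (i : ℕ), i < p ∧
      (g : End F V) = d • (x : End F V) ^ i := by
    intro g hg
    obtain ⟨n, rfl⟩ := hfin.mem_powers_iff_mem_zpowers.2 hg
    refine ⟨z ^ (n / p), n % p, Nat.mod_lt _ hp0, ?_⟩
    simp only [Units.val_pow_eq_pow_val]
    conv_lhs => rw [← Nat.div_add_mod n p, pow_add, pow_mul, hx, _root_.smul_pow]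
    simp
  refine good_hml x v φ h c hcp fun g hg => ?_
  obtain ⟨d, i, hi, hd⟩ := dec g hg
  obtain ⟨d', j, hj, hd'⟩ := dec g⁻¹ (inv_mem hg)
  rcases Nat.eq_zero_or_pos i with rfl | hi0
  · left
    exact ⟨d, by simp [hd], fun u => by simp [hd]⟩
  rcases Nat.eq_zero_or_pos j with rfl | hj0
  · left
    have e : ∀ u, d' • (g : End F V) u = u := fun u => by
      have : ((g⁻¹ : (End F V)ˣ) : End F V) ((g : End F V) u) = u := by
        rw [← End.mul_apply, Units.inv_mul]; rfl
      rw [hd'] at this
      simpa using this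
    have hd0 : d' ≠ 0 := by
      rintro rfl
      have := e v
      rw [zero_smul] at this
      rw [← this] at h
      simp at h
    have e' : ∀ u, (g : End F V) u = d'⁻¹ • u := fun u => by
      conv_rhs => rw [← e u, smul_smul, inv_mul_cancel₀ hd0, one_smul]
    exact ⟨d'⁻¹, e' v, fun u => by rw [e', map_smul, smul_eq_mul]⟩
  · right
    rw [hd, hd']
    simp [h0 i hi0 hi, h0 j hj0 hj]

theorem hml_conj (v : V) (φ : Dual F V) (h : φ v = 1) (c : Fˣ) (a : (End F V)ˣ)
    (h' : (φ ∘ₗ ((a⁻¹ : (End F V)ˣ) : End F V)) ((a : End F V) v) = 1) :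
    a * hml v φ h c * a⁻¹ = hml ((a : End F V) v) (φ ∘ₗ ((a⁻¹ : (End F V)ˣ) : End F V)) h' c := by
  ext u
  have e : ∀ u, (a : End F V) (((a⁻¹ : (End F V)ˣ) : End F V) u) = u := fun u => by
    rw [← End.mul_apply, Units.mul_inv]; rfl
  simp only [Units.val_mul, End.mul_apply, hml_apply, map_add, map_smul, e, LinearMap.comp_apply]

/-- Cyclic case. -/
theorem two_of_cyc {p : ℕ} (hp3 : 3 ≤ p) (hodd : Odd p) (hp : (p : F) ≠ 0) (x : (End F V)ˣ) (z : F)
    (hz : z ^ p = 1) (hx : (x : End F V) ^ p = z • 1) (v : V) (b : Basis (Fin p) F V)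
    (hb : ∀ i : Fin p, b i = ((x : End F V) ^ (i : ℕ)) v) (c : Fˣ) (hc : c ≠ 1) (hcp : c ^ p = 1) :
    ∃ y z, Good p x y ∧ Good p x z ∧ ∀ m, (y * z) ^ p ^ m ≠ 1 := by
  classical
  have hp0 : 0 < p := by omega
  have hz0 : z ≠ 0 := by rintro rfl; simp [hp0.ne'] at hz
  set φ : Dual F V := b.coord ⟨0, hp0⟩ with hφ
  have hv : b ⟨0, hp0⟩ = v := by rw [hb]; simp
  have h : φ v = 1 := by rw [← hv]; simp [hφ]
  have h0 : ∀ i, 0 < i → i < p → φ (((x : End F V) ^ i) v) = 0 := by
    intro i hi hi'
    have := hb ⟨i, hi'⟩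
    simp only at this
    rw [← this, hφ, Basis.coord_apply, Basis.repr_self, Finsupp.single_eq_of_ne]
    intro h
    have := congrArg Fin.val h
    simp only at this
    omega
  have gy := good_cyc hp0 x z hz hx v φ h h0 c hcp
  by_cases h1 : 1 + z = 0
  · have hz1 : z = -1 := by linear_combination h1
    have h2 : (2 : F) = 0 := by
      rw [hz1, hodd.neg_one_pow] at hz
      linear_combination -hz
    have hz1 : z = 1 := by linear_combination hz1 - h2
    have hp1 : (p : F) = 1 := by
      obtain ⟨k, rfl⟩ := hodd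
      push_cast
      rw [h2]; ring
    rw [hz1, one_smul] at hx
    set e : V := ∑ i, b i with he
    set ε : Dual F V := b.sumCoords with hε
    have hεb : ∀ i, ε (b i) = 1 := fun i => by simp [hε]
    have hεe : ε e = 1 := by simp [he, hεb, hp1]
    have hεx : ∀ n : ℕ, ε (((x : End F V) ^ n) v) = 1 := by
      intro n
      have := hb ⟨n % p, Nat.mod_lt _ hp0⟩
      simp only at this
      conv_lhs => rw [← Nat.div_add_mod n p, pow_add, pow_mul, hx, one_pow, one_mul, ← this, hεb]
    have he' : e = (∑ i ∈ Finset.range p, (x : End F V) ^ i) v := by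
      simp only [he, hb, LinearMap.coe_sum, Finset.sum_apply]
      exact Fin.sum_univ_eq_sum_range (fun i => ((x : End F V) ^ i) v) p
    have hxe : (x : End F V) e = e := by
      have h1 := mul_geom_sum (x : End F V) p
      rw [hx, sub_self, sub_mul, one_mul, sub_eq_zero] at h1
      rw [he', ← End.mul_apply, h1]
    have hεx' : ε ∘ₗ (x : End F V) = ε := by
      apply b.ext
      intro i
      rw [LinearMap.comp_apply, hεb, hb, ← End.mul_apply, ← pow_succ', hεx]
    have gz : Good p x (hml e ε hεe c⁻¹) := by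
      refine good_hml x e ε hεe c⁻¹ (by rw [inv_pow, hcp, inv_one]) fun a ha => Or.inl ⟨1, ?_⟩
      have hfin : IsOfFinOrder x := isOfFinOrder_iff_pow_eq_one.2 ⟨p, hp0, by
        ext1; rw [Units.val_pow_eq_pow_val, hx]; rfl⟩
      obtain ⟨n, rfl⟩ := hfin.mem_powers_iff_mem_zpowers.2 ha
      clear ha
      induction n with
      | zero => simp
      | succ n ih =>
        simp only [one_smul, one_mul] at ih ⊢
        refine ⟨by rw [pow_succ', Units.val_mul, End.mul_apply, ih.1, hxe], fun u => ?_⟩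
        rw [pow_succ', Units.val_mul, End.mul_apply, ← ih.2 u]
        exact LinearMap.congr_fun hεx' _
    refine ⟨_, _, gy, gz, fun m hm => ?_⟩
    set T := hml v φ h c * hml e ε hεe c⁻¹ with hT
    have hφe : φ e = 1 := by
      simp only [he, map_sum, hφ, Basis.coord_apply, Basis.repr_self]
      rw [Finset.sum_eq_single ⟨0, hp0⟩] <;> simp +contextual [Finsupp.single_apply]
    have hεv : ε v = 1 := by rw [← hv, hεb]
    have hcc : (c : F) * ((c⁻¹ : Fˣ) : F) = 1 := by simp
    set d : F := ((c⁻¹ : Fˣ) : F) with hd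
    have t1 : (T : End F V) v = d • v + (d - 1) • e := by
      simp only [hT, Units.val_mul, End.mul_apply, hml_apply, map_add, map_smul, h, hφe, hεv, ← hd]
      match_scalars
      · linear_combination hcc + (1 - d) * h2
      · ring
    have t2 : (T : End F V) e = d • e + (d * (c - 1)) • v := by
      simp only [hT, Units.val_mul, End.mul_apply, hml_apply, map_add, map_smul, hφe, hεe, ← hd]
      match_scalars
      · ring
      · ring
    have t3 : (T : End F V) ((T : End F V) v) = v := by
      rw [t1, map_add, map_smul, map_smul, t1, t2]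
      match_scalars
      · linear_combination (d - 1) * hcc + (d - 1) * h2
      · linear_combination (d * (d - 1)) * h2
    have t4 : ∀ k : ℕ, ((T ^ (2 * k + 1) : (End F V)ˣ) : End F V) v = (T : End F V) v := by
      intro k
      induction k with
      | zero => simp
      | succ k ih =>
        rw [show 2 * (k + 1) + 1 = 2 * k + 1 + 1 + 1 by ring, pow_succ, pow_succ, Units.val_mul,
          Units.val_mul, End.mul_apply, End.mul_apply, t3, ih]
    obtain ⟨k, hk⟩ := (hodd.pow : Odd (p ^ m))
    have t5 := t4 k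
    rw [← hk, hm, t1] at t5
    have t6 := congrArg (b.coord ⟨1, by omega⟩) t5
    have c1 : b.coord ⟨1, by omega⟩ v = 0 := by
      rw [← hv, Basis.coord_apply, Basis.repr_self, Finsupp.single_eq_of_ne]
      simp
    have c2 : b.coord ⟨1, by omega⟩ e = 1 := by
      simp only [he, map_sum, Basis.coord_apply, Basis.repr_self]
      rw [Finset.sum_eq_single ⟨1, by omega⟩] <;> simp +contextual [Finsupp.single_apply]
    simp only [Units.val_one, End.one_apply, map_add, map_smul, c1, c2, smul_eq_mul] at t6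
    apply hc
    ext
    have : d = 1 := by linear_combination -t6
    rw [this, mul_one] at hcc
    simpa using hcc
  · set s : End F V := ∑ i ∈ Finset.range p, (-(x : End F V)) ^ i with hs
    have hxp : (-(x : End F V)) ^ p - 1 = -((1 + z) • 1) := by
      rw [hodd.neg_pow, hx]; module
    have s1 : (1 + (x : End F V)) * s = (1 + z) • 1 := by
      have := mul_geom_sum (-(x : End F V)) p
      rw [hxp, ← hs] at this
      rw [← neg_inj, ← this, ← neg_mul]; congr 1; abel
    have s2 : s * (1 + (x : End F V)) = (1 + z) • 1 := by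
      have := geom_sum_mul (-(x : End F V)) p
      rw [hxp, ← hs] at this
      rw [← neg_inj, ← this, ← mul_neg]; congr 1; abel
    let u : (End F V)ˣ := ⟨1 + x, (1 + z)⁻¹ • s,
      by rw [mul_smul_comm, s1, smul_smul, inv_mul_cancel₀ h1, one_smul],
      by rw [smul_mul_assoc, s2, smul_smul, inv_mul_cancel₀ h1, one_smul]⟩
    have hu : Commute u x := by
      show _ = _
      ext1
      simp only [Units.val_mul, u, add_mul, mul_add, one_mul, mul_one]
    set a : (End F V)ˣ := (x * u)⁻¹ with ha
    have hax : Commute a x := ((Commute.refl x).mul_left hu).inv_left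
    have h' : (φ ∘ₗ ((a⁻¹ : (End F V)ˣ) : End F V)) ((a : End F V) v) = 1 := by
      rw [LinearMap.comp_apply, ← End.mul_apply, Units.inv_mul]; exact h
    have gz := gy.conj hax
    rw [hml_conj v φ h c a h'] at gz
    refine ⟨_, _, gy, gz, not_pelt hp v _ φ _ h h' c hc ?_ ?_⟩
    · have a1 := h0 1 one_pos (by omega)
      have a2 := h0 2 two_pos (by omega)
      rw [pow_one] at a1
      rw [pow_two, End.mul_apply] at a2
      simp [ha, u, a1, a2]
    · have hxi : ((x⁻¹ : (End F V)ˣ) : End F V) = z⁻¹ • (x : End F V) ^ (p - 1) := by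
        rw [Units.inv_eq_of_mul_eq_one_right]
        rw [mul_smul_comm, ← pow_succ', Nat.sub_add_cancel hp0, hx, smul_smul,
          inv_mul_cancel₀ hz0, one_smul]
      have hui : ((u⁻¹ : (End F V)ˣ) : End F V) = (1 + z)⁻¹ • s := rfl
      have key : φ (s (((x : End F V) ^ (p - 1)) v)) = -z := by
        simp only [hs, LinearMap.coe_sum, Finset.sum_apply, map_sum]
        have t : ∀ i : ℕ, φ (((-(x : End F V)) ^ i) (((x : End F V) ^ (p - 1)) v))
            = (-1) ^ i * φ (((x : End F V) ^ (i + (p - 1))) v) := by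
          intro i
          rw [← neg_one_smul F (x : End F V), _root_.smul_pow, LinearMap.smul_apply, map_smul,
            ← End.mul_apply, ← pow_add, smul_eq_mul]
        simp only [t]
        rw [Finset.sum_eq_single 1]
        · rw [show 1 + (p - 1) = p by omega, hx]; simp [h]
        · intro i hi hi1
          rw [Finset.mem_range] at hi
          rcases Nat.eq_zero_or_pos i with rfl | hi0
          · rw [h0 _ (by omega) (by omega), mul_zero]
          · rw [show i + (p - 1) = p + (i - 1) by omega, pow_add, hx, End.mul_apply]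
            simp [h0 (i - 1) (by omega) (by omega)]
        · intro h; exact absurd (Finset.mem_range.2 (by omega)) h
      rw [ha, mul_inv_rev, Units.val_mul, End.mul_apply, hxi, hui]
      simp only [LinearMap.smul_apply, map_smul, key, smul_eq_mul]
      simp [hz0, h1]

theorem li_of {p : ℕ} (x : End F V) (v : V)
    (H : ∀ P : F[X], P.degree < p → aeval x P v = 0 → P = 0) :
    LinearIndependent F (fun i : Fin p => (x ^ (i : ℕ)) v) := by
  classical
  rw [Fintype.linearIndependent_iff]
  intro g hg i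
  have h := H (∑ i : Fin p, C (g i) * X ^ (i : ℕ)) (degree_sum_fin_lt g) (by
    simp only [map_sum, map_mul, aeval_C, map_pow, aeval_X, LinearMap.coe_sum, Finset.sum_apply,
      End.mul_apply, Module.algebraMap_end_apply]
    exact hg)
  have := congrArg (fun P : F[X] => P.coeff i) h
  simp only [finsetSum_coeff, coeff_C_mul_X_pow, coeff_zero, Fin.val_inj] at this
  simpa using this

variable [FiniteDimensional F V]

theorem charpoly_of_sq {p : ℕ} (hp : p.Prime) (hdim : finrank F V = p) {ζ : F}
    (hζ : IsPrimitiveRoot ζ p) (hF : ∀ (a : F) (k : ℕ), a ^ p ^ k = 1 → a ^ p = 1) (u : End F V)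
    (hu : (u ^ p) ^ p = 1) : u ^ p = 1 ∨ ∃ z : F, z ≠ 1 ∧ z ^ p = 1 ∧ u.charpoly = X ^ p - C z := by
  classical
  have h1 := congrArg (fun P : F[X] => P.comp (X ^ p)) (X_pow_sub_C_eq_prod hζ hp.pos (one_pow p))
  simp only [sub_comp, pow_comp, X_comp, C_comp, Polynomial.prod_comp, mul_one] at h1
  have h2 : minpoly F u ∣ (X ^ p) ^ p - C 1 := minpoly.dvd _ _ (by simp [hu])
  rw [h1, ← Finset.mul_prod_erase _ _ (Finset.mem_range.2 hp.pos)] at h2
  by_cases hc : ∀ i ∈ (Finset.range p).erase 0, IsCoprime (minpoly F u) (X ^ p - C (ζ ^ i))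
  · left
    have h3 := (IsCoprime.prod_right hc).dvd_of_dvd_mul_right h2
    have := aeval_eq_zero_of_dvd_aeval_eq_zero h3 (minpoly.aeval F u)
    simpa [sub_eq_zero] using this
  · right
    push Not at hc
    obtain ⟨i, hi, hc⟩ := hc
    rw [Finset.mem_erase, Finset.mem_range] at hi
    have hz1 : ζ ^ i ≠ 1 := hζ.pow_ne_one_of_pos_of_lt hi.1 hi.2
    have hzp : (ζ ^ i) ^ p = 1 := by rw [← pow_mul, mul_comm, pow_mul, hζ.pow_eq_one, one_pow]
    have hirr : Irreducible (X ^ p - C (ζ ^ i) : F[X]) := X_pow_sub_C_irreducible_of_prime hp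
      fun b hb => hz1 (by rw [← hb]; exact hF b 2 (by rw [pow_two, pow_mul, hb, hzp]))
    have h4 : X ^ p - C (ζ ^ i) ∣ minpoly F u := by
      by_contra h
      exact hc (hirr.coprime_iff_not_dvd.2 h).symm
    refine ⟨_, hz1, hzp, eq_of_monic_of_dvd_of_natDegree_le (monic_X_pow_sub_C _ hp.ne_zero)
      u.charpoly_monic (h4.trans (LinearMap.minpoly_dvd_charpoly u)) ?_⟩
    rw [u.charpoly_natDegree, natDegree_X_pow_sub_C, hdim]

theorem dichotomy {p : ℕ} (hp : p.Prime) (hodd : Odd p) (hdim : finrank F V = p) {ζ : F}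
    (hζ : IsPrimitiveRoot ζ p) (hF : ∀ (a : F) (k : ℕ), a ^ p ^ k = 1 → a ^ p = 1) :
    ∀ (k : ℕ) (u : End F V), u ^ p ^ k = 1 →
      u ^ p = 1 ∨ ∃ z : F, z ≠ 1 ∧ z ^ p = 1 ∧ u.charpoly = X ^ p - C z := by
  intro k
  induction k with
  | zero => intro u hu; left; rw [pow_zero, pow_one] at hu; rw [hu, one_pow]
  | succ k ih =>
    intro u hu
    rcases ih (u ^ p) (by rw [← pow_mul, ← pow_succ', hu]) with h | ⟨z, hz, -, h⟩
    · exact charpoly_of_sq hp hdim hζ hF u h
    · exfalso
      have h1 := LinearMap.det_eq_sign_charpoly_coeff (u ^ p)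
      rw [h, hdim, hodd.neg_one_pow, map_pow, hF _ (k + 1) (by rw [← map_pow, hu, map_one])] at h1
      simp [coeff_X_pow, hp.ne_zero.symm] at h1
      exact hz h1.symm

theorem two {p : ℕ} (hp : p.Prime) (hp2 : p ≠ 2) (hp0 : (p : F) ≠ 0) (hdim : finrank F V = p)
    {ζ : F} (hζ : IsPrimitiveRoot ζ p) (hF : ∀ (a : F) (k : ℕ), a ^ p ^ k = 1 → a ^ p = 1) :
    Two p (End F V)ˣ := by
  classical
  have hodd := hp.odd_of_ne_two hp2
  have hp3 : 3 ≤ p := by have := hp.two_le; omega
  haveI : NeZero p := ⟨hp.ne_zero⟩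
  have hζ0 : ζ ≠ 0 := hζ.ne_zero hp.ne_zero
  set c : Fˣ := Units.mk0 ζ hζ0 with hc
  have hc1 : c ≠ 1 := fun h => hζ.ne_one hp.one_lt (by simpa [hc] using congrArg Units.val h)
  have hcp : c ^ p = 1 := by ext; simp [hc, hζ.pow_eq_one]
  intro x k hx
  have cyc : ∀ (z : F) (v : V), z ^ p = 1 → (x : End F V) ^ p = z • 1 →
      (∀ P : F[X], P.degree < p → aeval (x : End F V) P v = 0 → P = 0) →
      ∃ y z, Good p x y ∧ Good p x z ∧ ∀ m, (y * z) ^ p ^ m ≠ 1 := by
    intro z v hz hxz H
    have li := li_of (x : End F V) v H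
    exact two_of_cyc hp3 hodd hp0 x z hz hxz v
      (basisOfLinearIndependentOfCardEqFinrank li (by simp [hdim])) (by simp) c hc1 hcp
  rcases dichotomy hp hodd hdim hζ hF k (x : End F V)
    (by rw [← Units.val_pow_eq_pow_val, hx]; rfl) with h | ⟨z, hz1, hz, h⟩
  · have hx1 : x ^ p = 1 := by ext1; rw [Units.val_pow_eq_pow_val, h]; rfl
    have hzp : ∀ i : ℕ, (ζ ^ i) ^ p = 1 := fun i => by
      rw [← pow_mul, mul_comm, pow_mul, hζ.pow_eq_one, one_pow]
    set E : Fin p → Submodule F V := fun j => End.eigenspace (x : End F V) (ζ ^ (j : ℕ)) with hE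
    by_cases h2 : ∃ j, 2 ≤ finrank F (E j)
    · obtain ⟨j, hj⟩ := h2
      obtain ⟨f, hf⟩ := exists_linearIndependent_of_le_finrank hj
      have hf' := hf.map' (E j).subtype (Submodule.ker_subtype _)
      refine two_of_eig hp0 x hx1 (ζ ^ (j : ℕ)) (hzp j) (f 0) (f 1)
        (End.mem_eigenspace_iff.1 (f 0).2) (End.mem_eigenspace_iff.1 (f 1).2) ?_ c hc1 hcp
      have e : ![((f 0 : E j) : V), ((f 1 : E j) : V)] = (E j).subtype ∘ f := by
        ext i
        fin_cases i <;> rfl
      rw [e]; exact hf'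
    push Not at h2
    -- the eigenspaces span
    have hsurj : Function.Surjective (∑ j : Fin p, (E j).subtype ∘ₗ LinearMap.proj j :
        (∀ j, E j) →ₗ[F] V) := by
      intro v
      have mem : ∀ j : Fin p, (∑ i ∈ Finset.range p, ((ζ ^ (j : ℕ))⁻¹ • (x : End F V)) ^ i) v
          ∈ E j := by
        intro j
        have hl0 : ζ ^ (j : ℕ) ≠ 0 := pow_ne_zero _ hζ0
        have h1 := mul_geom_sum ((ζ ^ (j : ℕ))⁻¹ • (x : End F V)) p
        rw [_root_.smul_pow, h, inv_pow, hzp, inv_one, one_smul, sub_self, sub_mul, one_mul,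
          sub_eq_zero] at h1
        rw [hE, End.mem_eigenspace_iff]
        conv_rhs => rw [← h1, End.mul_apply, LinearMap.smul_apply, smul_smul,
          mul_inv_cancel₀ hl0, one_smul]
      refine ⟨fun j => (p : F)⁻¹ • ⟨_, mem j⟩, ?_⟩
      simp only [LinearMap.coe_sum, Finset.sum_apply, LinearMap.comp_apply, LinearMap.proj_apply,
        Submodule.subtype_apply, SetLike.val_smul, ← Finset.smul_sum, _root_.smul_pow,
        LinearMap.smul_apply]
      rw [Finset.sum_comm]
      simp only [← Finset.sum_smul]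
      rw [Finset.sum_eq_single 0]
      · simp [smul_smul, hp0]
      · intro i hi hi0
        rw [Finset.mem_range] at hi
        have hprim : IsPrimitiveRoot (ζ⁻¹ ^ i) p :=
          hζ.inv.pow_of_coprime i ((Nat.coprime_of_lt_prime hi0 hi hp).symm)
        have := hprim.geom_sum_eq_zero hp.one_lt
        rw [← Fin.sum_univ_eq_sum_range (fun j => (ζ⁻¹ ^ i) ^ j) p] at this
        have e : ∑ j : Fin p, (ζ ^ (j : ℕ))⁻¹ ^ i = 0 := by
          rw [← this]
          refine Finset.sum_congr rfl fun j _ => ?_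
          rw [← inv_pow, ← pow_mul, ← pow_mul, mul_comm]
        rw [e, zero_smul]
      · intro h; exact absurd (Finset.mem_range.2 hp.pos) h
    have hle := LinearMap.finrank_le_finrank_of_surjective hsurj
    rw [Module.finrank_pi_fintype, hdim] at hle
    have hone : ∀ j, finrank F (E j) = 1 := by
      have : ∑ j, finrank F (E j) = ∑ _j : Fin p, 1 := le_antisymm
        (Finset.sum_le_sum fun j _ => by have := h2 j; omega) (by simpa using hle)
      intro j
      exact (Finset.sum_eq_sum_iff_of_le fun j _ => by have := h2 j; omega).1 this j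
        (Finset.mem_univ _)
    have hex : ∀ j, ∃ u ∈ E j, u ≠ 0 := fun j =>
      Submodule.exists_mem_ne_zero_of_ne_bot (fun h0 => by
        have := hone j
        rw [h0, finrank_bot] at this
        exact zero_ne_one this)
    choose u hu hu0 using hex
    have hinj : Function.Injective fun j : Fin p => ζ ^ (j : ℕ) := fun i j h =>
      Fin.ext (hζ.pow_inj i.2 j.2 h)
    have hev : ∀ j, End.HasEigenvector (x : End F V) (ζ ^ ((j : Fin p) : ℕ)) (u j) :=
      fun j => ⟨hu j, hu0 j⟩
    have li := End.eigenvectors_linearIndependent' (x : End F V) _ hinj u hev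
    refine cyc 1 (∑ j, u j) (one_pow p) (by rw [h, one_smul]) fun P hP hPv => ?_
    rw [map_sum] at hPv
    simp only [End.aeval_apply_of_hasEigenvector (hev _)] at hPv
    have h0 := Fintype.linearIndependent_iff.1 li _ hPv
    by_cases hP0 : P = 0
    · exact hP0
    exact eq_zero_of_natDegree_lt_card_of_eval_eq_zero P hinj h0
      (by rw [Fintype.card_fin]; exact (natDegree_lt_iff_degree_lt hP0).2 hP)
  · have hxz : (x : End F V) ^ p = z • 1 := by
      have := LinearMap.aeval_self_charpoly (x : End F V)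
      rw [h] at this
      simpa [sub_eq_zero, Algebra.algebraMap_eq_smul_one] using this
    have hirr : Irreducible (X ^ p - C z : F[X]) := X_pow_sub_C_irreducible_of_prime hp
      fun b hb => hz1 (by rw [← hb]; exact hF b 2 (by rw [pow_two, pow_mul, hb, hz]))
    haveI : Nontrivial V := Module.nontrivial_of_finrank_pos (R := F) (by rw [hdim]; exact hp.pos)
    obtain ⟨v, hv⟩ := exists_ne (0 : V)
    refine cyc z v hz hxz fun P hP hPv => ?_
    by_contra hP0
    have hnd : ¬ X ^ p - C z ∣ P := fun hd => by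
      have := degree_le_of_dvd hd hP0
      rw [degree_X_pow_sub_C hp.pos] at this
      exact absurd hP (not_lt.2 this)
    obtain ⟨a, b, hab⟩ := hirr.coprime_iff_not_dvd.2 hnd
    have := congrArg (fun Q : F[X] => aeval (x : End F V) Q v) hab
    simp only [map_add, map_mul, LinearMap.add_apply, End.mul_apply, hPv, map_zero, map_one,
      End.one_apply, ← h, LinearMap.aeval_self_charpoly, LinearMap.zero_apply, add_zero] at this
    exact hv this.symm

end hom

end H2.Red
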