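import Cfsg.Agent.H21.Act
import Cfsg.Agent.H1.Solv2
import Cfsg.Agent.H2.FTCop

/-! Schmidt's theorem on minimal non-nilpotent groups in the vocabulary of `H18`: `schmidt_solv`, `schmidt_struct`
(`K = P Q`, `P` cyclic Sylow `p`, `Q` normal Sylow `q`, `P` does not centralize `Q`), `cop_bot_left`. -/

set_option autoImplicit false

namespace H2
open Cfsg Subgroup H18 H1
universe u
variable {G : Type u} [Group G] [Finite G] {H K P Q : Subgroup G} {p q : ℕ}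

omit [Finite G] in
theorem cop_bot_left : H1.Cop (⊥ : Subgroup G) K := ⟨bot_le, by simp, Or.inl solv_bot⟩

theorem schmidt_solv (h : ∀ H, H < K → Nil H) : Solv K :=
  H21.solv_of_inv_nil cop_bot_left fun H h1 h2 _ => h H (lt_of_le_of_ne h1 h2)

theorem schmidt_struct (h : ∀ H, H < K → Nil H) (hn : ¬ Nil K) :
    ∃ p q P Q, p.Prime ∧ q.Prime ∧ p ≠ q ∧ Hall {p} P K ∧ Hall {q} Q K ∧ Q ⊴ K ∧ P ⊔ Q = K ∧ Cyc P ∧ ¬ P ≤ C(Q) := by
  obtain ⟨p, q, P, Q, hp, hq, ne, -, hP, hQ, nQ, -, e⟩ :=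
    H21.inv_schmidt cop_bot_left (fun H h1 h2 _ => h H (lt_of_le_of_ne h1 h2)) hn
  have nc : ¬ P ≤ C(Q) := fun c => hn (e ▸ Nil.sup_cent hP.pi.nil hQ.pi.nil c)
  refine ⟨p, q, P, Q, hp, hq, ne, hP, hQ, nQ, e, ?_, nc⟩
  obtain ⟨x, hx, hc⟩ := SetLike.not_le_iff_exists.1 nc
  have hz : zpowers x ≤ P := zpowers_le.2 hx
  have hq' : PiGrp {p}ᶜ Q := hQ.pi.p'_of_ne ne.symm
  have e2 : zpowers x ⊔ Q = K := by
    by_contra h3
    have := h _ (lt_of_le_of_ne (sup_le (hz.trans hP.le) hQ.le) h3)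
    exact hc (this.cent_pi le_sup_left le_sup_right (hP.pi.of_le hz) hq' (mem_zpowers x))
  have n2 : Nrm2 (zpowers x) Q := nQ.nrm2' (hz.trans hP.le)
  have : P = zpowers x := by
    have h4 := n2.modular_left hz
    rw [e2, inf_eq_left.2 hP.le, hP.pi.inf_eq_bot hq', sup_bot_eq] at h4
    exact h4
  rw [this]; exact cyc_zpowers

end H2
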