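import Cfsg.Agent.H2.Sm1
import Cfsg.Agent.H3.Tate
import Cfsg.Agent.S0132

/-! Schmidt groups, part 2: eigenvectors, invariant alternating maps on `F_p(β)`, and the structure
of a minimal non-`p`-nilpotent group. -/

namespace H2.Sm
open Cfsg Subgroup Polynomial

variable {p : ℕ} [Fact p.Prime] {K : Type*} [Field K]

theorem exists_eig {W : Type*} [AddCommGroup W] [Module K W] [Nontrivial W] (T : Module.End K W)
    {ζ : K} {q : ℕ} (hq : 0 < q) (hζ : IsPrimitiveRoot ζ q) (hT : T ^ q = 1) :
    ∃ β : K, β ^ q = 1 ∧ ∃ w : W, w ≠ 0 ∧ T w = β • w := by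
  classical
  by_contra hcon
  push Not at hcon
  have key : ∀ s : Finset K, (∀ b ∈ s, b ^ q = 1) →
      Function.Injective (aeval T (∏ b ∈ s, (X - C b))) := by
    intro s
    induction s using Finset.induction_on with
    | empty => intro _ a b hab; simpa using hab
    | insert b s hb ih =>
      intro hs
      rw [Finset.prod_insert hb, map_mul]
      have h1 : Function.Injective (aeval T (X - C b)) := by
        rw [injective_iff_map_eq_zero]
        intro w hw
        by_contra hne
        apply hcon b (hs b (Finset.mem_insert_self _ _)) w hne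
        simpa [sub_eq_zero, Module.algebraMap_end_apply] using hw
      exact h1.comp (ih fun c hc => hs c (Finset.mem_insert_of_mem hc))
  have h1 := key (nthRootsFinset q (1 : K)) (fun b hb => (mem_nthRootsFinset hq _).1 hb)
  rw [← X_pow_sub_one_eq_prod hq hζ] at h1
  obtain ⟨w, hw⟩ := exists_ne (0 : W)
  apply hw
  apply h1
  simp [hT]

theorem bil [Finite K] [CharP K p] {q a : ℕ} (hq : q ≠ 0) (hirr : Irr K q)
    (hK : Nat.card K = p ^ a) {β : K} (hβ : β ^ q = 1) (hβ1 : β ≠ 1) {W : Type*} [AddCommGroup W]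
    (B : K →+ K →+ W) (halt : ∀ u, B u u = 0) (hinv : ∀ u v, B (β * u) (β * v) = B u v) :
    (∀ u v, B u v ∈ (B 1).range) ∧ Nat.card (B 1).range ^ 2 ≤ p ^ a ∧
      (a % 2 = 1 → ∀ u v, B u v = 0) := by
  have hp : p.Prime := Fact.out
  have hβ0 : β ≠ 0 := by rintro rfl; simp [hq] at hβ
  have hskew : ∀ u v, B u v = -B v u := by
    intro u v
    have := halt (u + v)
    simp only [map_add, AddMonoidHom.add_apply, halt, zero_add, add_zero] at this
    rw [eq_neg_iff_add_eq_zero, add_comm, this]
  have hinv' : ∀ u v, B (β * u) v = B u (β⁻¹ * v) := by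
    intro u v
    rw [← hinv u (β⁻¹ * v), mul_inv_cancel_left₀ hβ0]
  have h1 : ∀ u v, B u v ∈ (B 1).range := by
    let U : AddSubgroup K :=
      { carrier := {u | ∀ v, B u v ∈ (B 1).range}
        zero_mem' := fun v => by simp
        add_mem' := fun {a b} ha hb v => by
          rw [map_add, AddMonoidHom.add_apply]; exact add_mem (ha v) (hb v)
        neg_mem' := fun {a} ha v => by
          rw [map_neg, AddMonoidHom.neg_apply]; exact neg_mem (ha v) }
    rcases hirr β hβ hβ1 U (fun u hu v => by rw [hinv']; exact hu _) with h | h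
    · have : (1 : K) ∈ U := fun v => ⟨v, rfl⟩
      rw [h, AddSubgroup.mem_bot] at this
      exact absurd this one_ne_zero
    · intro u
      have : u ∈ U := by rw [h]; trivial
      exact this
  let R : Subfield K :=
    { carrier := {s | ∀ u v, B (s * u) v = B u (s * v)}
      mul_mem' := fun {a b} ha hb u v => by
        rw [mul_assoc, ha, hb, ← mul_assoc, mul_comm b a]
      one_mem' := fun u v => by simp
      add_mem' := fun {a b} ha hb u v => by
        simp only [add_mul, map_add, AddMonoidHom.add_apply, ha u v, hb u v]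
      zero_mem' := fun u v => by simp
      neg_mem' := fun {a} ha u v => by
        simp only [neg_mul, map_neg, AddMonoidHom.neg_apply, ha u v]
      inv_mem' := fun a ha u v => by
        by_cases h0 : a = 0
        · simp [h0]
        · rw [← mul_inv_cancel_left₀ h0 v, ← ha, mul_inv_cancel_left₀ h0,
            inv_mul_cancel_left₀ h0] }
  have hs : β + β⁻¹ ∈ R := by
    intro u v
    have e1 : B (β⁻¹ * u) v = B u (β * v) := by
      rw [← hinv (β⁻¹ * u) v, mul_inv_cancel_left₀ hβ0]
    simp only [add_mul, map_add, AddMonoidHom.add_apply, hinv', e1]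
    rw [add_comm]
  have hsq : ∀ s ∈ R, B 1 (s * s) = 0 := by
    intro s hs
    rw [← hs, mul_one, halt]
  have hR : ∀ s ∈ R, B 1 s = 0 := by
    intro s hs
    by_cases h2 : (2 : K) = 0
    · haveI := Fintype.ofFinite K
      have hp2 : p = 2 := by
        have : ((2 : ℕ) : K) = 0 := by exact_mod_cast h2
        rw [CharP.cast_eq_zero_iff K p] at this
        exact (Nat.prime_dvd_prime_iff_eq hp Nat.prime_two).1 this
      have ha : a ≠ 0 := by
        rintro rfl
        have := Finite.one_lt_card (α := K)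
        rw [hK] at this; simp at this
      have h3 := FiniteField.pow_card s
      rw [← Nat.card_eq_fintype_card, hK, hp2] at h3
      obtain ⟨b, rfl⟩ := Nat.exists_eq_succ_of_ne_zero ha
      have := hsq (s ^ 2 ^ b) (R.pow_mem hs _)
      rwa [← pow_add, ← two_mul, ← pow_succ', h3] at this
    · have h3 : ∀ t ∈ R, B 1 (2 * t) = 0 := by
        intro t ht
        have e1 := hsq _ (R.add_mem ht R.one_mem)
        have e2 := hsq _ ht
        have e3 : (t + 1) * (t + 1) = t * t + 2 * t + 1 := by ring
        rw [e3, map_add, map_add, e2, halt] at e1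
        simpa using e1
      have := h3 (2⁻¹ * s) (R.mul_mem (R.inv_mem (by
        rw [← one_add_one_eq_two]; exact R.add_mem R.one_mem R.one_mem)) hs)
      rwa [mul_inv_cancel_left₀ h2] at this
  have hspan : Submodule.span R (Set.range ![(1 : K), β]) = ⊤ := by
    have m1 : (1 : K) ∈ Submodule.span R (Set.range ![(1 : K), β]) :=
      Submodule.subset_span ⟨0, rfl⟩
    have m2 : β ∈ Submodule.span R (Set.range ![(1 : K), β]) := Submodule.subset_span ⟨1, rfl⟩
    rcases hirr β hβ hβ1 (Submodule.span R (Set.range ![(1 : K), β])).toAddSubgroup (by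
      intro u hu
      change u ∈ Submodule.span R _ at hu
      change β * u ∈ Submodule.span R _
      induction hu using Submodule.span_induction with
      | mem x hx =>
        obtain ⟨i, rfl⟩ := hx
        fin_cases i
        · simpa using m2
        · have : β * β = (⟨_, hs⟩ : R) • β - 1 := by
            change β * β = (β + β⁻¹) * β - 1
            rw [add_mul, inv_mul_cancel₀ hβ0]; ring
          simp only [Fin.mk_one, Matrix.cons_val_one, Matrix.cons_val_zero]
          rw [this]
          exact sub_mem (Submodule.smul_mem _ _ m2) m1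
      | zero => simp
      | add x y _ _ hx hy => rw [mul_add]; exact add_mem hx hy
      | smul r x _ hx =>
        have : β * r • x = r • (β * x) := by
          change β * (r.1 * x) = r.1 * (β * x); ring
        rw [this]; exact Submodule.smul_mem _ _ hx) with h | h
    · have : (1 : K) ∈ (Submodule.span R (Set.range ![(1 : K), β])).toAddSubgroup := m1
      rw [h, AddSubgroup.mem_bot] at this
      exact absurd this one_ne_zero
    · rw [eq_top_iff]
      intro u _
      have : u ∈ (Submodule.span R (Set.range ![(1 : K), β])).toAddSubgroup := by rw [h]; trivial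
      exact this
  have hfr : Module.finrank R K ≤ 2 := by simpa using finrank_le_of_span_eq_top hspan
  have hcard : Nat.card K = Nat.card R ^ Module.finrank R K := Module.natCard_eq_pow_finrank
  have hRpos : 0 < Nat.card R := Nat.card_pos
  refine ⟨h1, ?_, fun hodd => ?_⟩
  · have e1 : Nat.card R ≤ Nat.card (B 1).ker :=
      Nat.card_le_card_of_injective (fun s => ⟨s.1, hR s.1 s.2⟩)
        (fun s t h => Subtype.ext (congrArg (fun z : (B 1).ker => z.1) h))
    have e2 : Nat.card K = Nat.card (B 1).range * Nat.card (B 1).ker := by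
      rw [AddSubgroup.card_eq_card_quotient_mul_card_addSubgroup (B 1).ker,
        Nat.card_congr (QuotientAddGroup.quotientKerEquivRange (B 1)).toEquiv]
    have e3 : Nat.card K ≤ Nat.card (B 1).ker * Nat.card (B 1).ker := by
      rw [hcard]
      calc _ ≤ Nat.card R ^ 2 := Nat.pow_le_pow_right hRpos hfr
        _ ≤ _ := by rw [pow_two]; exact Nat.mul_le_mul e1 e1
    have e4 : Nat.card (B 1).range ≤ Nat.card (B 1).ker := by
      rw [e2] at e3
      exact Nat.le_of_mul_le_mul_right e3 Nat.card_pos
    rw [← hK, e2, pow_two]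
    exact Nat.mul_le_mul_left _ e4
  · have hfr1 : Module.finrank R K = 1 := by
      have h0 : 0 < Module.finrank R K := Module.finrank_pos
      by_contra hne
      have h2 : Module.finrank R K = 2 := by omega
      rw [h2, hK] at hcard
      have h3 := congrArg (fun n => n.factorization p) hcard
      simp only [Nat.factorization_pow, Finsupp.smul_apply, smul_eq_mul, hp.factorization_self]
        at h3
      omega
    rw [hfr1, pow_one] at hcard
    have hall : ∀ s, s ∈ R := by
      have : Function.Bijective (Subtype.val : R → K) :=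
        (Nat.bijective_iff_injective_and_card _).2 ⟨Subtype.val_injective, hcard.symm⟩
      intro s
      obtain ⟨t, rfl⟩ := this.2 s
      exact t.2
    intro u v
    obtain ⟨w, hw⟩ := h1 u v
    rw [← hw, hR w (hall w)]

theorem exists_add_hom [CharP K p] {P : Type*} [Group P] [Finite P] [Nontrivial P]
    (hP : IsPGroup p P) : ∃ f : Additive P →+ K, f ≠ 0 := by
  obtain ⟨M, hM, -⟩ := (eq_top_or_exists_le_coatom (⊥ : Subgroup P)).resolve_left bot_ne_top
  obtain ⟨hn, hi⟩ := H3.index_eq_prime_of_isCoatom hP hM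
  have hc : Nat.card (P ⧸ M) = Nat.card (Multiplicative (ZMod p)) := by
    rw [← index_eq_card, hi]; simp
  haveI : Fact (Nat.card (P ⧸ M)).Prime := ⟨by rw [← index_eq_card, hi]; exact Fact.out⟩
  let e : (P ⧸ M) ≃* Multiplicative (ZMod p) :=
    mulEquivOfPrimeCardEq (p := p) (by rw [← index_eq_card, hi]) (by simp)
  refine ⟨(ZMod.castHom (dvd_refl p) K).toAddMonoidHom.comp
    (MonoidHom.toAdditiveLeft (e.toMonoidHom.comp (QuotientGroup.mk' M))), fun h => ?_⟩
  obtain ⟨x, hx⟩ := (e.surjective.comp (QuotientGroup.mk'_surjective M)) (Multiplicative.ofAdd 1)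
  have := DFunLike.congr_fun h (Additive.ofMul x)
  simp only [Function.comp_apply, QuotientGroup.mk'_apply] at hx
  simp [MonoidHom.toAdditiveLeft, hx] at this

theorem struct [CharP K p] {q : ℕ} [Fact q.Prime] (hpq : p ≠ q) {ζ : K} (hζ : IsPrimitiveRoot ζ q)
    {X : Type*} [Group X] [Finite X] (hX : MNP p X) {t r : ℕ} (hr : 1 ≤ r)
    (hc : Nat.card X = p ^ t * q ^ r) :
    ∃ (P : Subgroup X) (_ : P.Normal) (g : X) (β : K) (l : X → K), IsPGroup p P ∧
      P.index = q ^ r ∧ orderOf g = q ^ r ∧ P ⊔ zpowers g = ⊤ ∧ β ^ q = 1 ∧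
      (∀ x ∈ P, ∀ y ∈ P, l (x * y) = l x + l y) ∧ (∀ x ∈ P, l (g * x * g⁻¹) = β * l x) ∧
      (∃ x ∈ P, l x ≠ 0) ∧ (∀ x ∈ P, l x = 0 → x ∈ center X) ∧
      (∀ U ≤ P, U ≠ P → g ∈ normalizer (U : Set X) → g ∈ centralizer (U : Set X)) := by
  classical
  have hp : p.Prime := Fact.out
  have hq : q.Prime := Fact.out
  obtain ⟨P⟩ : Nonempty (Sylow p X) := inferInstance
  haveI hPn : (P : Subgroup X).Normal := (Cfsg.Agent.S0132.result hX.1 hX.2).2.2 P
  obtain ⟨Q, hQ, q1, g, hq1, hq1p, ⟨k, hk⟩, hgN, hgC⟩ :=
    H3.exists_prime_pow_normalizing_of_not_hasNormalPComplement P hX.1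
  have hgp : (orderOf g).Coprime p := by
    rw [hk]; exact ((Nat.coprime_primes hq1 hp).2 hq1p).pow_left k
  have htop : (P : Subgroup X) ⊔ zpowers g = ⊤ := by
    by_contra hne
    have hne' : Q ⊔ zpowers g ≠ ⊤ := fun e => hne (top_le_iff.1 (e ▸ sup_le_sup_right hQ _))
    exact hgC (H3.mem_centralizer_of_hasNormalPComplement_subgroup (hX.2 _ hne') le_sup_left
      (P.2.to_le hQ) (mem_sup_right (mem_zpowers g)) hgN hgp)
  have hPc : Nat.card (P : Subgroup X) = p ^ t := by
    rw [P.card_eq_multiplicity, hc, Nat.factorization_mul (pow_ne_zero _ hp.ne_zero)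
      (pow_ne_zero _ hq.ne_zero)]
    simp [hp.factorization_self, hq.factorization, Finsupp.single_apply, hpq.symm]
  have hPi : (P : Subgroup X).index = q ^ r := by
    have := (P : Subgroup X).card_mul_index
    rw [hPc, hc] at this
    exact Nat.eq_of_mul_eq_mul_left (pow_pos hp.pos _) this
  have hdv : ∀ (U : Subgroup X) (y : X), y ∈ normalizer (U : Set X) → U ⊔ zpowers y = ⊤ →
      p ^ t * q ^ r ∣ orderOf y * Nat.card U := by
    intro U y hy hU
    have := H3.card_sup_dvd_of_le_normalizer (H := zpowers y) (K := U) (zpowers_le.2 hy)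
    rwa [sup_comm, hU, card_top, hc, Nat.card_zpowers] at this
  have hnorm : ∀ y : X, y ∈ normalizer ((P : Subgroup X) : Set X) := by
    intro y; rw [normalizer_eq_top]; trivial
  have hord : orderOf g = q ^ r := by
    have h1 := hdv _ g (hnorm g) htop
    rw [hPc, mul_comm (orderOf g)] at h1
    have h2 : q ^ r ∣ orderOf g := Nat.dvd_of_mul_dvd_mul_left (pow_pos hp.pos _) h1
    have h3 : orderOf g ∣ p ^ t * q ^ r := hc ▸ orderOf_dvd_natCard g
    exact Nat.dvd_antisymm ((hgp.pow_right t).dvd_of_dvd_mul_left h3) h2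
  have hmin : ∀ U ≤ (P : Subgroup X), U ≠ P → g ∈ normalizer (U : Set X) →
      g ∈ centralizer (U : Set X) := by
    intro U hU hne hg
    have hne' : U ⊔ zpowers g ≠ ⊤ := by
      intro e
      have h1 := hdv U g hg e
      rw [hord, mul_comm (q ^ r)] at h1
      have h2 : p ^ t ∣ Nat.card U := Nat.dvd_of_mul_dvd_mul_right (pow_pos hq.pos _) h1
      exact hne (eq_of_le_of_card_ge hU (hPc ▸ Nat.le_of_dvd Nat.card_pos h2))
    exact H3.mem_centralizer_of_hasNormalPComplement_subgroup (hX.2 _ hne') le_sup_left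
      (P.2.to_le hU) (mem_sup_right (mem_zpowers g)) hg hgp
  have hgq : g ^ q ∈ centralizer ((P : Subgroup X) : Set X) := by
    have hne' : (P : Subgroup X) ⊔ zpowers (g ^ q) ≠ ⊤ := by
      intro e
      have h1 := hdv _ _ (hnorm _) e
      rw [hPc, mul_comm (orderOf _)] at h1
      have h2 : q ^ r ∣ orderOf (g ^ q) := Nat.dvd_of_mul_dvd_mul_left (pow_pos hp.pos _) h1
      have h3 : orderOf (g ^ q) ∣ q ^ (r - 1) := by
        apply orderOf_dvd_of_pow_eq_one
        rw [← pow_mul, ← pow_succ', Nat.sub_add_cancel hr, ← hord, pow_orderOf_eq_one]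
      have := (Nat.pow_dvd_pow_iff_le_right hq.one_lt).1 (h2.trans h3)
      omega
    exact H3.mem_centralizer_of_hasNormalPComplement_subgroup (hX.2 _ hne') le_sup_left
      P.2 (mem_sup_right (mem_zpowers _)) (hnorm _)
      (Nat.Coprime.coprime_dvd_left (orderOf_pow_dvd q) hgp)
  haveI : Nontrivial (P : Subgroup X) := by
    rw [nontrivial_iff_ne_bot]
    intro e
    apply hgC
    intro x hx
    have : x = 1 := by have := hQ hx; rwa [e, mem_bot] at this
    simp [this]
  obtain ⟨f0, hf0⟩ := exists_add_hom (K := K) P.2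
  haveI : Nontrivial (Additive (P : Subgroup X) →+ K) := ⟨⟨f0, 0, hf0⟩⟩
  let cj : X →* MulAut (P : Subgroup X) := MulAut.conjNormal
  let T : Module.End K (Additive (P : Subgroup X) →+ K) :=
    { toFun := fun f => f.comp (MonoidHom.toAdditive (cj g).toMonoidHom)
      map_add' := fun _ _ => rfl
      map_smul' := fun _ _ => rfl }
  have hTn : ∀ (n : ℕ) (f : Additive (P : Subgroup X) →+ K) (x : (P : Subgroup X)),
      (T ^ n) f (Additive.ofMul x) = f (Additive.ofMul (cj (g ^ n) x)) := by
    intro n
    induction n with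
    | zero => intro f x; simp
    | succ n ih =>
      intro f x
      rw [pow_succ, Module.End.mul_apply, ih, pow_succ', map_mul]
      rfl
  have hT : T ^ q = 1 := by
    ext f x
    have h1 := hTn q f x
    have h2 : cj (g ^ q) x = x := by
      apply Subtype.ext
      simp only [cj, MulAut.conjNormal_apply]
      rw [← hgq x.1 x.2]; simp
    rw [h2] at h1
    exact h1
  obtain ⟨β, hβ, f, hf, hTf⟩ := exists_eig T hq.pos hζ hT
  let l : X → K := fun x => if h : x ∈ (P : Subgroup X) then f (Additive.ofMul ⟨x, h⟩) else 0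
  have hl : ∀ x (h : x ∈ (P : Subgroup X)), l x = f (Additive.ofMul ⟨x, h⟩) := fun x h => dif_pos h
  have hladd : ∀ x ∈ (P : Subgroup X), ∀ y ∈ (P : Subgroup X), l (x * y) = l x + l y := by
    intro x hx y hy
    rw [hl x hx, hl y hy, hl _ (mul_mem hx hy), ← map_add]; rfl
  have hlg : ∀ x ∈ (P : Subgroup X), l (g * x * g⁻¹) = β * l x := by
    intro x hx
    rw [hl x hx, hl _ (hPn.conj_mem x hx g)]
    exact DFunLike.congr_fun hTf (Additive.ofMul ⟨x, hx⟩)
  have hne : ∃ x ∈ (P : Subgroup X), l x ≠ 0 := by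
    by_contra hcon
    push Not at hcon
    apply hf
    ext x
    have := hcon x.1 x.2
    rw [hl _ x.2] at this
    exact this
  refine ⟨P, hPn, g, β, l, P.2, hPi, hord, htop, hβ, hladd, hlg, hne, ?_, hmin⟩
  have hl1 : l 1 = 0 := by simpa using hladd 1 (one_mem _) 1 (one_mem _)
  have hlinv : ∀ x ∈ (P : Subgroup X), l x⁻¹ = -l x := by
    intro x hx
    have := hladd x hx _ (inv_mem hx)
    rw [mul_inv_cancel, hl1] at this
    linear_combination -this
  let Z : Subgroup X :=
    { carrier := {x | x ∈ (P : Subgroup X) ∧ l x = 0}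
      mul_mem' := fun {a b} ha hb => ⟨mul_mem ha.1 hb.1, by rw [hladd a ha.1 b hb.1, ha.2, hb.2]; simp⟩
      one_mem' := ⟨one_mem _, hl1⟩
      inv_mem' := fun {a} ha => ⟨inv_mem ha.1, by rw [hlinv a ha.1, ha.2]; simp⟩ }
  have hgZ : g ∈ normalizer (Z : Set X) := by
    apply mem_normalizer_fintype
    intro x hx
    exact ⟨hPn.conj_mem x hx.1 g, by rw [hlg x hx.1, hx.2, mul_zero]⟩
  have hPZ : (P : Subgroup X) ≤ normalizer (Z : Set X) := by
    intro y hy
    apply mem_normalizer_fintype
    intro x hx
    refine ⟨hPn.conj_mem x hx.1 y, ?_⟩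
    rw [hladd _ (mul_mem hy hx.1) _ (inv_mem hy), hladd _ hy _ hx.1, hlinv y hy, hx.2]; ring
  haveI : Z.Normal := by
    rw [← normalizer_eq_top_iff, eq_top_iff, ← htop]
    exact sup_le hPZ (zpowers_le.2 hgZ)
  have hgc : g ∈ centralizer (Z : Set X) := hmin Z (fun x hx => hx.1) (by
    intro e
    obtain ⟨x, hx, hx0⟩ := hne
    have : x ∈ Z := by rw [e]; exact hx
    exact hx0 this.2) hgZ
  have hCtop : centralizer (Z : Set X) = ⊤ := by
    by_contra hne'
    apply hX.1
    refine H3.hasNormalPComplement_of_pResidual_le ?_ (hX.2 _ hne')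
    apply H3.pResidual_le_of_isPGroup_quotient
    have h1 := P.2.map (QuotientGroup.mk' (centralizer (Z : Set X)))
    have h2 : (P : Subgroup X).map (QuotientGroup.mk' (centralizer (Z : Set X))) = ⊤ := by
      have h3 := congrArg (map (QuotientGroup.mk' (centralizer (Z : Set X)))) htop
      rw [Subgroup.map_sup, map_top_of_surjective _ (QuotientGroup.mk'_surjective _),
        MonoidHom.map_zpowers, QuotientGroup.mk'_apply, (QuotientGroup.eq_one_iff g).2 hgc,
        zpowers_one_eq_bot, sup_bot_eq] at h3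
      exact h3
    rw [h2] at h1
    exact h1.of_equiv topEquiv
  intro x hx hx0
  rw [mem_center_iff]
  intro y
  have : y ∈ centralizer (Z : Set X) := by rw [hCtop]; trivial
  exact (this x ⟨hx, hx0⟩).symm

end H2.Sm
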