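import Cfsg.Agent.H2.Sm2

/-! Schmidt groups, part 3: every minimal non-`p`-nilpotent group of order `p^t q^r` is a central
extension of the affine model by a `p`-group of order at most `p^(a/2)`. -/

namespace H2.Sm
open Cfsg Subgroup
open scoped commutatorElement IsMulCommutative

variable {p : ℕ} [Fact p.Prime] {K : Type*} [Field K]

theorem mkHom {X : Type*} [Group X] {P : Subgroup X} [hPn : P.Normal] {n : ℕ} [NeZero n] {y : X}
    (hy : orderOf y = n) (hi : P.index = n) (htop : P ⊔ zpowers y = ⊤) {β : K} (hβ : β ^ n = 1)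
    {l : X → K} (hl : ∀ x ∈ P, ∀ y ∈ P, l (x * y) = l x + l y)
    (hg : ∀ x ∈ P, l (y * x * y⁻¹) = β * l x) :
    ∃ f : X →* Af (AddChar.zmodChar n hβ), (∀ x, f x = 1 ↔ x ∈ P ∧ l x = 0) ∧
      (∀ x ∈ P, f x = ⟨l x, 0⟩) ∧ f y = ⟨0, 1⟩ := by
  have hgen : ∀ x : X ⧸ P, x ∈ zpowers (y : X ⧸ P) := by
    have h3 := congrArg (map (QuotientGroup.mk' P)) htop
    rw [Subgroup.map_sup, map_top_of_surjective _ (QuotientGroup.mk'_surjective _),
      MonoidHom.map_zpowers, QuotientGroup.mk'_apply, QuotientGroup.map_mk'_self, bot_sup_eq] at h3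
    intro x; rw [h3]; trivial
  let e := zmodMulEquivOfGenerator hgen (n := n) (by rw [← index_eq_card, hi])
  let d : X → ZMod n := fun x => (e.symm (x : X ⧸ P)).toAdd
  have hd : ∀ a b, d (a * b) = d a + d b := by intro a b; simp [d]
  have hd0 : ∀ a, d a = 0 ↔ a ∈ P := by
    intro a
    simp only [d, toAdd_eq_zero, map_eq_one_iff _ e.symm.injective, QuotientGroup.eq_one_iff]
  have hdy : ∀ i : ℕ, d (y ^ i) = i := by
    intro i
    have := zmodMulEquivOfGenerator_symm_apply_zpow hgen (n := n) (by rw [← index_eq_card, hi]) i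
    simp only [d, QuotientGroup.mk_pow]
    rw [zpow_natCast] at this
    rw [this]; simp
  have hd1 : d 1 = 0 := (hd0 1).2 (one_mem _)
  have hdi : ∀ a, d a⁻¹ = -d a := by
    intro a
    have := hd a a⁻¹
    rw [mul_inv_cancel, hd1] at this
    linear_combination -this
  have hmem : ∀ a, a * (y ^ (d a).val)⁻¹ ∈ P := by
    intro a
    rw [← hd0, hd, hdi, hdy]; simp
  have hs : ∀ i j : ZMod n, y ^ (i + j).val = y ^ i.val * y ^ j.val := by
    intro i j
    have := pow_mod_orderOf y (i.val + j.val)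
    rw [hy] at this
    rw [ZMod.val_add, ← pow_add, this]
  have hgi : ∀ i : ℕ, ∀ x ∈ P, l (y ^ i * x * (y ^ i)⁻¹) = β ^ i * l x := by
    intro i
    induction i with
    | zero => simp
    | succ i ih =>
      intro x hx
      have : y ^ (i + 1) * x * (y ^ (i + 1))⁻¹ = y * (y ^ i * x * (y ^ i)⁻¹) * y⁻¹ := by group
      rw [this, hg _ (hPn.conj_mem x hx _), ih x hx]; ring
  have hl1 : l 1 = 0 := by simpa using hl 1 (one_mem _) 1 (one_mem _)
  let f : X →* Af (AddChar.zmodChar n hβ) := MonoidHom.mk'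
    (fun a => ⟨l (a * (y ^ (d a).val)⁻¹), d a⟩) (fun a b => by
      ext
      · simp only [Af.mul_v, AddChar.zmodChar_apply]
        rw [← hgi _ _ (hmem b), ← hl _ (hmem a) _ (hPn.conj_mem _ (hmem b) _), hd, hs]
        congr 1; group
      · simp [hd])
  have hfP : ∀ x ∈ P, f x = ⟨l x, 0⟩ := by
    intro x hx
    have := (hd0 x).2 hx
    ext <;> simp [f, this]
  refine ⟨f, fun x => ⟨fun h => ?_, fun h => ?_⟩, hfP, ?_⟩
  · have h1 : x ∈ P := (hd0 x).1 (congrArg Af.c h)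
    rw [hfP x h1] at h
    exact ⟨h1, congrArg Af.v h⟩
  · rw [hfP x h.1, h.2]; rfl
  · have h1 : d y = 1 := by simpa using hdy 1
    have h2 : y ^ (1 : ZMod n).val = y := by
      have : ((1 : ℕ) : ZMod n).val = 1 % n := ZMod.val_natCast n 1
      rw [Nat.cast_one] at this
      rw [this, ← hy, pow_mod_orderOf, pow_one]
    ext <;> simp [f, h1, h2, hl1]

theorem bound [Finite K] [CharP K p] {q a : ℕ} (hq : q ≠ 0) (hirr : Irr K q)
    (hK : Nat.card K = p ^ a) {β : K} (hβ : β ^ q = 1) (hβ1 : β ≠ 1)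
    {X : Type*} [Group X] [Finite X] {P : Subgroup X} [hPn : P.Normal] {g : X} {l : X → K}
    (hl : ∀ x ∈ P, ∀ y ∈ P, l (x * y) = l x + l y)
    (hg : ∀ x ∈ P, l (g * x * g⁻¹) = β * l x) (hsurj : ∀ u, ∃ x ∈ P, l x = u)
    (hz : ∀ x ∈ P, l x = 0 → x ∈ center X)
    (hmin : ∀ U ≤ P, U ≠ P → g ∈ normalizer (U : Set X) → g ∈ centralizer (U : Set X))
    (Z : Subgroup X) (hZ : ∀ x ∈ Z, x ∈ P ∧ l x = 0) :
    Nat.card Z ^ 2 ≤ p ^ a ∧ (a % 2 = 1 → Z = ⊥) := by
  have hl1 : l 1 = 0 := by simpa using hl 1 (one_mem _) 1 (one_mem _)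
  have hlinv : ∀ x ∈ P, l x⁻¹ = -l x := by
    intro x hx
    have := hl x hx _ (inv_mem hx)
    rw [mul_inv_cancel, hl1] at this
    linear_combination -this
  let cj : P →* P := (MulAut.conjNormal g : MulAut P).toMonoidHom
  have hcj : ∀ x : P, (cj x : X) = g * x * g⁻¹ := fun x => rfl
  let δ : Abelianization P →* Abelianization P := Abelianization.map cj / MonoidHom.id _
  have hδ : ∀ x : P, δ (Abelianization.of x) = Abelianization.of (cj x * x⁻¹) := by
    intro x; simp [δ, div_eq_mul_inv]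
  have hδs : Function.Surjective δ := by
    let R : Subgroup X := (δ.range.comap Abelianization.of).map P.subtype
    have hR : R = P := by
      by_contra hne
      have h1 := hmin R (map_subtype_le _) hne (by
        apply mem_normalizer_fintype
        rintro _ ⟨x, ⟨w, hw⟩, rfl⟩
        refine ⟨cj x, ⟨Abelianization.map cj w, ?_⟩, rfl⟩
        rw [← Abelianization.map_of, ← hw]
        simp [δ])
      obtain ⟨x, hx, hx1⟩ := hsurj 1
      have h2 : g * x * g⁻¹ * x⁻¹ ∈ R := ⟨cj ⟨x, hx⟩ * ⟨x, hx⟩⁻¹, ⟨_, hδ _⟩, rfl⟩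
      have h3 := h1 _ h2
      have hm : g * x * g⁻¹ * x⁻¹ ∈ P := mul_mem (hPn.conj_mem x hx g) (inv_mem hx)
      have h4 := hg _ hm
      rw [← h3, mul_inv_cancel_right, hl _ (hPn.conj_mem x hx g) _ (inv_mem hx), hg x hx,
        hlinv x hx, hx1] at h4
      have : (β - 1) ^ 2 = 0 := by linear_combination -h4
      exact hβ1 (sub_eq_zero.1 (pow_eq_zero_iff two_ne_zero |>.1 this))
    intro w
    obtain ⟨x, rfl⟩ : ∃ x : P, Abelianization.of x = w := QuotientGroup.mk'_surjective _ w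
    obtain ⟨x', hx', e⟩ : x.1 ∈ R := by rw [hR]; exact x.2
    have : x' = x := Subtype.ext e
    subst this
    exact hx'
  have hδi : Function.Injective δ := Finite.injective_iff_surjective.2 hδs
  have hZc : ∀ x (hx : x ∈ Z), (⟨x, (hZ x hx).1⟩ : P) ∈ commutator P := by
    intro x hx
    rw [← Abelianization.ker_of, MonoidHom.mem_ker]
    apply hδi
    rw [hδ, map_one]
    have : cj ⟨x, (hZ x hx).1⟩ = ⟨x, (hZ x hx).1⟩ := by
      apply Subtype.ext
      rw [hcj, mem_center_iff.1 (hz x (hZ x hx).1 (hZ x hx).2) g]; simp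
    rw [this]; simp
  choose s hsP hs using hsurj
  have hcc : ∀ x ∈ P, ∀ y ∈ P, ⁅x, y⁆ ∈ center X := by
    intro x hx y hy
    apply hz _ (mul_mem (mul_mem (mul_mem hx hy) (inv_mem hx)) (inv_mem hy))
    rw [hl _ (mul_mem (mul_mem hx hy) (inv_mem hx)) _ (inv_mem hy),
      hl _ (mul_mem hx hy) _ (inv_mem hx), hl _ hx _ hy, hlinv x hx, hlinv y hy]; ring
  have hdec : ∀ x ∈ P, ∃ z ∈ center X, x = s (l x) * z := by
    intro x hx
    refine ⟨(s (l x))⁻¹ * x, hz _ (mul_mem (inv_mem (hsP _)) hx) ?_, by group⟩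
    rw [hl _ (inv_mem (hsP _)) _ hx, hlinv _ (hsP _), hs]; ring
  have hcm : ∀ x ∈ P, ∀ y ∈ P, ⁅x, y⁆ = ⁅s (l x), s (l y)⁆ := by
    intro x hx y hy
    obtain ⟨z, hz1, e1⟩ := hdec x hx
    obtain ⟨w, hw1, e2⟩ := hdec y hy
    generalize s (l x) = x' at e1 ⊢
    generalize s (l y) = y' at e2 ⊢
    subst e1 e2
    have c1 := mem_center_iff.1 hz1
    have c2 := mem_center_iff.1 hw1
    simp only [commutatorElement_def]
    calc x' * z * (y' * w) * (x' * z)⁻¹ * (y' * w)⁻¹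
        = x' * (z * (y' * w)) * z⁻¹ * x'⁻¹ * w⁻¹ * y'⁻¹ := by group
      _ = x' * y' * (w * x'⁻¹) * w⁻¹ * y'⁻¹ := by rw [← c1]; group
      _ = _ := by rw [← c2]; group
  let cm : K → K → Additive (center X) := fun u v =>
    Additive.ofMul ⟨⁅s u, s v⁆, hcc _ (hsP u) _ (hsP v)⟩
  have hcm' : ∀ x (hx : x ∈ P) y (hy : y ∈ P),
      cm (l x) (l y) = Additive.ofMul ⟨⁅x, y⁆, hcc x hx y hy⟩ := by
    intro x hx y hy
    exact congrArg Additive.ofMul (Subtype.ext (hcm x hx y hy).symm)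
  let B : K →+ K →+ Additive (center X) := AddMonoidHom.mk' (fun u => AddMonoidHom.mk' (cm u) (by
      intro v w
      have e := hcm' _ (hsP u) _ (mul_mem (hsP v) (hsP w))
      rw [hl _ (hsP v) _ (hsP w), hs, hs, hs] at e
      rw [e]
      apply congrArg Additive.ofMul
      apply Subtype.ext
      have c := mem_center_iff.1 (hcc _ (hsP u) _ (hsP w)) (s v)
      change ⁅s u, s v * s w⁆ = ⁅s u, s v⁆ * ⁅s u, s w⁆
      calc ⁅s u, s v * s w⁆ = ⁅s u, s v⁆ * (s v * ⁅s u, s w⁆) * (s v)⁻¹ := by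
            simp only [commutatorElement_def]; group
        _ = _ := by rw [c]; group)) (by
      intro u v
      ext w
      have e := hcm' _ (mul_mem (hsP u) (hsP v)) _ (hsP w)
      rw [hl _ (hsP u) _ (hsP v), hs, hs, hs] at e
      change ((Additive.toMul (cm (u + v) w) : center X) : X) = ⁅s u, s w⁆ * ⁅s v, s w⁆
      rw [e]
      have c := mem_center_iff.1 (hcc _ (hsP v) _ (hsP w))
      change ⁅s u * s v, s w⁆ = _
      calc ⁅s u * s v, s w⁆ = (s u * ⁅s v, s w⁆) * (s u)⁻¹ * ⁅s u, s w⁆ := by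
            simp only [commutatorElement_def]; group
        _ = _ := by rw [c (s u), c ⁅s u, s w⁆]; group)
  have hB : ∀ u v, B u v = cm u v := fun _ _ => rfl
  obtain ⟨b1, b2, b3⟩ := bil hq hirr hK hβ hβ1 B (fun u => by
      rw [hB]; apply congrArg Additive.ofMul; apply Subtype.ext; simp) (fun u v => by
      have e := hcm' _ (hPn.conj_mem _ (hsP u) g) _ (hPn.conj_mem _ (hsP v) g)
      rw [hg _ (hsP u), hg _ (hsP v), hs, hs] at e
      rw [hB, hB, e]
      apply congrArg Additive.ofMul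
      apply Subtype.ext
      have c := mem_center_iff.1 (hcc _ (hsP u) _ (hsP v)) g
      change ⁅g * s u * g⁻¹, g * s v * g⁻¹⁆ = ⁅s u, s v⁆
      calc ⁅g * s u * g⁻¹, g * s v * g⁻¹⁆ = (g * ⁅s u, s v⁆) * g⁻¹ := by
            simp only [commutatorElement_def]; group
        _ = _ := by rw [c]; group)
  let D : Subgroup X := (AddSubgroup.toSubgroup' (B 1).range).map (center X).subtype
  have hZD : Z ≤ D := by
    have h1 : commutator P ≤ D.comap P.subtype := by
      rw [commutator_def, commutator_le]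
      intro x _ y _
      refine ⟨⟨⁅x.1, y.1⁆, hcc _ x.2 _ y.2⟩, ?_, rfl⟩
      have := b1 (l x) (l y)
      rw [hB, hcm' _ x.2 _ y.2] at this
      exact this
    intro x hx
    exact h1 (hZc x hx)
  have hDc : Nat.card D = Nat.card (B 1).range := by
    rw [card_map_of_injective (center X).subtype_injective]; rfl
  refine ⟨?_, fun hodd => ?_⟩
  · refine le_trans (Nat.pow_le_pow_left ?_ 2) b2
    rw [← hDc]
    exact card_le_of_le hZD
  · rw [eq_bot_iff]
    intro x hx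
    obtain ⟨w, ⟨v, hv⟩, rfl⟩ := hZD hx
    rw [b3 hodd] at hv
    have : w = 1 := hv.symm
    simp [this]

theorem exists_hom [Finite K] [CharP K p] {q a : ℕ} [Fact q.Prime] (hpq : p ≠ q) (hirr : Irr K q)
    (hK : Nat.card K = p ^ a) {ζ : K} (hζ : IsPrimitiveRoot ζ q) {r : ℕ} (hr : 1 ≤ r)
    (hζ' : ζ ^ q ^ r = 1) {X : Type*} [Group X] [Finite X] (hX : MNP p X) {t : ℕ}
    (hc : Nat.card X = p ^ t * q ^ r) :
    ∃ f : X →* Af (AddChar.zmodChar (q ^ r) hζ'), Function.Surjective f ∧ f.ker ≤ center X ∧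
      IsPGroup p f.ker ∧ Nat.card f.ker ^ 2 ≤ p ^ a ∧ (a % 2 = 1 → f.ker = ⊥) := by
  have hq : q.Prime := Fact.out
  obtain ⟨P, hPn, g, β, l, hP, hi, hord, htop, hβ, hl, hg, ⟨x0, hx0, hx0'⟩, hz, hmin⟩ :=
    struct hpq hζ hX hr hc
  have hβ1 : β ≠ 1 := by
    rintro rfl
    obtain ⟨f, hf, -, -⟩ := mkHom hord hi htop (one_pow _) hl hg
    apply hX.1
    refine npc_of_central f (fun x hx => hz x ((hf x).1 hx).1 ((hf x).1 hx).2)
      (hP.to_le fun x hx => ((hf x).1 hx).1) (npc_of_comm fun a b => ?_)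
    apply Subtype.ext
    ext <;> simp [AddChar.zmodChar_apply, add_comm]
  have hl1 : l 1 = 0 := by simpa using hl 1 (one_mem _) 1 (one_mem _)
  have hsurj : ∀ u, ∃ x ∈ P, l x = u := by
    let U : AddSubgroup K :=
      { carrier := {u | ∃ x ∈ P, l x = u}
        zero_mem' := ⟨1, one_mem _, hl1⟩
        add_mem' := by
          rintro _ _ ⟨x, hx, rfl⟩ ⟨y, hy, rfl⟩
          exact ⟨x * y, mul_mem hx hy, hl x hx y hy⟩
        neg_mem' := by
          rintro _ ⟨x, hx, rfl⟩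
          refine ⟨x⁻¹, inv_mem hx, ?_⟩
          have := hl x hx _ (inv_mem hx)
          rw [mul_inv_cancel, hl1] at this
          linear_combination -this }
    rcases hirr β hβ hβ1 U (by
      rintro _ ⟨x, hx, rfl⟩
      exact ⟨_, hPn.conj_mem x hx g, hg x hx⟩) with h | h
    · have : l x0 ∈ U := ⟨x0, hx0, rfl⟩
      rw [h] at this
      exact absurd this hx0'
    · intro u
      have : u ∈ U := by rw [h]; trivial
      exact this
  have hβp : IsPrimitiveRoot β q := by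
    have : orderOf β = q := orderOf_eq_prime hβ hβ1
    rw [← this]; exact IsPrimitiveRoot.orderOf β
  haveI : NeZero q := ⟨hq.ne_zero⟩
  obtain ⟨j, hj, hjβ⟩ := hβp.eq_pow_of_pow_eq_one hζ.pow_eq_one
  have hjq : j.Coprime (q ^ r) := by
    apply Nat.Coprime.pow_right
    apply Nat.Coprime.symm
    rw [hq.coprime_iff_not_dvd]
    intro hd
    have : j = 0 := Nat.eq_zero_of_dvd_of_lt hd hj
    rw [this, pow_zero] at hjβ
    exact hζ.ne_one hq.one_lt hjβ.symm
  have hord' : orderOf (g ^ j) = q ^ r := by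
    rw [← hord] at hjq ⊢
    exact hjq.symm.orderOf_pow
  have hzp : zpowers (g ^ j) = zpowers g := by
    apply eq_of_le_of_card_ge (zpowers_le.2 (pow_mem (mem_zpowers g) j))
    rw [Nat.card_zpowers, Nat.card_zpowers, hord, hord']
  have hgi : ∀ i : ℕ, ∀ x ∈ P, l (g ^ i * x * (g ^ i)⁻¹) = β ^ i * l x := by
    intro i
    induction i with
    | zero => simp
    | succ i ih =>
      intro x hx
      have : g ^ (i + 1) * x * (g ^ (i + 1))⁻¹ = g * (g ^ i * x * (g ^ i)⁻¹) * g⁻¹ := by group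
      rw [this, hg _ (hPn.conj_mem x hx _), ih x hx]; ring
  obtain ⟨f, hf, hfP, hfy⟩ := mkHom hord' hi (hzp ▸ htop) hζ' hl (hjβ ▸ hgi j)
  obtain ⟨b1, b2⟩ := bound hq.ne_zero hirr hK hβ hβ1 hl hg hsurj hz hmin f.ker
    (fun x hx => (hf x).1 hx)
  refine ⟨f, ?_, fun x hx => hz x ((hf x).1 hx).1 ((hf x).1 hx).2,
    hP.to_le fun x hx => ((hf x).1 hx).1, b1, b2⟩
  rintro ⟨v, c⟩
  obtain ⟨x, hx, rfl⟩ := hsurj v
  refine ⟨x * (g ^ j) ^ c.val, ?_⟩
  rw [map_mul, map_pow, hfP x hx, hfy, Af.pow_of_v]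
  ext <;> simp

end H2.Sm
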