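import Cfsg.Agent.H2.Sm3

/-! Schmidt groups, part 4: the largest minimal non-`p`-nilpotent group of order `p^t q^r` and its
universality. -/

namespace H2.Sm
open Cfsg Subgroup Polynomial

variable {p : ℕ} [Fact p.Prime] {K : Type*} [Field K]

theorem irr_of [Finite K] [CharP K p] {q a : ℕ} [Fact q.Prime] (ha : a = orderOf (p : ZMod q))
    (hK : Nat.card K = p ^ a) : Irr K q := by
  intro β hβ hβ1 U hU
  have hp : p.Prime := Fact.out
  have hq : q.Prime := Fact.out
  haveI := Fintype.ofFinite K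
  let R0 : Subring K :=
    { carrier := {s | ∀ u ∈ U, s * u ∈ U}
      mul_mem' := fun {a b} ha hb u hu => by rw [mul_assoc]; exact ha _ (hb u hu)
      one_mem' := fun u hu => by simpa using hu
      add_mem' := fun {a b} ha hb u hu => by rw [add_mul]; exact add_mem (ha u hu) (hb u hu)
      zero_mem' := fun u hu => by simp
      neg_mem' := fun {a} ha u hu => by rw [neg_mul]; exact neg_mem (ha u hu) }
  let R : Subfield K :=
    { R0 with
      inv_mem' := fun s hs => by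
        by_cases h0 : s = 0
        · subst h0; simpa using R0.zero_mem
        · have h1 := FiniteField.pow_card_sub_one_eq_one s h0
          have h2 : 1 < Fintype.card K := Fintype.one_lt_card
          have : s⁻¹ = s ^ (Fintype.card K - 2) := by
            apply inv_eq_of_mul_eq_one_right
            rw [← pow_succ', show Fintype.card K - 2 + 1 = Fintype.card K - 1 by omega, h1]
          rw [this]; exact R0.pow_mem hs _ }
  haveI := Fintype.ofFinite R
  obtain ⟨d, -, hd⟩ := FiniteField.card R p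
  have hβ0 : β ≠ 0 := by rintro rfl; simp [hq.ne_zero] at hβ
  have h1 : β ^ (p ^ (d : ℕ) - 1) = 1 := by
    have := FiniteField.pow_card_sub_one_eq_one (⟨β, hU⟩ : R) (fun e => hβ0 (congrArg Subtype.val e))
    rw [hd] at this
    exact congrArg Subtype.val this
  have h2 : q ∣ p ^ (d : ℕ) - 1 := by
    rw [← orderOf_eq_prime hβ hβ1]; exact orderOf_dvd_of_pow_eq_one h1
  have h3 : a ∣ d := by
    rw [ha]
    apply orderOf_dvd_of_pow_eq_one
    have h4 : ((p ^ (d : ℕ) - 1 : ℕ) : ZMod q) = 0 := (ZMod.natCast_eq_zero_iff _ _).2 h2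
    rw [Nat.cast_sub (Nat.one_le_pow _ _ hp.pos), sub_eq_zero] at h4
    simpa using h4
  have h4 : Nat.card K ≤ Nat.card R := by
    rw [hK, Nat.card_eq_fintype_card, hd]
    exact Nat.pow_le_pow_right hp.pos (Nat.le_of_dvd d.2 h3)
  have hall : ∀ s, s ∈ R := by
    have : Function.Bijective (Subtype.val : R → K) :=
      (Nat.bijective_iff_injective_and_card _).2 ⟨Subtype.val_injective,
        le_antisymm (Nat.card_le_card_of_injective _ Subtype.val_injective) h4⟩
    intro s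
    obtain ⟨t, rfl⟩ := this.2 s
    exact t.2
  by_cases hb : U = ⊥
  · exact Or.inl hb
  · right
    obtain ⟨⟨u, hu⟩, hu0⟩ := AddSubgroup.ne_bot_iff_exists_ne_zero.1 hb
    have hu1 : u ≠ 0 := fun e => hu0 (Subtype.ext e)
    rw [eq_top_iff]
    intro v _
    have := hall (v * u⁻¹) u hu
    rwa [inv_mul_cancel_right₀ hu1] at this

theorem af_mnp [Finite K] [CharP K p] {q : ℕ} [Fact q.Prime] (hpq : p ≠ q) (hirr : Irr K q)
    {ζ : K} (hζ : IsPrimitiveRoot ζ q) {r : ℕ} (hζ' : ζ ^ q ^ r = 1) :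
    MNP p (Af (AddChar.zmodChar (q ^ r) hζ')) := by
  have hp : p.Prime := Fact.out
  have hq : q.Prime := Fact.out
  refine Af.mnp hirr (fun c => ?_) ?_ ⟨((1 : ℕ) : ZMod (q ^ r)), ?_⟩ (fun c hc d => ?_)
  · rw [AddChar.zmodChar_apply, ← pow_mul, mul_comm, pow_mul, hζ.pow_eq_one, one_pow]
  · rw [Nat.card_zmod]
    exact fun h => hpq ((Nat.prime_dvd_prime_iff_eq hp hq).1 (hp.dvd_of_dvd_pow h))
  · rw [AddChar.zmodChar_apply', pow_one]; exact hζ.ne_one hq.one_lt
  · rw [AddChar.zmodChar_apply] at hc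
    have h1 : c.val.Coprime (q ^ r) := by
      apply Nat.Coprime.pow_right
      apply Nat.Coprime.symm
      rw [hq.coprime_iff_not_dvd]
      exact fun h => hc ((hζ.pow_eq_one_iff_dvd _).2 h)
    have h2 : IsUnit c := by
      have := (ZMod.isUnit_iff_coprime _ _).2 h1
      rwa [ZMod.natCast_zmod_val] at this
    obtain ⟨u, rfl⟩ := h2
    refine ⟨(d * (u⁻¹ : (ZMod (q ^ r))ˣ)).val, ?_⟩
    simp

theorem card_of_surj {G H : Type*} [Group G] [Group H] (f : G →* H) (hf : Function.Surjective f) :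
    Nat.card G = Nat.card f.ker * Nat.card H := by
  rw [card_eq_card_quotient_mul_card_subgroup f.ker,
    Nat.card_congr (QuotientGroup.quotientKerEquivOfSurjective f hf).toEquiv, mul_comm]

variable {C : Type*} [AddCommGroup C]

/-- a central extension of `Af χ` by `K` -/
@[ext] structure Ex (χ : AddChar C K) (σ : K →+* K) (h : ∀ c, χ c * σ (χ c) = 1) where
  u : K
  s : K
  c : C

variable {χ : AddChar C K} {σ : K →+* K} {h : ∀ c, χ c * σ (χ c) = 1}

instance instMulEx : Mul (Ex χ σ h) :=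
  ⟨fun a b => ⟨a.u + χ a.c * b.u, a.s + b.s + a.u * σ (χ a.c * b.u), a.c + b.c⟩⟩
instance instOneEx : One (Ex χ σ h) := ⟨⟨0, 0, 0⟩⟩
instance instInvEx : Inv (Ex χ σ h) :=
  ⟨fun a => ⟨-(χ (-a.c) * a.u), -a.s + a.u * σ a.u, -a.c⟩⟩

@[simp] theorem Ex.mul_u (a b : Ex χ σ h) : (a * b).u = a.u + χ a.c * b.u := rfl
@[simp] theorem Ex.mul_s (a b : Ex χ σ h) :
    (a * b).s = a.s + b.s + a.u * σ (χ a.c * b.u) := rfl
@[simp] theorem Ex.mul_c (a b : Ex χ σ h) : (a * b).c = a.c + b.c := rfl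
@[simp] theorem Ex.one_u : (1 : Ex χ σ h).u = 0 := rfl
@[simp] theorem Ex.one_s : (1 : Ex χ σ h).s = 0 := rfl
@[simp] theorem Ex.one_c : (1 : Ex χ σ h).c = 0 := rfl
@[simp] theorem Ex.inv_u (a : Ex χ σ h) : a⁻¹.u = -(χ (-a.c) * a.u) := rfl
@[simp] theorem Ex.inv_s (a : Ex χ σ h) : a⁻¹.s = -a.s + a.u * σ a.u := rfl
@[simp] theorem Ex.inv_c (a : Ex χ σ h) : a⁻¹.c = -a.c := rfl

instance instGroupEx : Group (Ex χ σ h) :=
  Group.ofLeftAxioms
    (fun a b c => by
      ext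
      · simp only [Ex.mul_u, Ex.mul_c, AddChar.map_add_eq_mul]; ring
      · simp only [Ex.mul_u, Ex.mul_s, Ex.mul_c, AddChar.map_add_eq_mul, map_mul, map_add]
        linear_combination (b.u * σ (χ b.c) * σ c.u) * h a.c
      · simp [add_assoc])
    (fun a => by ext <;> simp) (fun a => by
      ext
      · simp
      · simp only [Ex.mul_s, Ex.inv_u, Ex.inv_s, Ex.inv_c, map_mul, Ex.one_s]
        linear_combination (-(a.u * σ a.u)) * h (-a.c)
      · simp)

instance instFiniteEx [Finite K] [Finite C] : Finite (Ex χ σ h) :=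
  Finite.of_injective (fun a : Ex χ σ h => (a.u, a.s, a.c)) (fun a b e => by
    simp only [Prod.mk.injEq] at e
    exact Ex.ext e.1 e.2.1 e.2.2)

/-- the projection onto the affine group -/
def Ex.proj (χ : AddChar C K) (σ : K →+* K) (h : ∀ c, χ c * σ (χ c) = 1) : Ex χ σ h →* Af χ :=
  MonoidHom.mk' (fun a => ⟨a.u, a.c⟩) (fun _ _ => rfl)

theorem Ex.mem_ker {a : Ex χ σ h} : a ∈ (Ex.proj χ σ h).ker ↔ a.u = 0 ∧ a.c = 0 := by
  rw [MonoidHom.mem_ker, Af.ext_iff]; rfl

theorem Ex.exists_big [Finite K] [Finite C] [CharP K p] (hM : MNP p (Af χ)) {b : ℕ} (hb : b ≠ 0)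
    (hσ : ∀ x, σ x = x ^ p ^ b) (hK : Nat.card K = p ^ (2 * b)) :
    ∃ (Y : Subgroup (Ex χ σ h)) (j : ℕ), MNP p Y ∧ b ≤ j ∧
      Nat.card Y = p ^ j * Nat.card (Af χ) := by
  classical
  have hp : p.Prime := Fact.out
  have hker : IsPGroup p (Ex.proj χ σ h).ker := by
    rintro ⟨⟨u, s, c⟩, hx⟩
    obtain ⟨hu, hc⟩ := Ex.mem_ker.1 hx
    simp only at hu hc
    subst hu hc
    have : ∀ n : ℕ, (⟨0, s, 0⟩ : Ex χ σ h) ^ n = ⟨0, n * s, 0⟩ := by
      intro n
      induction n with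
      | zero => ext <;> simp
      | succ n ih => rw [pow_succ, ih]; ext <;> simp [add_mul]
    refine ⟨1, Subtype.ext ?_⟩
    simp only [pow_one, SubgroupClass.coe_pow, this, OneMemClass.coe_one]
    ext <;> simp
  obtain ⟨Y, hY, hmnp⟩ := exists_mnp hM (Ex.proj χ σ h) (fun a => ⟨⟨a.v, 0, a.c⟩, rfl⟩) (by
    intro a ha
    obtain ⟨hu, hc⟩ := Ex.mem_ker.1 ha
    rw [mem_center_iff]
    intro g
    ext <;> simp [hu, hc, add_comm]) hker
  let f : Y →* Af χ := (Ex.proj χ σ h).comp Y.subtype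
  have hf : Function.Surjective f := by
    intro a
    obtain ⟨x, hx, e⟩ : a ∈ Y.map (Ex.proj χ σ h) := by rw [hY]; trivial
    exact ⟨⟨x, hx⟩, e⟩
  have hfk : IsPGroup p f.ker := by
    intro x
    obtain ⟨k, hk⟩ := hker ⟨x.1.1, x.2⟩
    have hk' : (x.1.1 : Ex χ σ h) ^ p ^ k = 1 := congrArg Subtype.val hk
    exact ⟨k, Subtype.ext (Subtype.ext hk')⟩
  obtain ⟨j, hj⟩ := IsPGroup.iff_card.1 hfk
  refine ⟨Y, j, hmnp, ?_, by rw [card_of_surj f hf, hj]⟩
  let τ : K →+ K := AddMonoidHom.id K - σ.toAddMonoidHom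
  have h1 : ∀ w : τ.range, ∃ y : f.ker, y.1.1.s = w.1 := by
    rintro ⟨_, u, rfl⟩
    obtain ⟨x, hx⟩ := hf ⟨u, 0⟩
    obtain ⟨y, hy⟩ := hf ⟨1, 0⟩
    have x1 : x.1.u = u := congrArg Af.v hx
    have x2 : x.1.c = 0 := congrArg Af.c hx
    have y1 : y.1.u = 1 := congrArg Af.v hy
    have y2 : y.1.c = 0 := congrArg Af.c hy
    refine ⟨⟨x * y * x⁻¹ * y⁻¹, ?_⟩, ?_⟩
    · change (x * y * x⁻¹ * y⁻¹).1 ∈ (Ex.proj χ σ h).ker
      rw [Ex.mem_ker]
      simp [x1, x2, y1, y2]
    · simp [x1, x2, y1, y2, τ]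
      ring
  choose φ hφ using h1
  have h2 : Nat.card τ.range ≤ Nat.card f.ker :=
    Nat.card_le_card_of_injective φ (fun a b e => Subtype.ext (by rw [← hφ, ← hφ, e]))
  have h3 : Nat.card τ.ker ≤ p ^ b := by
    have hne : (X ^ p ^ b - X : K[X]) ≠ 0 := FiniteField.X_pow_card_pow_sub_X_ne_zero K hb hp.one_lt
    have hdeg : (X ^ p ^ b - X : K[X]).natDegree = p ^ b :=
      FiniteField.X_pow_card_pow_sub_X_natDegree_eq K hb hp.one_lt
    calc Nat.card τ.ker ≤ Nat.card ((X ^ p ^ b - X : K[X]).roots.toFinset) :=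
          Nat.card_le_card_of_injective (fun w => ⟨w.1, by
            have : w.1 - σ w.1 = 0 := w.2
            rw [Multiset.mem_toFinset, mem_roots hne]
            simp only [IsRoot.def, eval_sub, eval_pow, eval_X]
            rw [← hσ]; linear_combination -this⟩)
            (fun a b e => Subtype.ext (congrArg
              (fun z : ((X ^ p ^ _ - X : K[X]).roots.toFinset) => z.1) e))
      _ ≤ _ := by
          rw [Nat.card_eq_finsetCard]
          exact ((Multiset.toFinset_card_le _).trans (card_roots' _)).trans hdeg.le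
  have h4 : Nat.card K = Nat.card τ.range * Nat.card τ.ker := by
    rw [AddSubgroup.card_eq_card_quotient_mul_card_addSubgroup τ.ker,
      Nat.card_congr (QuotientAddGroup.quotientKerEquivRange τ).toEquiv]
  have h5 : p ^ (2 * b) ≤ p ^ (j + b) := by
    rw [← hK, h4, pow_add, ← hj]
    exact Nat.mul_le_mul h2 h3
  have := (Nat.pow_le_pow_iff_right hp.one_lt).1 h5
  omega

theorem universal {M : Type*} [Group M] [Finite M] (hM : MNP p M) {G X : Type*} [Group G]
    [Finite G] [Group X] [Finite X] (hG : MNP p G) (hX : MNP p X) (f₀ : G →* M) (f : X →* M)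
    (s₀ : Function.Surjective f₀) (z₀ : f₀.ker ≤ center G) (k₀ : IsPGroup p f₀.ker)
    (s : Function.Surjective f) (z : f.ker ≤ center X) (k : IsPGroup p f.ker)
    (hmax : ∀ (F : Subgroup (G × X)) (F' : Subgroup F), MNP p F' →
      (∃ j, Nat.card F' = p ^ j * Nat.card M) → Nat.card F' ≤ Nat.card G) :
    ∃ φ : G →* X, Function.Surjective φ ∧ φ.ker ≤ center G := by
  let F : Subgroup (G × X) :=
    (f₀.comp (MonoidHom.fst G X)).eqLocus (f.comp (MonoidHom.snd G X))
  let π : F →* M := f₀.comp ((MonoidHom.fst G X).comp F.subtype)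
  have hπ : ∀ x : F, π x = f x.1.2 := fun x => x.2
  have hπs : Function.Surjective π := by
    intro m
    obtain ⟨a, ha⟩ := s₀ m
    obtain ⟨b, hb⟩ := s m
    exact ⟨⟨(a, b), ha.trans hb.symm⟩, ha⟩
  have hπk : IsPGroup p π.ker := by
    intro x
    obtain ⟨i, hi⟩ := k₀ ⟨x.1.1.1, x.2⟩
    obtain ⟨j, hj⟩ := k ⟨x.1.1.2, (hπ x.1).symm.trans x.2⟩
    have hi' : x.1.1.1 ^ p ^ i = 1 := congrArg Subtype.val hi
    have hj' : x.1.1.2 ^ p ^ j = 1 := congrArg Subtype.val hj
    refine ⟨i + j, Subtype.ext (Subtype.ext (Prod.ext ?_ ?_))⟩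
    · change x.1.1.1 ^ p ^ (i + j) = 1
      rw [pow_add, pow_mul, hi', one_pow]
    · change x.1.1.2 ^ p ^ (i + j) = 1
      rw [add_comm, pow_add, pow_mul, hj', one_pow]
  obtain ⟨F', hF', hm⟩ := exists_mnp hM π hπs (by
    intro x hx
    have h1 := mem_center_iff.1 (z₀ (show x.1.1 ∈ f₀.ker from hx))
    have h2 := mem_center_iff.1 (z (show x.1.2 ∈ f.ker from (hπ x).symm.trans hx))
    rw [mem_center_iff]
    intro g
    exact Subtype.ext (Prod.ext (h1 _) (h2 _))) hπk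
  let φ₀ : F' →* G := (MonoidHom.fst G X).comp (F.subtype.comp F'.subtype)
  let φ : F' →* X := (MonoidHom.snd G X).comp (F.subtype.comp F'.subtype)
  have hs : ∀ m : M, ∃ x : F', π x.1 = m := by
    intro m
    obtain ⟨x, hx, e⟩ : m ∈ F'.map π := by rw [hF']; trivial
    exact ⟨⟨x, hx⟩, e⟩
  have hφ₀ : Function.Surjective φ₀ := by
    rw [← MonoidHom.range_eq_top]
    apply hG.eq_top hM.1 f₀
    rw [eq_top_iff]
    intro m _
    obtain ⟨x, hx⟩ := hs m
    exact ⟨φ₀ x, ⟨x, rfl⟩, hx⟩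
  have hφ : Function.Surjective φ := by
    rw [← MonoidHom.range_eq_top]
    apply hX.eq_top hM.1 f
    rw [eq_top_iff]
    intro m _
    obtain ⟨x, hx⟩ := hs m
    exact ⟨φ x, ⟨x, rfl⟩, (hπ x.1).symm.trans hx⟩
  have hc : Nat.card F' ≤ Nat.card G := by
    apply hmax F F' hm
    have hk : IsPGroup p (π.comp F'.subtype).ker := by
      intro x
      obtain ⟨i, hi⟩ := hπk ⟨x.1.1, x.2⟩
      have hi' : x.1.1 ^ p ^ i = 1 := congrArg Subtype.val hi
      exact ⟨i, Subtype.ext (Subtype.ext hi')⟩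
    obtain ⟨j, hj⟩ := IsPGroup.iff_card.1 hk
    exact ⟨j, by rw [card_of_surj (π.comp F'.subtype) hs, hj]⟩
  have hb : Function.Bijective φ₀ := hφ₀.bijective_of_nat_card_le hc
  let e := MulEquiv.ofBijective φ₀ hb
  refine ⟨φ.comp e.symm.toMonoidHom, hφ.comp e.symm.surjective, fun g hg => z₀ ?_⟩
  obtain ⟨x, rfl⟩ := e.surjective g
  have h1 : φ x = 1 := by simpa using hg
  have h2 := hπ x.1
  change f₀ (φ₀ x) = f (φ x) at h2
  rw [h1, map_one] at h2
  exact h2

end H2.Sm
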