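import Mathlib
import Cfsg.Agent.H6.Clifford
import Cfsg.Agent.H5.Kernel
import Cfsg.Agent.H1.Cores

/-! Vanishing elements in solvable groups: `Van x`; regular orbits of abelian coprime groups
(`reg`), elements of an abelian normal `p`-section over an abelian normal `p'`-subgroup vanish
(`vanA`), second-centre elements vanish (`vanB`); main bound `not_sq_dvd`: if `p`-singular
vanishing elements are restricted then `p² ∤ [G : O_p(G)]`. -/

set_option autoImplicit false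
open Cfsg H5 H6 Finset
open scoped commutatorElement

namespace H2.Van

universe u
variable {G : Type*} [Group G]

/-- vanishing element -/
def Van (x : G) : Prop := ∃ χ : G → ℂ, IsIrrCharacter G χ ∧ χ x = 0

theorem Van.comap {H : Type*} [Group H] (f : G →* H) (hf : Function.Surjective f) {x : G}
    (h : Van (f x)) : Van x := by
  obtain ⟨χ, h1, h2⟩ := h
  exact ⟨_, h1.comp_surjective f hf, h2⟩

theorem reg [Finite G] {D : Type*} [CommGroup D] [MulDistribMulAction G D] (A N : Subgroup G) {e : ℕ}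
    (he : ∀ d : D, d ^ e = 1) (hc : ∀ a ∈ A, ∀ b ∈ A, ∀ d : D, a • b • d = b • a • d)
    (hs : ∀ x ∈ A, x ∉ N → ∃ s ∈ Subgroup.zpowers x, ∃ m : ℕ, m.Coprime e ∧ s ^ m = 1 ∧
      ∃ ν : D, s • ν ≠ ν) : ∃ d : D, ∀ x ∈ A, x • d = d → x ∈ N := by
  obtain ⟨l, -, hmin⟩ := (measure fun d : D => Nat.card ↥(A ⊓ MulAction.stabilizer G d)).wf.has_min
    Set.univ ⟨1, trivial⟩
  refine ⟨l, fun x hx hxl => ?_⟩
  by_contra hN
  obtain ⟨s, hsx, m, hm, hsm, ν, hν⟩ := hs x hx hN
  have hsA : s ∈ A := Subgroup.zpowers_le.2 hx hsx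
  have hsl : s • l = l := (Subgroup.zpowers_le (H := MulAction.stabilizer G l)).2 hxl hsx
  have root : ∀ (a : G) (d : D), a • d ^ m = d ^ m → a • d = d := fun a d h => by
    rw [smul_pow', ← div_eq_one, ← div_pow] at h
    rw [← div_eq_one, ← orderOf_eq_one_iff]
    exact Nat.eq_one_of_dvd_coprimes hm (orderOf_dvd_of_pow_eq_one h) (orderOf_dvd_of_pow_eq_one (he _))
  let τ : D →* D := ∏ i ∈ range m, MulDistribMulAction.toMonoidHom D (s ^ i)
  have τa : ∀ d, τ d = ∏ i ∈ range m, s ^ i • d := fun d => by simp [τ, MonoidHom.finset_prod_apply]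
  have τs : ∀ d, s • τ d = τ d := fun d => by
    rw [τa, smul_prod']
    simp only [smul_smul, ← pow_succ']
    have := prod_range_succ (fun i => s ^ i • d) m
    rw [prod_range_succ', hsm, pow_zero] at this
    exact mul_right_cancel this
  have τf : ∀ d, s • d = d → τ d = d ^ m := fun d h => by
    rw [τa, prod_congr rfl (g := fun _ => d) fun i _ => (MulAction.stabilizer G d).pow_mem h i,
      prod_const, card_range]
  have τc : ∀ a ∈ A, ∀ d, a • τ d = τ (a • d) := fun a ha d => by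
    rw [τa, τa, smul_prod']
    exact prod_congr rfl fun i _ => hc a ha _ (pow_mem hsA i) d
  have h1 : τ (l * (ν ^ m / τ ν)) = l ^ m := by
    rw [map_mul, map_div, map_pow, τf _ (τs ν), div_self', mul_one, τf l hsl]
  refine hmin (l * (ν ^ m / τ ν)) trivial (Set.Finite.card_lt_card (Set.toFinite _) ⟨?_, fun h => ?_⟩)
  · rintro a ⟨ha, ha'⟩
    refine ⟨ha, root a l ?_⟩
    rw [← h1, τc a ha, show a • (l * (ν ^ m / τ ν)) = _ from ha']
  · have : s • (l * (ν ^ m / τ ν)) = _ := (h ⟨hsA, hsl⟩).2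
    rw [smul_mul', hsl, mul_right_inj, smul_div', τs, div_left_inj] at this
    exact hν (root s ν this)

variable {p : ℕ} [hp : Fact p.Prime]

theorem vanA [Finite G] (hO : pCore p G = ⊥) (N A : Subgroup G) [N.Normal] [hA : A.Normal]
    (hN : ∀ x ∈ N, ∀ y ∈ N, x * y = y * x) (hpN : ¬ p ∣ Nat.card N)
    (h1 : ∀ x ∈ A, ∀ y ∈ A, ⁅x, y⁆ ∈ N) (h2 : ∀ x ∈ A, ∃ k, x ^ p ^ k ∈ N) {x : G} (hx : x ∈ A)
    (hxN : x ∉ N) : Van x := by
  classical
  have := Fintype.ofFinite G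
  have := Fintype.ofFinite N
  have hco : ∀ k, (p ^ k).Coprime (Nat.card N) := fun k =>
    (hp.out.coprime_iff_not_dvd.2 hpN).pow_left k
  have cN : ∀ n ∈ N, n ^ Nat.card N = 1 := fun n hn =>
    congrArg Subtype.val (pow_card_eq_one' (x := (⟨n, hn⟩ : N)))
  have one : ∀ n ∈ N, ∀ k, n ^ p ^ k = 1 → n = 1 := fun n hn k h => orderOf_eq_one_iff.1
    (Nat.eq_one_of_dvd_coprimes (hco k) (orderOf_dvd_of_pow_eq_one h)
      (orderOf_dvd_of_pow_eq_one (cN n hn)))
  have cm : ∀ a b : G, a ∈ A → b ∈ A → (∀ n ∈ N, a * n = n * a) → (∃ k, a ^ p ^ k = 1) →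
      Commute a b := fun a b ha hb h ⟨k, hk⟩ => by
    have e1 : ∀ i : ℕ, a ^ i * b * (a ^ i)⁻¹ = ⁅a, b⁆ ^ i * b := fun i => by
      induction i with
      | zero => simp
      | succ i ih =>
        rw [pow_succ', mul_inv_rev, mul_assoc a, mul_assoc a, ← mul_assoc (a ^ i * b), ih,
          ← mul_assoc, ← mul_assoc, h _ (pow_mem (h1 a ha b hb) i), pow_succ, commutatorElement_def]
        group
    have := e1 (p ^ k)
    rw [hk, one_mul, inv_one, mul_one, right_eq_mul] at this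
    exact commutatorElement_eq_one_iff_commute.1 (one _ (h1 a ha b hb) k this)
  let C : Subgroup G :=
    { carrier := {a | a ∈ A ∧ (∀ n ∈ N, a * n = n * a) ∧ ∃ k, a ^ p ^ k = 1}
      one_mem' := ⟨one_mem _, by simp, 0, by simp⟩
      mul_mem' := by
        rintro a b ⟨ha, ha', k, hk⟩ ⟨hb, hb', j, hj⟩
        refine ⟨mul_mem ha hb, fun n hn => by rw [mul_assoc, hb' n hn, ← mul_assoc, ha' n hn, mul_assoc],
          k + j, ?_⟩
        rw [(cm a b ha hb ha' ⟨k, hk⟩).mul_pow, pow_add, pow_mul, hk, mul_comm (p ^ k), pow_mul, hj]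
        simp
      inv_mem' := by
        rintro a ⟨ha, ha', k, hk⟩
        exact ⟨inv_mem ha, fun n hn => by
          rw [inv_mul_eq_iff_eq_mul, ← mul_assoc, ha' n hn, mul_inv_cancel_right], k, by simp [hk]⟩ }
  haveI : C.Normal := ⟨by
    rintro a ⟨ha, ha', k, hk⟩ g
    refine ⟨hA.conj_mem a ha g, fun n hn => ?_, k, by rw [conj_pow, hk]; simp⟩
    have := ha' _ (Subgroup.Normal.conj_mem inferInstance n hn g⁻¹)
    calc g * a * g⁻¹ * n = g * (a * (g⁻¹ * n * g⁻¹⁻¹)) * g⁻¹ := by group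
      _ = _ := by rw [this]; group⟩
  have hC : C = ⊥ := H1.eq_bot_of_pCore_eq_bot hO fun a => by
    obtain ⟨k, hk⟩ := a.2.2.2
    exact ⟨k, Subtype.ext hk⟩
  letI : CommGroup N := { (inferInstance : Group N) with
    mul_comm := fun a b => Subtype.ext (hN a a.2 b b.2) }
  letI : MulDistribMulAction G (N →* ℂˣ) :=
    { smul := fun g ν => ν.comp (MulAut.conjNormal g⁻¹).toMonoidHom
      one_smul := fun ν => MonoidHom.ext fun n => by
        change ν (MulAut.conjNormal (1 : G)⁻¹ n) = ν n; simp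
      mul_smul := fun g h ν => MonoidHom.ext fun n => by
        change ν (MulAut.conjNormal (g * h)⁻¹ n) = ν (MulAut.conjNormal h⁻¹ (MulAut.conjNormal g⁻¹ n))
        simp
      smul_mul := fun g a b => rfl
      smul_one := fun g => rfl }
  have sm : ∀ (g : G) (ν : N →* ℂˣ) (n : N), (g • ν) n = ν (MulAut.conjNormal g⁻¹ n) :=
    fun _ _ _ => rfl
  obtain ⟨l, hl⟩ := reg (D := N →* ℂˣ) A N (e := Nat.card N)
    (fun d => MonoidHom.ext fun n => by rw [MonoidHom.pow_apply, ← map_pow, pow_card_eq_one', map_one]; rfl)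
    (fun a ha b hb d => MonoidHom.ext fun n => by
      rw [smul_smul, smul_smul, sm, sm]
      congr 1
      apply Subtype.ext
      have := hN _ (h1 a ha b hb) n n.2
      simp only [MulAut.conjNormal_apply, inv_inv]
      calc (a * b)⁻¹ * n * (a * b) = (a * b)⁻¹ * (n * ⁅a, b⁆) * (b * a) := by group
        _ = _ := by rw [← this]; group)
    fun y hy hyN => by
      obtain ⟨k, hk⟩ := h2 y hy
      have hs : (y ^ Nat.card N) ^ p ^ k = 1 := by rw [← pow_mul, mul_comm, pow_mul, cN _ hk]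
      refine ⟨y ^ Nat.card N, Subgroup.npow_mem_zpowers _ _, p ^ k, hco k, hs, ?_⟩
      by_contra h
      push Not at h
      have : y ^ Nat.card N ∈ C := ⟨pow_mem hy _, fun n hn => by
        by_contra hne
        obtain ⟨ν, hν⟩ := CommGroup.exists_apply_ne_one_of_hasEnoughRootsOfUnity N ℂ
          (a := MulAut.conjNormal (y ^ Nat.card N)⁻¹ (⟨n, hn⟩ : N) * (⟨n, hn⟩ : N)⁻¹) fun e => hne (by
            have := congrArg Subtype.val (mul_inv_eq_one.1 e)
            simp only [MulAut.conjNormal_apply, inv_inv] at this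
            rw [mul_assoc, inv_mul_eq_iff_eq_mul] at this
            exact this.symm)
        apply hν
        rw [map_mul, ← sm, h, map_inv, mul_inv_cancel], k, hs⟩
      rw [hC, Subgroup.mem_bot] at this
      apply hyN
      rw [← QuotientGroup.eq_one_iff, ← orderOf_eq_one_iff]
      refine Nat.eq_one_of_dvd_coprimes (hco k) (orderOf_dvd_of_pow_eq_one ?_)
        (orderOf_dvd_of_pow_eq_one ?_)
      · rw [← QuotientGroup.mk_pow, QuotientGroup.eq_one_iff]; exact hk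
      · rw [← QuotientGroup.mk_pow, this]; rfl
  have hθ := isIrrCharacter_hom l
  obtain ⟨χ, hχ, h⟩ := exists_irr_over (G := G) hθ
  obtain ⟨ψ, -, rfl, -⟩ := corr_surj hθ le_rfl (le_inertia hθ.isClassFunction) hχ h
  refine ⟨_, hχ, mul_eq_zero_of_right _ (sum_eq_zero fun g _ => ?_)⟩
  refine Function.extend_apply' _ _ _ ?_
  rintro ⟨⟨a, ha⟩, e⟩
  have e : a = g⁻¹ * x * g := e
  have hm : a⁻¹ ∈ A := inv_mem (by simpa [e] using hA.conj_mem x hx g⁻¹)
  have := hl _ hm (MonoidHom.ext fun n => Units.ext (by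
    rw [sm, inv_inv]; exact mem_inertia'.1 ha n))
  apply hxN
  simpa [e, mul_assoc] using Subgroup.Normal.conj_mem inferInstance _ (inv_mem this) g

omit hp in
theorem vanB [Finite G] (Z : Subgroup G) [hZ : Z.Normal] (hZ0 : Z ≠ ⊥) {x : G}
    (h : ∀ z ∈ Z, IsConj x (x * z)) :
    Van x := by
  have := Fintype.ofFinite Z
  obtain ⟨⟨z, hz⟩, hz1⟩ := Subgroup.ne_bot_iff_exists_ne_one.1 hZ0
  obtain ⟨χ, hχ, hk⟩ := exists_irr_not_mem_charKer (g := z) fun e => hz1 (Subtype.ext e)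
  refine ⟨χ, hχ, ?_⟩
  obtain ⟨n, ρ, hρ, rfl⟩ := hχ
  rw [mem_charKer_character] at hk
  obtain ⟨c, hc⟩ := exists_scalar_of_commute ρ (∑ w : Z, ρ w) fun g => by
    change (∑ w : Z, ρ w) * ρ g = ρ g * ∑ w : Z, ρ w
    rw [sum_mul, mul_sum]
    refine (Fintype.sum_equiv (MulAut.conjNormal g).toEquiv _ _ fun w => ?_).symm
    rw [← map_mul, ← map_mul]; simp
  have h1 : ρ z * ∑ w : Z, ρ w = ∑ w : Z, ρ w := by
    rw [mul_sum]
    exact Fintype.sum_equiv (Equiv.mulLeft (⟨z, hz⟩ : Z)) _ _ fun w => (map_mul ρ _ _).symm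
  have h2 : c = 0 := by
    by_contra h0
    apply hk
    rw [hc] at h1
    have h3 : c • ρ z = c • LinearMap.id := by
      rw [← h1]; ext v; simp
    exact smul_right_injective _ h0 h3
  have h3 : ∑ w : Z, ρ.character (x * w) = 0 := by
    simp only [Representation.character, map_mul, ← map_sum, ← mul_sum, hc, h2, zero_smul]
    simp
  rw [sum_congr rfl (g := fun _ => ρ.character x), sum_const, nsmul_eq_mul] at h3
  · exact (mul_eq_zero.1 h3).resolve_left (Nat.cast_ne_zero.2 Fintype.card_ne_zero)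
  · intro w _
    obtain ⟨g, hg⟩ := isConj_iff.1 (h w w.2)
    rw [← hg, ρ.char_conj]

theorem geom_zero {V : Type*} [AddCommGroup V] {x : Module.End ℤ V} {q : ℕ} (hx : x ^ q = 1)
    (h : ∀ v, x v = v → v = 0) : ∑ i ∈ range q, x ^ i = 0 := by
  ext v
  apply h
  have := mul_geom_sum x q
  rw [hx, sub_self, sub_mul, one_mul, sub_eq_zero] at this
  exact LinearMap.congr_fun this v

theorem fpf_le [Finite G] (N R : Subgroup G) [N.Normal] (hN0 : N ≠ ⊥)
    (hN : ∀ x ∈ N, ∀ y ∈ N, x * y = y * x) (hpN : ¬ p ∣ Nat.card N)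
    (h1 : ∀ r ∈ R, r ^ p = 1) (h2 : ∀ r ∈ R, r ≠ 1 → ∀ n ∈ N, r * n = n * r → n = 1) :
    ¬ p ^ 2 ∣ Nat.card R := fun hd => by
  have hR : IsPGroup p R := fun r => ⟨1, Subtype.ext (by simpa using h1 r r.2)⟩
  have hlt : p < Nat.card R := lt_of_lt_of_le (by nlinarith [hp.out.one_lt])
    (Nat.le_of_dvd Nat.card_pos hd)
  have : Nontrivial R := Finite.one_lt_card_iff_nontrivial.1 (hp.out.one_lt.trans hlt)
  have := hR.center_nontrivial
  obtain ⟨⟨x, hx⟩, hx1⟩ := exists_ne (1 : Subgroup.center R)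
  have hx1 : x ≠ 1 := fun e => hx1 (Subtype.ext e)
  have ox : orderOf x = p := orderOf_eq_prime (Subtype.ext (h1 x x.2)) hx1
  obtain ⟨y, hy⟩ : ∃ y, y ∉ Subgroup.zpowers x := by
    by_contra h
    push Not at h
    rw [← ox, ← Nat.card_zpowers, (Subgroup.eq_top_iff' _).2 h, Subgroup.card_top] at hlt
    exact hlt.false
  letI : CommGroup N := { (inferInstance : Group N) with
    mul_comm := fun a b => Subtype.ext (hN a a.2 b b.2) }
  let φ : R →* Module.End ℤ (Additive N) :=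
    { toFun := fun g => (MonoidHom.toAdditive (MulAut.conjNormal (g : G)).toMonoidHom).toIntLinearMap
      map_one' := LinearMap.ext fun v => by simp
      map_mul' := fun g h => LinearMap.ext fun v => by simp }
  have hφ : ∀ r : R, r ≠ 1 → ∑ i ∈ range p, φ r ^ i = 0 := fun r hr => geom_zero
    (by rw [← map_pow, show r ^ p = 1 from Subtype.ext (h1 r r.2), map_one]) fun v hv => by
      have : (r : G) * (v.toMul : N) * (r : G)⁻¹ = (v.toMul : N) :=
        congrArg (fun w : Additive N => (w.toMul : G)) hv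
      exact Subtype.ext (h2 r r.2 (fun e => hr (Subtype.ext e)) _ (v.toMul).2
        (mul_inv_eq_iff_eq_mul.1 this))
  have hc : Commute x y := (Subgroup.mem_center_iff.1 hx y).symm
  have e1 : ∑ i ∈ range p, ∑ j ∈ range p, φ (x ^ i * y) ^ j = 0 :=
    sum_eq_zero fun i _ => hφ _ fun e => hy (by
      rw [eq_inv_of_mul_eq_one_right e]; exact inv_mem (Subgroup.npow_mem_zpowers x i))
  rw [sum_comm, sum_eq_single_of_mem 0 (mem_range.2 hp.out.pos)] at e1
  · simp only [pow_zero, sum_const, card_range] at e1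
    obtain ⟨v, hv⟩ := Subgroup.ne_bot_iff_exists_ne_one.1 hN0
    have h3 : v ^ p = 1 := LinearMap.congr_fun e1 (Additive.ofMul v)
    exact hpN (orderOf_eq_prime h3 hv ▸ orderOf_dvd_natCard v)
  · intro j hj hj0
    rw [sum_congr rfl (g := fun i => φ (x ^ j) ^ i * φ (y ^ j)), ← sum_mul,
      hφ _ (pow_ne_one_of_lt_orderOf hj0 (ox ▸ mem_range.1 hj)), zero_mul]
    intro i _
    rw [← map_pow, ← map_pow, ← map_mul, (hc.pow_left i).mul_pow j, ← pow_mul, ← pow_mul, mul_comm i]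

theorem exists_ab [Finite G] [Group.IsSolvable G] [Nontrivial G] (hO : pCore p G = ⊥) :
    ∃ N : Subgroup G, N.Normal ∧ N ≠ ⊥ ∧ (∀ x ∈ N, ∀ y ∈ N, x * y = y * x) ∧ ¬ p ∣ Nat.card N := by
  obtain ⟨N, ⟨hN, h0⟩, hmin⟩ := (wellFounded_lt (α := Subgroup G)).has_min
    {N | N.Normal ∧ N ≠ ⊥} ⟨⊤, inferInstance, top_ne_bot⟩
  have hc : ∀ x ∈ N, ∀ y ∈ N, x * y = y * x := fun x hx y hy => by
    have : ⁅N, N⁆ = ⊥ := by
      by_contra h
      exact hmin _ ⟨inferInstance, h⟩ (Group.IsSolvable.commutator_lt_of_ne_bot h0)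
    exact commutatorElement_eq_one_iff_mul_comm.1
      (Subgroup.mem_bot.1 (this ▸ Subgroup.commutator_mem_commutator hx hy))
  refine ⟨N, hN, h0, hc, fun h => ?_⟩
  let C : Subgroup G :=
    { carrier := {a | a ∈ N ∧ a ^ p = 1}
      one_mem' := ⟨one_mem _, one_pow _⟩
      mul_mem' := fun {a b} ha hb => ⟨mul_mem ha.1 hb.1, by
        rw [Commute.mul_pow (hc a ha.1 b hb.1), ha.2, hb.2, one_mul]⟩
      inv_mem' := fun {a} ha => ⟨inv_mem ha.1, by rw [inv_pow, ha.2, inv_one]⟩ }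
  haveI : C.Normal := ⟨fun a ha g => ⟨hN.conj_mem a ha.1 g, by rw [conj_pow, ha.2]; simp⟩⟩
  have hC : C = ⊥ := H1.eq_bot_of_pCore_eq_bot hO fun a => ⟨1, Subtype.ext (by simpa using a.2.2)⟩
  obtain ⟨x, hx⟩ := exists_prime_orderOf_dvd_card' p h
  have : (x : G) ∈ C := ⟨x.2, by rw [← hx]; exact congrArg Subtype.val (pow_orderOf_eq_one x)⟩
  rw [hC, Subgroup.mem_bot] at this
  rw [show x = 1 from Subtype.ext this, orderOf_one] at hx
  exact hp.out.one_lt.ne hx

theorem lift [Finite G] (N : Subgroup G) [N.Normal] (hpN : ¬ p ∣ Nat.card N) (S : Subgroup (G ⧸ N))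
    (hS : IsPGroup p S) : ∃ R : Subgroup G, IsPGroup p R ∧ Nat.card S ∣ Nat.card R ∧
      ∀ r ∈ R, (r : G ⧸ N) ∈ S ∧ (r ≠ 1 → (r : G ⧸ N) ≠ 1) := by
  obtain ⟨P⟩ : Nonempty (Sylow p (S.comap (QuotientGroup.mk' N))) := inferInstance
  have hP := P.isPGroup'.map (S.comap (QuotientGroup.mk' N)).subtype
  refine ⟨_, hP, ?_, fun r hr => ⟨Subgroup.map_subtype_le (H := S.comap (QuotientGroup.mk' N)) _ hr,
    fun h1 h => h1 ?_⟩⟩
  · obtain ⟨k, hk⟩ := IsPGroup.iff_card.1 hS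
    rw [Subgroup.card_map_of_injective (Subgroup.subtype_injective _), hk]
    apply P.pow_dvd_card_of_pow_dvd_card
    rw [← hk]
    exact Subgroup.card_dvd_of_surjective ((QuotientGroup.mk' N).subgroupComap S)
      (MonoidHom.subgroupComap_surjective_of_surjective _ _ (QuotientGroup.mk'_surjective N))
  · obtain ⟨k, hk⟩ := hP ⟨r, hr⟩
    exact orderOf_eq_one_iff.1 (Nat.eq_one_of_dvd_coprimes
      ((hp.out.coprime_iff_not_dvd.2 hpN).pow_left k)
      (orderOf_dvd_of_pow_eq_one (congrArg Subtype.val hk))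
      (Subgroup.orderOf_dvd_natCard N ((QuotientGroup.eq_one_iff r).1 h)))

/-- centre of the `p`-core -/
def zc (p : ℕ) (G : Type*) [Group G] : Subgroup G := pCore p G ⊓ Subgroup.centralizer (pCore p G)

instance zc_normal : (zc p G).Normal := by unfold zc; infer_instance

theorem zc_ne_bot [Finite G] (h : pCore p G ≠ ⊥) : zc p G ≠ ⊥ := by
  have := (Subgroup.nontrivial_iff_ne_bot _).2 h
  have := (H1.pCore_isPGroup p G).center_nontrivial
  obtain ⟨⟨x, hx⟩, hx1⟩ := exists_ne (1 : Subgroup.center (pCore p G))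
  refine Subgroup.ne_bot_iff_exists_ne_one.2 ⟨⟨x, x.2, fun y hy => ?_⟩, fun e => hx1 ?_⟩
  · exact congrArg Subtype.val (Subgroup.mem_center_iff.1 hx ⟨y, hy⟩)
  · have : (x : G) = 1 := congrArg Subtype.val e
    exact Subtype.ext (Subtype.ext this)

theorem van_zc [Finite G] (hO : pCore p G = ⊥) (N : Subgroup G) [N.Normal]
    (hN : ∀ x ∈ N, ∀ y ∈ N, x * y = y * x) (hpN : ¬ p ∣ Nat.card N) {x : G}
    (hx : (x : G ⧸ N) ∈ zc p (G ⧸ N)) (h1 : (x : G ⧸ N) ≠ 1) : Van x := by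
  refine vanA hO N ((zc p (G ⧸ N)).comap (QuotientGroup.mk' N)) hN hpN (fun a ha b hb => ?_)
    (fun a ha => ?_) hx fun h => h1 ((QuotientGroup.eq_one_iff x).2 h)
  · rw [← QuotientGroup.eq_one_iff, ← QuotientGroup.mk'_apply, map_commutatorElement,
      commutatorElement_eq_one_iff_mul_comm]
    exact hb.2 _ ha.1
  · obtain ⟨k, hk⟩ := H1.pCore_isPGroup p (G ⧸ N) ⟨_, ha.1⟩
    exact ⟨k, (QuotientGroup.eq_one_iff _).1 (congrArg Subtype.val hk)⟩

theorem exists_van (n : ℕ) : ∀ (G : Type u) [Group G] [Finite G] [Group.IsSolvable G],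
    Nat.card G ≤ n → pCore p G = ⊥ → p ∣ Nat.card G →
    ∃ R : Subgroup G, IsPGroup p R ∧ R ≠ ⊥ ∧ ∀ r ∈ R, r ≠ 1 → Van r := by
  induction n with
  | zero => intro G _ _ _ h; have := Nat.card_pos (α := G); omega
  | succ n ih =>
  intro G _ _ _ hn hO hd
  have : Nontrivial G := Finite.one_lt_card_iff_nontrivial.1
    (hp.out.one_lt.trans_le (Nat.le_of_dvd Nat.card_pos hd))
  obtain ⟨N, _, h0, hN, hpN⟩ := exists_ab hO
  have key : ∀ S : Subgroup (G ⧸ N), IsPGroup p S → S ≠ ⊥ →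
      (∀ r : G, (r : G ⧸ N) ∈ S → (r : G ⧸ N) ≠ 1 → Van r) →
      ∃ R : Subgroup G, IsPGroup p R ∧ R ≠ ⊥ ∧ ∀ r ∈ R, r ≠ 1 → Van r := fun S h1 h2 h3 => by
    obtain ⟨R, i1, i2, i3⟩ := lift N hpN S h1
    refine ⟨R, i1, fun h => h2 ?_, fun r hr hr1 => h3 r (i3 r hr).1 ((i3 r hr).2 hr1)⟩
    rwa [h, Subgroup.card_bot, Nat.dvd_one, Subgroup.card_eq_one] at i2
  by_cases hE : pCore p (G ⧸ N) = ⊥
  · have e := Subgroup.card_eq_card_quotient_mul_card_subgroup N
    have := (Subgroup.one_lt_card_iff_ne_bot N).2 h0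
    have := Nat.card_pos (α := G ⧸ N)
    obtain ⟨S, h1, h2, h3⟩ := ih (G ⧸ N) (by nlinarith) hE
      (((Nat.Prime.dvd_mul hp.out).1 (e ▸ hd)).resolve_right hpN)
    exact key S h1 h2 fun r hr hr1 => (h3 _ hr hr1).comap (QuotientGroup.mk' N)
      (QuotientGroup.mk'_surjective N)
  · exact key _ ((H1.pCore_isPGroup p _).to_le inf_le_left) (zc_ne_bot hE)
      fun r hr hr1 => van_zc hO N hN hpN hr hr1

/-- the hypothesis on `p`-singular vanishing elements -/
structure Hyp (p : ℕ) (G : Type*) [Group G] : Prop where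
  h1 : ∀ x y : G, Van x → Van y → x ≠ 1 → (∃ k, x ^ p ^ k = 1) → p ∣ orderOf y → ∃ k, y ^ p ^ k = 1
  h2 : ∀ x : G, Van x → Van (x ^ p) → ¬ p ∣ orderOf (x ^ p)

theorem Hyp.quot [Finite G] (h : Hyp p G) (N : Subgroup G) [N.Normal] : Hyp p (G ⧸ N) := by
  have hs := QuotientGroup.mk'_surjective N
  refine ⟨fun x y hx hy hx1 ⟨k, hk⟩ hd => ?_, fun x hx hx' hd => ?_⟩
  · obtain ⟨y, rfl⟩ := hs y
    obtain ⟨P⟩ : Nonempty (Sylow p G) := inferInstance
    obtain ⟨Q, hQ⟩ := IsPGroup.exists_le_sylow (p := p) (P := Subgroup.zpowers x)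
      (IsPGroup.of_card_dvd_pow (n := k) (by
        rw [Nat.card_zpowers]; exact orderOf_dvd_of_pow_eq_one hk))
    obtain ⟨P, rfl⟩ := Sylow.mapSurjective_surjective hs p Q
    obtain ⟨x, hxP, rfl⟩ := hQ (Subgroup.mem_zpowers x)
    obtain ⟨j, hj⟩ := P.isPGroup' ⟨x, hxP⟩
    obtain ⟨i, hi⟩ := h.h1 x y (hx.comap _ hs) (hy.comap _ hs) (fun e => hx1 (by rw [e, map_one]))
      ⟨j, congrArg Subtype.val hj⟩ (hd.trans (orderOf_map_dvd _ _))
    exact ⟨i, by rw [← map_pow, hi, map_one]⟩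
  · obtain ⟨x, rfl⟩ := hs x
    rw [← map_pow] at hx' hd
    exact h.h2 x (hx.comap _ hs) (hx'.comap _ hs) (hd.trans (orderOf_map_dvd _ _))

omit hp in
theorem dvd_orderOf [hp : Fact p.Prime] {x : G} (h1 : x ≠ 1) (h : ∃ k, x ^ p ^ k = 1) :
    p ∣ orderOf x := by
  obtain ⟨k, hk⟩ := h
  obtain ⟨j, -, hj⟩ := (Nat.dvd_prime_pow hp.out).1 (orderOf_dvd_of_pow_eq_one hk)
  rw [hj]
  exact dvd_pow_self p fun e => h1 (orderOf_eq_one_iff.1 (by rw [hj, e, pow_zero]))

theorem not_sq_dvd (n : ℕ) : ∀ (G : Type u) [Group G] [Finite G] [Group.IsSolvable G],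
    Nat.card G ≤ n → Hyp p G → ¬ p ^ 2 ∣ (pCore p G).index := by
  induction n with
  | zero => intro G _ _ _ h; have := Nat.card_pos (α := G); omega
  | succ n ih =>
  intro G _ _ _ hn hG hd
  have lt : ∀ N : Subgroup G, N ≠ ⊥ → Nat.card (G ⧸ N) ≤ n := fun N h0 => by
    have e := Subgroup.card_eq_card_quotient_mul_card_subgroup N
    have := (Subgroup.one_lt_card_iff_ne_bot N).2 h0
    have := Nat.card_pos (α := G ⧸ N)
    nlinarith
  by_cases hO : pCore p G = ⊥
  swap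
  · refine ih _ (lt _ hO) (hG.quot _) ?_
    rwa [H1.pCore_quotient_eq_bot, Subgroup.index_bot]
  rw [hO, Subgroup.index_bot] at hd
  have : Nontrivial G := Finite.one_lt_card_iff_nontrivial.1
    ((Nat.one_lt_pow two_ne_zero hp.out.one_lt).trans_le (Nat.le_of_dvd Nat.card_pos hd))
  obtain ⟨N, _, h0, hN, hpN⟩ := exists_ab hO
  have hs := QuotientGroup.mk'_surjective N
  have hQ := ih _ (lt N h0) (hG.quot N)
  have hdQ : p ^ 2 ∣ Nat.card (G ⧸ N) := ((hp.out.coprime_iff_not_dvd.2 hpN).pow_left 2).dvd_of_dvd_mul_right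
    (Subgroup.card_eq_card_quotient_mul_card_subgroup N ▸ hd)
  have hE : pCore p (G ⧸ N) ≠ ⊥ := fun h => hQ (by rwa [h, Subgroup.index_bot])
  have hEp := H1.pCore_isPGroup p (G ⧸ N)
  have good : ∀ S : Subgroup (G ⧸ N), IsPGroup p S →
      (∀ r : G, (r : G ⧸ N) ∈ S → (r : G ⧸ N) ≠ 1 → Van r) → ¬ p ^ 2 ∣ Nat.card S :=
    fun S h1 h2 h3 => by
    obtain ⟨R, i1, i2, i3⟩ := lift N hpN S h1
    have pe : ∀ r ∈ R, ∃ k, r ^ p ^ k = 1 := fun r hr => (i1 ⟨r, hr⟩).imp fun k hk =>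
      congrArg Subtype.val hk
    refine fpf_le N R h0 hN hpN (fun r hr => ?_) (fun r hr hr1 m hm hc => ?_) (h3.trans i2)
    · by_contra h
      have hr1 : r ≠ 1 := fun e => h (by rw [e, one_pow])
      have hr' := pow_mem hr p
      exact hG.h2 r (h2 r (i3 r hr).1 ((i3 r hr).2 hr1)) (h2 _ (i3 _ hr').1 ((i3 _ hr').2 h))
        (dvd_orderOf h (pe _ hr'))
    · have e : ((r * m : G) : G ⧸ N) = r := QuotientGroup.mk_mul_of_mem r hm
      have e1 := (i3 r hr).2 hr1
      obtain ⟨j, hj⟩ := pe r hr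
      obtain ⟨k, hk⟩ := hG.h1 r (r * m) (h2 r (i3 r hr).1 e1) (h2 _ (e ▸ (i3 r hr).1) (e ▸ e1)) hr1
        ⟨j, hj⟩ ((dvd_orderOf (x := ((r * m : G) : G ⧸ N)) (e ▸ e1)
          ⟨j, by rw [e, ← QuotientGroup.mk_pow, hj]; rfl⟩).trans
          (orderOf_map_dvd (QuotientGroup.mk' N) (r * m)))
      have : m ^ p ^ (j + k) = 1 := by
        have := congrArg (· ^ p ^ j) hk
        simp only [one_pow] at this
        rwa [← pow_mul, Commute.mul_pow hc, mul_comm (p ^ k), pow_mul r, hj, one_pow, one_mul,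
          ← pow_add] at this
      exact orderOf_eq_one_iff.1 (Nat.eq_one_of_dvd_coprimes
        ((hp.out.coprime_iff_not_dvd.2 hpN).pow_left _) (orderOf_dvd_of_pow_eq_one this)
        (Subgroup.orderOf_dvd_natCard N hm))
  set Q := G ⧸ N
  set E := pCore p Q
  have hZp : IsPGroup p (zc p Q) := hEp.to_le inf_le_left
  have vz : ∀ r : G, (r : Q) ∈ zc p Q → (r : Q) ≠ 1 → Van r := fun r => van_zc hO N hN hpN
  have cardp : ∀ S : Subgroup Q, IsPGroup p S → ¬ p ^ 2 ∣ Nat.card S → Nat.card S ∣ p :=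
    fun S h1 h2 => by
    obtain ⟨k, hk⟩ := IsPGroup.iff_card.1 h1
    rw [hk] at h2 ⊢
    simpa using pow_dvd_pow p (show k ≤ 1 by
      by_contra h; exact h2 (pow_dvd_pow p (by omega)))
  have hZ : Nat.card (zc p Q) = p := ((Nat.dvd_prime hp.out).1 (cardp _ hZp (good _ hZp vz))).resolve_left
    fun h => zc_ne_bot hE (Subgroup.card_eq_one.1 h)
  let W : Subgroup Q := E ⊓ (Subgroup.centralizer (E.map (QuotientGroup.mk' (zc p Q)))).comap
    (QuotientGroup.mk' (zc p Q))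
  have hW : W ≤ zc p Q := by
    have h1 := cardp W (hEp.to_le inf_le_left) (good W (hEp.to_le inf_le_left) fun r hr hr1 => by
      by_cases hz : (r : Q) ∈ zc p Q
      · exact vz r hz hr1
      refine Van.comap (QuotientGroup.mk' N) hs (vanB (zc p Q) (zc_ne_bot hE) fun z hzz => ?_)
      obtain ⟨y, hy, hne⟩ : ∃ y ∈ E, y * r ≠ r * y := by
        by_contra h
        push Not at h
        exact hz ⟨hr.1, h⟩
      have hm : (r : Q)⁻¹ * y * r * y⁻¹ ∈ zc p Q := by
        rw [← QuotientGroup.eq_one_iff]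
        have := hr.2 _ ⟨y, hy, rfl⟩
        simp only [QuotientGroup.mk'_apply] at this
        simp only [QuotientGroup.mk_mul, QuotientGroup.mk_inv]
        rw [mul_assoc _ _ (((r : Q) : Q ⧸ zc p Q)), this]; simp
      set c := (r : Q)⁻¹ * y * r * y⁻¹ with hc
      have hc1 : (⟨c, hm⟩ : zc p Q) ≠ 1 := fun e => hne (by
        have : c = 1 := congrArg Subtype.val e
        rw [hc, mul_inv_eq_one, mul_assoc, inv_mul_eq_iff_eq_mul] at this
        exact this)
      obtain ⟨i, hi⟩ := mem_powers_of_prime_card hZ hc1 (g' := ⟨z, hzz⟩)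
      replace hi : c ^ i = z := congrArg Subtype.val hi
      rw [← hi]
      clear hi
      have e1 : y ^ i * r * (y ^ i)⁻¹ = r * c ^ i := by
        induction i with
        | zero => simp
        | succ i ih =>
          have := (pow_mem hm i).2 y hy
          have e0 : y * r * y⁻¹ = r * c := by rw [hc]; group
          calc y ^ (i + 1) * r * (y ^ (i + 1))⁻¹ = y * (y ^ i * r * (y ^ i)⁻¹) * y⁻¹ := by group
            _ = y * r * y⁻¹ * (y * c ^ i) * y⁻¹ := by rw [ih]; simp [mul_assoc]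
            _ = _ := by rw [this, e0, pow_succ']; simp [mul_assoc]
      exact isConj_iff.2 ⟨_, e1⟩)
    refine (Subgroup.eq_of_le_of_card_ge (H := zc p Q) (K := W) (fun x hx => ⟨hx.1, fun y _ => ?_⟩)
      ((Nat.le_of_dvd hp.out.pos h1).trans hZ.ge)).ge
    rw [QuotientGroup.mk'_apply, (QuotientGroup.eq_one_iff x).2 hx]; simp
  have hEZ : E ≤ zc p Q := by
    by_contra h
    have h1 : E.map (QuotientGroup.mk' (zc p Q)) ≠ ⊥ := fun e => h (by
      rwa [Subgroup.map_eq_bot_iff, QuotientGroup.ker_mk'] at e)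
    have := (Subgroup.nontrivial_iff_ne_bot _).2 h1
    have := (hEp.map (QuotientGroup.mk' (zc p Q))).center_nontrivial
    obtain ⟨⟨⟨_, x, hxE, rfl⟩, hx⟩, hx1⟩ := exists_ne (1 : Subgroup.center (E.map (QuotientGroup.mk' (zc p Q))))
    refine hx1 (Subtype.ext (Subtype.ext ((QuotientGroup.eq_one_iff x).2 (hW ⟨hxE, fun y hy => ?_⟩))))
    exact congrArg Subtype.val (Subgroup.mem_center_iff.1 hx ⟨y, hy⟩)
  have hEc : Nat.card E = p := by rw [← hZ, le_antisymm hEZ inf_le_left]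
  have e := Subgroup.card_eq_card_quotient_mul_card_subgroup E
  rw [e, hEc, pow_two] at hdQ
  obtain ⟨S, h1, h2, h3⟩ := exists_van _ (Q ⧸ E) le_rfl (H1.pCore_quotient_eq_bot p Q)
    (Nat.dvd_of_mul_dvd_mul_right hp.out.pos hdQ)
  refine good (S.comap (QuotientGroup.mk' E)) (h1.comap_of_ker_isPGroup _ (by
    rwa [QuotientGroup.ker_mk'])) (fun r hr hr1 => ?_) ?_
  · by_cases hz : (r : Q) ∈ E
    · exact vz r (hEZ hz) hr1
    · exact Van.comap (QuotientGroup.mk' N) hs (Van.comap (QuotientGroup.mk' E)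
        (QuotientGroup.mk'_surjective E) (h3 _ hr fun e => hz ((QuotientGroup.eq_one_iff _).1 e)))
  · rw [show Nat.card (S.comap (QuotientGroup.mk' E)) = _ from
      Nat.card_congr (QuotientGroup.preimageMkEquivSubgroupProdSet E S), Nat.card_prod, hEc, pow_two]
    obtain ⟨k, hk⟩ := IsPGroup.iff_card.1 h1
    refine Nat.mul_dvd_mul_left p ?_
    change p ∣ Nat.card S
    rw [hk]
    exact dvd_pow_self p fun e => h2 (Subgroup.card_eq_one.1 (by rw [hk, e, pow_zero]))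

theorem hyp_of [Finite G] (h : ∀ x y : G, Van x → Van y → p ∣ orderOf x → p ∣ orderOf y →
    orderOf x = orderOf y) : Hyp p G := by
  refine ⟨fun x y hx hy hx1 ⟨k, hk⟩ hd => ⟨k, ?_⟩, fun x hx hx' hd => ?_⟩
  · rw [← orderOf_dvd_iff_pow_eq_one, ← h x y hx hy (dvd_orderOf hx1 ⟨k, hk⟩) hd]
    exact orderOf_dvd_of_pow_eq_one hk
  · have h1 := hd.trans (orderOf_pow_dvd p)
    have := h x _ hx hx' h1 hd
    rw [orderOf_pow_of_dvd hp.out.ne_zero h1] at this
    exact (Nat.div_lt_self (orderOf_pos x) hp.out.one_lt).ne' this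

theorem card_map_dvd {G : Type u} [Group G] [Finite G] [Group.IsSolvable G] (h : Hyp p G)
    (P : Sylow p G) : Nat.card ((P : Subgroup G).map (QuotientGroup.mk' (pCore p G))) ∣ p := by
  obtain ⟨k, hk⟩ := IsPGroup.iff_card.1 (P.isPGroup'.map (QuotientGroup.mk' (pCore p G)))
  have h2 := not_sq_dvd _ G le_rfl h
  have h3 := Subgroup.card_subgroup_dvd_card ((P : Subgroup G).map (QuotientGroup.mk' (pCore p G)))
  rw [hk] at h3 ⊢
  simpa using pow_dvd_pow p (show k ≤ 1 by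
    by_contra h; exact h2 ((pow_dvd_pow p (by omega)).trans h3))

end H2.Van
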