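import Cfsg.Agent.S3035
import Cfsg.Agent.H3.HallTransfer
import Cfsg.Agent.H10.Loc
import Cfsg.Agent.H10.SL
import Cfsg.Agent.H9.InvCount
import Cfsg.Agent.H9.MC

/-! Groups with an involution centralizer `Z₂ × S₄` and `C(S') = S`: fusion, transfer (`ZS.Hy.exists_M`) and the
identification with `S₆` (`ZS.Hy.main`). -/

set_option autoImplicit false
set_option linter.unusedSectionVars false

namespace H2.ZS
open Subgroup Cfsg H18 Equiv
open scoped commutatorElement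

abbrev H0 := ℤˣ × Perm (Fin 4)
def τ : H0 := (-1, 1)
def ζ : H0 := (1, swap 0 1 * swap 2 3)
def β : H0 := (1, swap 0 1)
def ρ : H0 := (1, swap 0 3 * swap 0 1 * swap 0 2)
def ω : H0 := (1, swap 0 1 * swap 1 2)
def α : H0 →* H0 := (MonoidHom.fst _ _ * Perm.sign.comp (MonoidHom.snd _ _)).prod (MonoidHom.snd _ _)

theorem card0 : Nat.card H0 = 48 := by simp [Fintype.card_perm]; rfl
theorem cardD : Nat.card (C1(ζ) : Subgroup H0) = 16 := by
  rw [← (Nat.card_congr (Equiv.subtypeEquivRight fun x => mem_C1 (x := x) (y := ζ))).symm, Nat.card_eq_fintype_card]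
  decide +kernel
theorem d1 : ∀ y : H0, y * ζ = ζ * y → y ^ 4 = 1 ∧ (y * y = 1 ∨ y * y = ζ) := by decide +kernel
theorem d2 : ∀ a b : H0, a * a = 1 → b * b = 1 → a * b = b * a →
    ∃ c : H0, a * (c * ζ * c⁻¹) = c * ζ * c⁻¹ * a ∧ b * (c * ζ * c⁻¹) = c * ζ * c⁻¹ * b := by
  have : ∀ a b : H0, a * a = 1 → b * b = 1 → a * b = b * a → ∃ c ∈ [1, ω, ω * ω],
    a * (c * ζ * c⁻¹) = c * ζ * c⁻¹ * a ∧ b * (c * ζ * c⁻¹) = c * ζ * c⁻¹ * b := by decide +kernel
  exact fun a b h1 h2 h3 => let ⟨c, _, h⟩ := this a b h1 h2 h3; ⟨c, h⟩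
theorem d3 : ∀ y : H0, y * ζ = ζ * y → y * β = β * y → y = 1 ∨ y = ζ ∨ y = τ * ζ ∨ y = τ ∨
    y = β ∨ y = ρ * β * ρ⁻¹ ∨ y = τ * β ∨ y = ρ * (τ * β) * ρ⁻¹ := by decide +kernel
theorem d4 : ∀ y : H0, y.1 = 1 → y * y = 1 → y = 1 ∨ ∃ c : H0, y = c * ζ * c⁻¹ ∨ y = c * β * c⁻¹ := by
  decide +kernel
theorem d5 : ∀ x ∈ [ρ, τ * ρ], x ^ 4 = 1 ∧ x ^ 2 ≠ 1 ∧ x * ζ = ζ * x := by decide +kernel
theorem d5' : ∀ x ∈ [ρ, τ * ρ], ∀ y : H0, y * ζ = ζ * y →
    (∃ i : Fin 4, y = x ^ i.1 ∨ y = τ * x ^ i.1) ∨ (y * y = 1 ∧ y * x * y⁻¹ = x⁻¹) := by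
  rintro x (_ | ⟨_, _ | ⟨_, ⟨⟩⟩⟩) <;> decide +kernel
theorem d6 : ∀ y : H0, y * ζ = ζ * y → y * ω = ω * y → y = 1 ∨ y = τ := by decide +kernel
theorem d7 : ∀ y : H0, y * τ = τ * y := by decide +kernel
theorem d8 : ∀ a b : H0, a * ζ = ζ * a → b * ζ = ζ * b → ⁅a, b⁆ = 1 ∨ ⁅a, b⁆ = ζ := by decide +kernel
theorem d9 (y : H0) (h : y * y = 1) : 8 ∣ Nat.card (C1(y) : Subgroup H0) := by
  rw [← (Nat.card_congr (Equiv.subtypeEquivRight fun x => mem_C1 (x := x) (y := y))).symm, Nat.card_eq_fintype_card]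
  revert y; decide +kernel
theorem αα (y : H0) : α (α y) = y := by
  ext <;> simp [α, mul_assoc]
theorem ατ : α τ = τ := by simp [α, τ]
theorem αζ : α ζ = ζ := by simp [α, ζ]
theorem αβ : α β = τ * β := by simp [α, β, τ]

universe u
variable {G : Type u} [Group G] [Finite G] {σ : H0 →* G} {M : Subgroup G} {g u : G}

structure Hy (σ : H0 →* G) : Prop where
  inj : Function.Injective σ
  rng : σ.range = C1(σ τ)
  cz : C1(σ ζ) ≤ C1(σ τ)
  odd : ¬ 2 ∣ C1(σ τ).index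

namespace Hy

theorem tw (h : Hy σ) : Hy (σ.comp α) where
  inj := h.inj.comp (Function.LeftInverse.injective αα)
  rng := by
    rw [MonoidHom.range_comp, MonoidHom.range_eq_top.2 (Function.RightInverse.surjective αα),
      ← MonoidHom.range_eq_map, MonoidHom.comp_apply, ατ, h.rng]
  cz := by simpa [ατ, αζ] using h.cz
  odd := by simpa [ατ] using h.odd

theorem ex (h : Hy σ) (hg : g * σ τ = σ τ * g) : ∃ y, σ y = g := by
  rwa [← mem_C1, ← h.rng] at hg

theorem com (h : Hy σ) {a b : H0} : σ a * σ b = σ b * σ a ↔ a * b = b * a := by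
  rw [← map_mul, ← map_mul, h.inj.eq_iff]

theorem exz (h : Hy σ) (hg : g ∈ C1(σ ζ)) : ∃ y, y * ζ = ζ * y ∧ σ y = g := by
  obtain ⟨y, rfl⟩ := h.ex (mem_C1.1 (h.cz hg))
  exact ⟨y, h.com.1 (mem_C1.1 hg), rfl⟩

theorem mapD (h : Hy σ) : C1(ζ).map σ = C1(σ ζ) := by
  refine le_antisymm ?_ fun g hg => ?_
  · rintro _ ⟨y, hy, rfl⟩; exact mem_C1.2 (h.com.2 (mem_C1.1 hy))
  · obtain ⟨y, hy, rfl⟩ := h.exz hg; exact ⟨y, mem_C1.2 hy, rfl⟩

theorem cardz (h : Hy σ) : Nat.card C1(σ ζ) = 16 := by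
  rw [← h.mapD, card_map_of_injective h.inj, cardD]

theorem cardt (h : Hy σ) : Nat.card C1(σ τ) = 48 := by
  rw [← h.rng, ← Nat.card_congr (MonoidHom.ofInjective h.inj).toEquiv, card0]

theorem oddz (h : Hy σ) : ¬ 2 ∣ C1(σ ζ).index := by
  have h1 := card_mul_relIndex h.cz
  rw [h.cardz, h.cardt] at h1
  rw [← relIndex_mul_index h.cz, show C1(σ ζ).relIndex C1(σ τ) = 3 by omega]
  have := h.odd; omega

theorem syl (h : Hy σ) : ∃ S : Sylow 2 G, (S : Subgroup G) = C1(σ ζ) :=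
  ⟨(IsPGroup.of_card (n := 4) h.cardz).toSylow h.oddz, rfl⟩

theorem eq_of_conj (h : Hy σ) {a b : H0} (ha : a ∈ [τ, ζ, τ * ζ]) (hb : b ∈ [τ, ζ, τ * ζ])
    (e : IsConj (σ a) (σ b)) : a = b := by
  obtain ⟨S, hS⟩ := h.syl
  have k : ∀ a ∈ [τ, ζ, τ * ζ], ∀ y : H0, y * ζ = ζ * y → y * a = a * y := by decide +kernel
  have k2 : ∀ a ∈ [τ, ζ, τ * ζ], σ a ∈ C(S) := fun a ha => mem_centralizer_iff.2 fun g hg => by
    obtain ⟨y, hy, rfl⟩ := h.exz (hS ▸ hg : g ∈ C1(σ ζ)); exact h.com.2 (k a ha y hy)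
  obtain ⟨g, hg⟩ := isConj_iff.1 e
  obtain ⟨n, hn, e⟩ := S.conj_eq_normalizer_conj_of_mem_centralizer (σ a) g⁻¹ (k2 a ha)
    (by rw [inv_inv, hg]; exact k2 b hb)
  have h1 : n⁻¹ ∈ C1(σ ζ) := by
    have h2 : n⁻¹ * σ ρ * n⁻¹⁻¹ ∈ (S : Subgroup G) :=
      (mem_normalizer_iff.1 (inv_mem hn) _).1 (hS ▸ mem_C1.2 (h.com.2 (by decide +kernel)) : σ ρ ∈ (S : Subgroup G))
    obtain ⟨y, hy, e⟩ := h.exz (hS ▸ h2)
    have e2 : σ (y * y) = n⁻¹ * σ ζ * n⁻¹⁻¹ := by
      rw [map_mul, e, show ζ = ρ * ρ by decide +kernel, map_mul]; group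
    rcases (d1 y hy).2 with e3 | e3 <;> rw [e3] at e2
    · rw [map_one, eq_comm, conj_eq_one_iff, map_eq_one_iff _ h.inj] at e2
      exact absurd e2 (by decide +kernel)
    · exact mem_C1.2 (mul_inv_eq_iff_eq_mul.1 e2.symm)
  rw [inv_inv, hg, mem_centralizer_iff.1 (k2 a ha) _ (hS ▸ h1 : n⁻¹ ∈ (S : Subgroup G)),
    inv_mul_cancel_right] at e
  exact (h.inj e).symm

theorem isConj_map (c a : H0) : IsConj (σ a) (σ (c * a * c⁻¹)) := isConj_iff.2 ⟨σ c, by simp⟩

theorem not_both (h : Hy σ) (h1 : IsConj (σ τ) (σ β)) (h2 : IsConj (σ τ) (σ (τ * β))) : False := by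
  obtain ⟨g, hg⟩ := isConj_iff.1 h1
  have k : ∀ a : H0, a * β = β * a → a * a = 1 → ∃ x, σ x = g⁻¹ * σ a * g ∧ x * x = 1 := fun a ha hb => by
    obtain ⟨x, hx⟩ := h.ex (g := g⁻¹ * σ a * g) (by
      have := h.com.2 ha
      rw [← hg] at this
      calc _ = g⁻¹ * (σ a * (g * σ τ * g⁻¹)) * g := by group
        _ = _ := by rw [this]; group)
    refine ⟨x, hx, h.inj ?_⟩
    rw [map_mul, hx, map_one]
    calc _ = g⁻¹ * σ (a * a) * g := by rw [map_mul]; group
      _ = 1 := by rw [hb, map_one]; group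
  obtain ⟨a, ha, a2⟩ := k τ (by decide +kernel) (by decide +kernel)
  obtain ⟨b, hb, b2⟩ := k ζ (by decide +kernel) (by decide +kernel)
  obtain ⟨c, c1, c2⟩ := d2 a b a2 b2 (h.com.1 (by
    rw [ha, hb]
    calc _ = g⁻¹ * (σ τ * σ ζ) * g := by group
      _ = _ := by rw [h.com.2 (d7 ζ).symm]; group))
  have k2 : ∀ {a' a}, σ a = g⁻¹ * σ a' * g → a * (c * ζ * c⁻¹) = c * ζ * c⁻¹ * a →
      g * σ (c * ζ * c⁻¹) * g⁻¹ * σ a' = σ a' * (g * σ (c * ζ * c⁻¹) * g⁻¹) := fun {a' a} e e' => by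
    have := h.com.2 e'
    rw [e] at this
    calc _ = g * (σ (c * ζ * c⁻¹) * (g⁻¹ * σ a' * g)) * g⁻¹ := by group
      _ = _ := by rw [← this]; group
  obtain ⟨y, hy⟩ := h.ex (k2 ha c1)
  have y1 : IsConj (σ ζ) (σ y) := (isConj_map c ζ).trans (isConj_iff.2 ⟨g, hy.symm⟩)
  have y2 : IsConj (σ (τ * ζ)) (σ (β * y)) := (isConj_map c _).trans (isConj_iff.2 ⟨g, by
    rw [← mul_assoc, d7 c, mul_assoc τ, mul_assoc τ, map_mul σ β, hy, ← hg, map_mul σ τ]; group⟩)
  have n1 : ¬ IsConj (σ ζ) (σ τ) := fun e => absurd (h.eq_of_conj (by simp) (by simp) e) (by decide +kernel)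
  rcases d3 y (h.com.1 (hy ▸ k2 hb c2)) (h.com.1 (hy ▸ k2 (a := τ) (by rw [← hg]; group) (d7 _).symm)) with
    rfl | rfl | rfl | rfl | rfl | rfl | rfl | rfl
  · rw [map_one, isConj_one_left, map_eq_one_iff _ h.inj] at y1; exact absurd y1 (by decide +kernel)
  · rw [show β * ζ = ρ * β * ρ⁻¹ by decide +kernel] at y2
    exact absurd (h.eq_of_conj (by simp) (by simp) (h1.trans ((isConj_map ρ β).trans y2.symm))) (by decide +kernel)
  · exact absurd (h.eq_of_conj (by simp) (by simp) y1) (by decide +kernel)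
  · exact n1 y1
  · exact n1 (y1.trans h1.symm)
  · exact n1 (y1.trans (h1.trans (isConj_map _ _)).symm)
  · exact n1 (y1.trans h2.symm)
  · exact n1 (y1.trans (h2.trans (isConj_map _ _)).symm)

theorem exists_M' (h : Hy σ) (h1 : ¬ IsConj (σ τ) (σ β)) : ∃ M : Subgroup G, M.index = 2 ∧ σ τ ∉ M := by
  obtain ⟨M, -, h2⟩ := H3.thompson_transfer (Q := (MonoidHom.fst ℤˣ (Perm (Fin 4))).ker.map σ) h.odd
    (u := σ τ) (by
      rw [← h.rng, MonoidHom.range_eq_map, relIndex_map_map_of_injective _ _ h.inj, relIndex_top_right, index_ker,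
        MonoidHom.range_eq_top.2 Prod.fst_surjective]; simp)
    (by rw [← map_pow, show τ ^ 2 = 1 by decide +kernel, map_one]) C1_self fun g ⟨y, hy, e⟩ => by
      have e1 : IsConj (σ τ) (σ y) := isConj_iff.2 ⟨g, e.symm⟩
      rcases d4 y hy (h.inj (by
        rw [map_mul, e, map_one]
        calc _ = g * σ (τ * τ) * g⁻¹ := by rw [map_mul]; group
          _ = 1 := by rw [show τ * τ = 1 by decide +kernel, map_one]; group)) with rfl | ⟨c, rfl | rfl⟩
      · rw [map_one, isConj_one_left, map_eq_one_iff _ h.inj] at e1; exact absurd e1 (by decide +kernel)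
      · exact absurd (h.eq_of_conj (by simp) (by simp) (e1.trans (isConj_map _ _).symm)) (by decide +kernel)
      · exact h1 (e1.trans (isConj_map _ _).symm)
  exact ⟨M, h2⟩

theorem exists_M (h : Hy σ) : ∃ M : Subgroup G, M.index = 2 ∧ σ τ ∉ M := by
  by_cases h1 : IsConj (σ τ) (σ β)
  · simpa [ατ] using h.tw.exists_M' (by simpa only [MonoidHom.comp_apply, ατ, αβ] using h.not_both h1)
  · exact h.exists_M' h1

theorem eight (h : Hy σ) (hu : u * u = 1) : 8 ∣ Nat.card C1(u) := by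
  obtain ⟨S, hS⟩ := h.syl
  obtain ⟨g, hg⟩ := H9.exists_conj_mem_sylow_two hu S
  obtain ⟨y, -, e⟩ := h.exz (hS ▸ hg : g * u * g⁻¹ ∈ C1(σ ζ))
  rw [← H10.card_C_congr (isConj_iff.2 ⟨g, e.symm⟩)]
  refine (d9 y (h.inj ?_)).trans (card_map_of_injective h.inj ▸ card_dvd_of_le ?_)
  · rw [map_mul, e, map_one]
    calc _ = g * (u * u) * g⁻¹ := by group
      _ = 1 := by rw [hu]; group
  · rintro _ ⟨x, hx, rfl⟩; exact mem_C1.2 (h.com.2 (mem_C1.1 hx))

theorem zM (hM : M.index = 2) : σ ζ ∈ M := by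
  rw [show ζ = ρ * ρ by decide +kernel, map_mul]; exact mul_self_mem_of_index_two hM _
theorem wM (hM : M.index = 2) : σ ω ∈ M := by
  rw [show ω = ω * ω * (ω * ω) by decide +kernel, map_mul]; exact mul_self_mem_of_index_two hM _

theorem top_of_card (h : Hy σ) (hM : M.index = 2) (hc : Nat.card M = 24) : C1(σ τ) = ⊤ :=
  eq_top_of_card_eq _ (by rw [h.cardt, ← M.index_mul_card, hM, hc])

theorem cent (h : Hy σ) (hM : M.index = 2) (hc : Nat.card M ≠ 24) (hu : u ∈ C(M)) : u = 1 := by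
  have h1 := (mem_C.1 hu _ (zM (σ := σ) hM)).symm
  obtain ⟨y, hy, rfl⟩ := h.exz (mem_C1.2 h1)
  rcases d6 y hy (h.com.1 (mem_C.1 hu _ (wM hM)).symm) with rfl | rfl
  · exact map_one σ
  have h2 := index_dvd_of_le (fun m hm => mem_C1.2 (mem_C.1 hu m hm) : M ≤ C1(σ τ))
  rw [hM, Nat.dvd_prime Nat.prime_two] at h2
  have h3 := C1(σ τ).index_mul_card
  rw [h2.resolve_right fun e => h.odd e.symm.dvd, h.cardt, ← M.index_mul_card, hM] at h3
  omega

theorem dih (h : Hy σ) (hM : M.index = 2) (ht : σ τ ∉ M) :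
    Nonempty ((C1((⟨σ ζ, zM hM⟩ : M)) : Subgroup M) ≃* DihedralGroup 4) := by
  obtain ⟨x, hx, xM⟩ : ∃ x ∈ [ρ, τ * ρ], σ x ∈ M := by
    by_cases e : σ ρ ∈ M
    · exact ⟨ρ, by simp, e⟩
    · exact ⟨τ * ρ, by simp, by rw [map_mul, mul_mem_iff_of_index_two hM]; exact iff_of_false ht e⟩
  obtain ⟨x1, x2, x3⟩ := d5 x hx
  have ho : orderOf (σ x) = 2 ^ (0 + 2) := by
    rw [orderOf_injective σ h.inj]; exact orderOf_eq_prime_pow (p := 2) (n := 1) x2 x1
  have k : ∀ g ∈ C1(σ ζ) ⊓ M, g ∉ zpowers (σ x) → g * g = 1 ∧ g * σ x * g⁻¹ = (σ x)⁻¹ := fun g hg hn => by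
    obtain ⟨y, hy, rfl⟩ := h.exz hg.1
    rcases d5' x hx y hy with ⟨i, rfl | rfl⟩ | ⟨e1, e2⟩
    · exact absurd (map_pow σ x i ▸ npow_mem_zpowers _ _) hn
    · have := (mem_inf.1 hg).2
      rw [map_mul, map_pow, mul_mem_cancel_right (pow_mem xM _)] at this
      exact absurd this ht
    · exact ⟨by rw [← map_mul, e1, map_one], by rw [← map_inv, ← map_inv, ← map_mul, ← map_mul, e2]⟩
  have xm : σ x ∈ C1(σ ζ) ⊓ M := ⟨mem_C1.2 (h.com.2 x3), xM⟩
  have h1 := card_mul_relIndex' (A := M) (B := C1(σ ζ))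
  have := normal_of_index_eq_two hM
  have h2 := (Nat.dvd_prime Nat.prime_two).1 (hM ▸ relIndex_dvd_index_of_normal M C1(σ ζ))
  rw [h.cardz, h2.resolve_left fun e => ht (relIndex_eq_one.1 e (mem_C1.2 (h.com.2 (d7 ζ).symm))), inf_comm] at h1
  have h3 := card_mul_relIndex (zpowers_le.2 xm)
  rw [Nat.card_zpowers, ho] at h3
  obtain ⟨e⟩ := H9.MC.equiv_dihedral (P := C1(σ ζ) ⊓ M) ⟨ho, xm, by omega, fun g hg hn => .inl (k g hg hn).2⟩
    fun g hg hn => (k g hg hn).1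
  refine ⟨((MulEquiv.subgroupCongr ?_).trans (subgroupOfEquivOfLe inf_le_right)).trans e⟩
  ext g; simp [mem_subgroupOf, mem_C1, Subtype.ext_iff]

theorem caseA (h : Hy σ) (hM : M.index = 2) (ht : σ τ ∉ M)
    (e : C1((⟨σ ζ, zM hM⟩ : M)) ⊔ oddCore M = ⊤) : False := by
  have h1 : (oddCore M).index ∣ 8 := by
    rw [← relIndex_top_right, ← e, relIndex_sup_right]
    exact relIndex_dvd.trans (by rw [Nat.card_congr (h.dih hM ht).some.toEquiv, DihedralGroup.nat_card])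
  obtain ⟨k, hk⟩ := h1
  have h2 : (⟨σ ω, wM hM⟩ : M) ^ 8 ∈ oddCore M := by rw [hk, pow_mul]; exact pow_mem (pow_index_mem _ _) _
  refine H9.odd_card_iff_forall.1 H9.odd_card_pPrimeCore ⁅(⟨σ ω, wM hM⟩ : M) ^ 8, ⟨σ ζ, zM hM⟩⁆
    (commutator_le_left _ ⊤ (commutator_mem_commutator h2 (mem_top _))) ?_
  rw [← orderOf_coe, show ((⁅(⟨σ ω, wM hM⟩ : M) ^ 8, (⟨σ ζ, zM hM⟩ : M)⁆ : M) : G) = σ ⁅ω ^ 8, ζ⁆ by
    simp [commutatorElement_def], orderOf_injective σ h.inj]
  exact orderOf_eq_prime (by decide +kernel) (by decide +kernel)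

theorem caseC (h : Hy σ) (hM : M.index = 2) (e : M ≃* Perm (Fin 5)) : False := by
  have hc : Nat.card M = 120 := by rw [Nat.card_congr e.toEquiv, Nat.card_perm, Nat.card_fin]; rfl
  have := normal_of_index_eq_two hM
  have h1 := C1(σ τ).index_mul_card
  rw [h.cardt, ← M.index_mul_card, hM, hc] at h1
  have h2 : C1(σ τ).normalCore.index ∣ 120 := by
    rw [normalCore_eq_ker, index_ker]
    refine (card_subgroup_dvd_card _).trans ?_
    rw [Nat.card_perm, ← index_eq_card, show C1(σ τ).index = 5 by omega]; decide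
  have h3 : Disjoint C1(σ τ).normalCore M := by
    by_contra e3
    have : ((C1(σ τ).normalCore.subgroupOf M).map e.toMonoidHom).Normal := Normal.map inferInstance _ e.surjective
    have h4 := card_dvd_of_le (Perm.alternatingGroup_le_of_normal (α := Fin 5) (by simp)
      (N := (C1(σ τ).normalCore.subgroupOf M).map e.toMonoidHom)
      ((nontrivial_iff_ne_bot _).2 fun e4 => e3 (subgroupOf_eq_bot.1 ((map_eq_bot_iff_of_injective _ e.injective).1 e4))))
    rw [card_map_of_injective e.injective, ← inf_subgroupOf_right,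
      Nat.card_congr (subgroupOfEquivOfLe inf_le_right).toEquiv] at h4
    have h5 := mul_dvd_mul_left 2 (h4.trans (h.cardt ▸ card_dvd_of_le (inf_le_left.trans (normalCore_le _))))
    rw [two_mul_nat_card_alternatingGroup, Nat.card_perm, Nat.card_fin] at h5
    exact absurd h5 (by decide)
  have h4 : C1(σ τ).normalCore = ⊥ := eq_bot_iff.2 fun k hk => h.cent hM (by omega) (mem_C.2 fun m hm =>
    (commute_of_normal_of_disjoint _ _ inferInstance this h3 k m hk hm).symm)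
  rw [h4, index_bot, ← M.index_mul_card, hM, hc] at h2
  omega

theorem caseD (h : Hy σ) (hM : M.index = 2) [IsSimpleGroup M] (hc : Nat.card M = 168) : False := by
  have hG : Nat.card G = 336 := by rw [← M.index_mul_card, hM, hc]
  have : Fact (Nat.Prime 7) := ⟨by decide⟩
  obtain ⟨⟨y, yM⟩, hy⟩ := exists_prime_orderOf_dvd_card' (G := M) 7 (by rw [hc]; decide)
  rw [← orderOf_coe] at hy
  have h1 : Nat.card (zpowers y) = 7 := by rw [Nat.card_zpowers]; exact hy
  have h2 := (zpowers y).index_mul_card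
  rw [h1, hG] at h2
  let P : Sylow 7 G := (IsPGroup.of_card (n := 1) h1).toSylow (by omega)
  have h3 : Nat.card (Sylow 7 G) ∣ 48 := (show (zpowers y).index = 48 by omega) ▸ P.card_dvd_index
  have h4 := card_sylow_modEq_one 7 G
  have h5 := P.card_eq_index_normalizer
  have h6 : Nat.card (Sylow 7 G) = 1 + 1 * 7 := by
    by_contra e
    have : Nat.card (Sylow 7 G) = 1 := by
      have := Nat.le_of_dvd (by decide) h3
      unfold Nat.ModEq at h4
      generalize Nat.card (Sylow 7 G) = n at *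
      interval_cases n <;> omega
    rw [h5, index_eq_one] at this
    have hn : (zpowers y).Normal := normalizer_eq_top_iff.1 this
    have h7 := Nat.card_congr (subgroupOfEquivOfLe (zpowers_le.2 yM)).toEquiv
    rcases IsSimpleGroup.eq_bot_or_eq_top_of_normal ((zpowers y).subgroupOf M) inferInstance with e | e <;>
      simp [e, h1, hc] at h7
  have h7 := N(P).index_mul_card
  rw [← h5, h6, hG] at h7
  obtain ⟨u, uN, hu⟩ := H9.exists_involution_mem (H := N(P)) (by rw [Nat.even_iff]; omega)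
  have h8 := h.eight (H9.mul_self_of_orderOf hu)
  by_cases uC : u ∈ C(zpowers y)
  · have h9 := card_dvd_of_le (fun x hx => mem_C1.2 (mem_C.1 uC x hx) : zpowers y ≤ C1(u))
    have e1 := C1(u).index_mul_card
    rw [h1] at h9
    obtain ⟨k, hk⟩ := Nat.Coprime.mul_dvd_of_dvd_of_dvd (by decide) h8 h9
    have e2 : C1(u).index * k = 6 := by rw [hG, hk, mul_left_comm] at e1; omega
    have e3 : C1(u).relIndex M ≤ 6 := (relIndex_le_of_le_right le_top (by
      rw [relIndex_top_right]; exact FiniteIndex.index_ne_zero)).trans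
      (relIndex_top_right C1(u) ▸ Nat.le_of_dvd (by decide) ⟨k, e2.symm⟩)
    have := (H9.card_dvd_factorial_index (H := C1(u).subgroupOf M) fun e => H9.ne_one_of_orderOf hu
      (h.cent hM (by omega) (mem_C.2 fun m hm => mem_C1.1 (subgroupOf_eq_top.1 e hm)))).trans
      (Nat.factorial_dvd_factorial e3)
    rw [hc] at this; exact absurd this (by decide)
  have e1 := H10.card_fixedBy_le_card_orbits (Ω := Sylow 7 G) Fact.out (P := (P : Subgroup G)) h1 uN uC
  rw [H10.card_orbits_sylow P h1 h6] at e1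
  have e2 := (Set.ncard_le_ncard (s := MulAction.orbit C1(u) P) (t := MulAction.fixedBy (Sylow 7 G) u)
    (by
      rintro _ ⟨⟨c, hc⟩, rfl⟩
      change u • c • P = c • P
      rw [← mul_smul, ← mem_C1.1 hc, mul_smul, Sylow.smul_eq_iff_mem_normalizer.2 uN])).trans e1
  rw [← MulAction.index_stabilizer] at e2
  have e3 := (MulAction.stabilizer C1(u) P).index_mul_card
  have e4 := card_dvd_of_le (show (MulAction.stabilizer C1(u) P).map C1(u).subtype ≤ N(P) by
    rintro _ ⟨c, hc, rfl⟩; exact Sylow.smul_eq_iff_mem_normalizer.1 hc)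
  rw [card_map_of_injective C1(u).subtype_injective, show Nat.card N(P) = 42 by omega] at e4
  have e5 : (MulAction.stabilizer C1(u) P).index ≠ 0 := FiniteIndex.index_ne_zero
  rw [← e3] at h8
  generalize (MulAction.stabilizer C1(u) P).index = i at *
  generalize Nat.card (MulAction.stabilizer C1(u) P) = j at *
  have : 2 ∣ j ∧ 4 ∣ j := by interval_cases i <;> omega
  exact absurd (this.2.trans e4) (by decide)

end Hy

theorem a6 (φ : MulAut (alternatingGroup (Fin 6))) {w : alternatingGroup (Fin 6)} (hw : orderOf w = 3)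
    (e : φ w = w) : ∃ s : Perm (Fin 6), MulAut.conjNormal s = φ := by
  let w0 : alternatingGroup (Fin 6) := ⟨swap 0 1 * swap 1 2 * (swap 3 4 * swap 4 5), by simp⟩
  have k0 : ∀ a : alternatingGroup (Fin 6), orderOf a = 3 → ¬ (a : Perm (Fin 6)).IsThreeCycle →
      (a : Perm (Fin 6)).cycleType = {3, 3} := fun a ha hn => by
    rw [← orderOf_coe] at ha
    obtain ⟨n, e⟩ := Perm.cycleType_prime_order (σ := (a : Perm (Fin 6))) (by rw [ha]; decide)
    have := (a : Perm (Fin 6)).sum_cycleType_le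
    rw [e, ha] at this
    simp at this
    obtain rfl | rfl : n = 0 ∨ n = 1 := by omega
    · exact absurd (by rw [Perm.IsThreeCycle, e, ha]; rfl) hn
    · rw [e, ha]; rfl
  have k : ∀ a : alternatingGroup (Fin 6), orderOf a = 3 → ¬ (a : Perm (Fin 6)).IsThreeCycle → IsConj w0 a :=
    fun a ha hn => by
    obtain ⟨c, hc⟩ := isConj_iff.1 (Perm.isConj_iff_cycleType_eq.2 ((k0 w0
      (orderOf_eq_prime (by decide +kernel) (by decide +kernel)) fun e =>
      absurd e.card_support (by decide +kernel)).trans (k0 a ha hn).symm))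
    rcases Int.units_eq_one_or (Perm.sign c) with h | h
    · exact isConj_iff.2 ⟨⟨c, h⟩, Subtype.ext hc⟩
    · let s : Perm (Fin 6) := swap 0 3 * swap 1 4 * swap 2 5
      refine isConj_iff.2 ⟨⟨c * s, by simp [h, s]⟩, Subtype.ext ?_⟩
      have : s * w0.1 * s⁻¹ = w0.1 := by decide +kernel
      change c * s * w0.1 * (c * s)⁻¹ = a.1
      rw [← hc]; nth_rewrite 2 [← this]; group
  have k3 : ∀ a b : alternatingGroup (Fin 6), IsConj a b → (a : Perm (Fin 6)).IsThreeCycle →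
      (b : Perm (Fin 6)).IsThreeCycle := fun a b h ha =>
    (Perm.isConj_iff_cycleType_eq.1 ((alternatingGroup (Fin 6)).subtype.map_isConj h)).symm.trans ha
  refine exists_conj_of_threeCycle (by simp) φ fun g hg => ?_
  by_cases h3 : (w : Perm (Fin 6)).IsThreeCycle
  · exact k3 _ _ (φ.toMonoidHom.map_isConj (alternatingGroup.isThreeCycle_isConj (by simp) h3 hg))
      (by simpa [e] using h3)
  by_contra hn
  have := φ.symm.toMonoidHom.map_isConj ((k _ (by rw [MulEquiv.orderOf_eq, ← orderOf_coe, hg.orderOf]) hn).symm.trans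
    (by rw [e]; exact k w hw h3 : IsConj w0 (φ w)))
  exact h3 (k3 _ _ (by simpa using this) hg)

theorem Hy.caseE (h : Hy σ) (hM : M.index = 2) (ht : σ τ ∉ M) (e : M ≃* alternatingGroup (Fin 6)) :
    Nonempty (G ≃* Perm (Fin 6)) := by
  have := normal_of_index_eq_two hM
  have hc : 2 * Nat.card M = 720 := by
    rw [Nat.card_congr e.toEquiv, two_mul_nat_card_alternatingGroup, Nat.card_perm, Nat.card_fin]; rfl
  let Φ := (MulAut.congr e).toMonoidHom.comp (MulAut.conjNormal (H := M))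
  let Ψ : Perm (Fin 6) →* _ := MulAut.conjNormal (H := alternatingGroup (Fin 6))
  have k1 : M ≤ Ψ.range.comap Φ := fun m hm => ⟨e ⟨m, hm⟩, by
    ext1 a
    obtain ⟨b, rfl⟩ := e.surjective a
    have : MulAut.conjNormal m b = ⟨m, hm⟩ * b * (⟨m, hm⟩ : M)⁻¹ := Subtype.ext (by simp)
    exact Subtype.ext (by simp [Φ, Ψ, this])⟩
  have k2 : σ τ ∈ Ψ.range.comap Φ := a6 (w := e ⟨σ ω, Hy.wM hM⟩) _ (by
    rw [MulEquiv.orderOf_eq, ← orderOf_coe, orderOf_injective σ h.inj]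
    exact orderOf_eq_prime (by decide +kernel) (by decide +kernel)) (by
    have : MulAut.conjNormal (σ τ) (⟨σ ω, Hy.wM hM⟩ : M) = ⟨σ ω, Hy.wM hM⟩ :=
      Subtype.ext (by simp [← h.com.2 (d7 ω)])
    simp [Φ, this])
  have k : ∀ g, Φ g ∈ Ψ.range := fun g => by
    by_cases hg : g ∈ M
    · exact k1 hg
    · exact (mul_mem_cancel_left k2).1 (k1 ((mul_mem_iff_of_index_two hM).2 (iff_of_false ht hg)))
  let θ := (MonoidHom.ofInjective (f := Ψ) (conjNormal_alt_injective (by simp))).symm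
  refine H10.equiv_perm_of_injective (θ.toMonoidHom.comp (Φ.codRestrict _ k))
    (θ.injective.comp ((Φ.injective_codRestrict _ k).2 ((MulAut.congr e).injective.comp
      ((injective_iff_map_eq_one (MulAut.conjNormal (H := M))).2 fun g hg => h.cent hM (by omega) ?_))))
    (by rw [← M.index_mul_card, hM, hc]; rfl)
  exact mem_C.2 fun m hm => (mul_inv_eq_iff_eq_mul.1 (show g * m * g⁻¹ = m by
    simpa using congrArg Subtype.val (DFunLike.congr_fun hg ⟨m, hm⟩))).symm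

theorem Hy.main (h : Hy σ) : C1(σ τ) = ⊤ ∨ Nonempty (G ≃* Perm (Fin 6)) := by
  obtain ⟨M, hM, ht⟩ := h.exists_M
  rcases Cfsg.Agent.S3035.result (⟨σ ζ, Hy.zM hM⟩ : M) (by
    rw [← orderOf_coe, orderOf_injective σ h.inj]
    exact orderOf_eq_prime (by decide +kernel) (by decide +kernel)) (h.dih hM ht) with e | ⟨⟨e⟩⟩ | ⟨⟨e⟩⟩ | ⟨⟨e⟩⟩ | ⟨⟨e⟩⟩
  · exact (h.caseA hM ht e).elim
  · exact .inl (h.top_of_card hM (by rw [Nat.card_congr e.toEquiv, Nat.card_perm, Nat.card_fin]; rfl))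
  · exact (h.caseC hM e).elim
  · have := H10.PSL_isSimpleGroup (ι := Fin 3) (F := ZMod 2) (by simp)
    have := (e.trans Cfsg.Agent.S3035.sl3.some.symm).isSimpleGroup
    have h1 := H10.card_SL (F := ZMod 2) 3 (by decide)
    refine (h.caseD hM ?_).elim
    rw [Nat.card_congr e.toEquiv]
    simpa [Fin.prod_univ_three] using h1
  · exact .inr (h.caseE hM ht e)

end H2.ZS
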